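import Mathlib
import Cfsg.Agent.Lib.MinimalNormal
import Cfsg.Agent.Lib.PSolvable.Core

/-!
A solvable non-abelian group has either a non-abelian `p`-quotient or a Frobenius quotient with
abelian kernel and abelian complement (Isaacs, Lemma 12.3).
-/

set_option autoImplicit false

namespace Cfsg.Agent.Lib.SolvDegrees

open Subgroup
open scoped commutatorElement

variable {G : Type*} [Group G]

/-- `L/K` is an abelian normal `s`-section with abelian quotient `G/L ≠ 1` acting fixed point
freely. -/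
structure FrobSection (K L : Subgroup G) (s : ℕ) : Prop where
  hKn : K.Normal
  hLn : L.Normal
  hle : K ≤ L
  hne : K ≠ L
  htop : L ≠ ⊤
  hprime : s.Prime
  hcard : ∃ a, K.relIndex L = s ^ a
  habL : ∀ a ∈ L, ∀ b ∈ L, ⁅a, b⁆ ∈ K
  habG : ∀ a b : G, ⁅a, b⁆ ∈ L
  fpf : ∀ g, g ∉ L → ∀ l ∈ L, ⁅g, l⁆ ∈ K → l ∈ K

theorem exists_pQuotient_or_frobSection [Finite G] [Group.IsSolvable G]
    (hna : ∃ a b : G, a * b ≠ b * a) :
    (∃ (K : Subgroup G) (_ : K.Normal) (p : ℕ), p.Prime ∧ IsPGroup p (G ⧸ K) ∧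
      ∃ a b : G ⧸ K, a * b ≠ b * a) ∨
    ∃ (K L : Subgroup G) (s : ℕ), FrobSection K L s := by
  classical
  obtain ⟨K, hK⟩ := (Set.toFinite {K : Subgroup G | K.Normal ∧ ¬ commutator G ≤ K}).exists_maximal
    ⟨⊥, inferInstance, fun h => by
      obtain ⟨a, b, hab⟩ := hna
      exact hab (commutatorElement_eq_one_iff_mul_comm.1
        (mem_bot.1 (h (commutator_mem_commutator (mem_top a) (mem_top b)))))⟩
  obtain ⟨hKn, hKc⟩ := hK.1
  haveI := hKn
  set π := QuotientGroup.mk' K
  have hπ : Function.Surjective π := QuotientGroup.mk'_surjective K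
  set Lb := commutator (G ⧸ K) with hLb
  have hLbmap : (commutator G).map π = Lb := by
    rw [hLb, commutator_def, commutator_def, map_commutator, ← MonoidHom.range_eq_map,
      MonoidHom.range_eq_top.2 hπ]
  have hne : Lb ≠ ⊥ := by
    intro h
    rw [← hLbmap, Subgroup.map_eq_bot_iff, QuotientGroup.ker_mk'] at h
    exact hKc h
  have huniq : ∀ M : Subgroup (G ⧸ K), M.Normal → M ≠ ⊥ → Lb ≤ M := by
    intro M hM hMne
    by_contra hnle
    have h1 : K ≤ M.comap π := QuotientGroup.le_comap_mk' K M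
    have h2 : M.comap π ≤ K := hK.2 ⟨hM.comap π, fun h => hnle (by
      rw [← hLbmap, map_le_iff_le_comap]; exact h)⟩ h1
    apply hMne
    rw [← map_comap_eq_self_of_surjective hπ M, le_antisymm h2 h1, QuotientGroup.map_mk'_self]
  haveI : Lb.Normal := inferInstance
  obtain ⟨hLab, s, hs, hse⟩ := MinimalNormal.elementaryAbelian Lb hne fun M hM hMle => by
    by_cases h : M = ⊥
    · exact Or.inl h
    · exact Or.inr (le_antisymm hMle (huniq M hM h))
  haveI := hLab
  have hcomm : ∀ a b : G ⧸ K, ⁅a, b⁆ ∈ Lb := fun a b =>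
    commutator_mem_commutator (mem_top a) (mem_top b)
  by_cases hcen : Lb ≤ center (G ⧸ K)
  · -- nilpotent with one minimal normal subgroup
    left
    refine ⟨K, hKn, s, hs, ?_, ?_⟩
    · haveI : Fact s.Prime := ⟨hs⟩
      haveI : Group.IsNilpotent (G ⧸ K) := by
        refine Subgroup.nilpotent_iff_lowerCentralSeries.2 ⟨2, eq_bot_iff.2 ?_⟩
        rw [Subgroup.lowerCentralSeries_succ, Subgroup.lowerCentralSeries_succ,
          Subgroup.lowerCentralSeries_zero, commutator_le]
        intro x hx y _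
        rw [mem_bot, commutatorElement_eq_one_iff_mul_comm]
        exact (mem_center_iff.1 (hcen ((commutator_le.2 fun a _ b _ => hcomm a b) hx)) y).symm
      have hdvd : ∀ q : ℕ, q.Prime → q ∣ Nat.card (G ⧸ K) → q = s := by
        intro q hq hqd
        haveI : Fact q.Prime := ⟨hq⟩
        obtain ⟨Q⟩ : Nonempty (Sylow q (G ⧸ K)) := inferInstance
        have hQn : (Q : Subgroup (G ⧸ K)).Normal :=
          Q.normal_of_normalizerCondition Group.normalizerCondition_of_isNilpotent
        obtain ⟨z, hzL, hz1⟩ := (bot_or_exists_ne_one Lb).resolve_left hne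
        have hzQ : z ∈ (Q : Subgroup (G ⧸ K)) :=
          huniq _ hQn (fun h => Q.ne_bot_of_dvd_card hqd h) hzL
        obtain ⟨k, hk⟩ := IsPGroup.iff_orderOf.1 Q.isPGroup' ⟨z, hzQ⟩
        rw [orderOf_mk] at hk
        have hzs : orderOf z = s := orderOf_eq_prime (hse z hzL) hz1
        rw [hzs] at hk
        exact ((Nat.prime_dvd_prime_iff_eq hs hq).1 (hs.dvd_of_dvd_pow (dvd_of_eq hk))).symm
      refine IsPGroup.iff_card.2 ⟨(Nat.card (G ⧸ K)).primeFactorsList.length, ?_⟩
      conv_lhs => rw [← Nat.prod_primeFactorsList (Nat.card_pos (α := G ⧸ K)).ne']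
      rw [List.prod_eq_pow_card _ s fun q hq => hdvd q (Nat.prime_of_mem_primeFactorsList hq)
        (Nat.dvd_of_mem_primeFactorsList hq)]
    · by_contra h
      push Not at h
      exact hne ((commutator_eq_bot_iff_le_centralizer (H₁ := ⊤) (H₂ := ⊤)).2 fun a _ =>
        mem_centralizer_iff.2 fun b _ => h b a)
  · -- Frobenius quotient
    right
    have hLcomm : ∀ a ∈ Lb, ∀ b ∈ Lb, a * b = b * a := fun a ha b hb =>
      congrArg Subtype.val (mul_comm' (⟨a, ha⟩ : Lb) ⟨b, hb⟩)
    set C := centralizer (Lb : Set (G ⧸ K))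
    -- every element centralises all of `Lb` or nothing in it
    have hfix : ∀ x : G ⧸ K, x ∉ C → ∀ l ∈ Lb, Commute x l → l = 1 := by
      intro x hxC l hl hxl
      let M := Lb ⊓ centralizer ({x} : Set (G ⧸ K))
      have hMn : M.Normal := by
        refine ⟨fun n hn g => ?_⟩
        obtain ⟨hnL, hnx⟩ := hn
        refine ⟨Normal.conj_mem inferInstance n hnL g, mem_centralizer_singleton_iff.2 ?_⟩
        have hnx : n * x = x * n := mem_centralizer_singleton_iff.1 hnx
        have hc := hcomm g⁻¹ x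
        have h3 : g⁻¹ * x * g = ⁅g⁻¹, x⁆ * x := by rw [commutatorElement_def]; group
        have h4 : n * (g⁻¹ * x * g) = g⁻¹ * x * g * n := by
          rw [h3, ← mul_assoc, hLcomm n hnL _ hc, mul_assoc, hnx, mul_assoc]
        calc g * n * g⁻¹ * x = g * (n * (g⁻¹ * x * g)) * g⁻¹ := by group
          _ = g * (g⁻¹ * x * g * n) * g⁻¹ := by rw [h4]
          _ = x * (g * n * g⁻¹) := by group
      by_contra hl1
      refine hxC (mem_centralizer_iff.2 fun y hy => ?_)
      have hle := huniq M hMn fun h =>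
        hl1 (mem_bot.1 (h ▸ (⟨hl, mem_centralizer_singleton_iff.2 hxl.symm.eq⟩ : l ∈ M)))
      exact mem_centralizer_singleton_iff.1 (hle hy).2
    have hLC : Lb ≤ C := fun a ha => mem_centralizer_iff.2 fun b hb => hLcomm b hb a ha
    obtain ⟨x, hxC⟩ : ∃ x, x ∉ C := by
      by_contra h
      push Not at h
      exact hcen fun l hl => mem_center_iff.2 fun g => (mem_centralizer_iff.1 (h g) l hl).symm
    -- `D = C ∩ C(x)` is normal and meets `Lb` trivially
    have hD : C ⊓ centralizer ({x} : Set (G ⧸ K)) = ⊥ := by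
      by_contra hDne
      have hDn : (C ⊓ centralizer ({x} : Set (G ⧸ K))).Normal := by
        refine ⟨fun n hn g => ⟨Normal.conj_mem inferInstance n hn.1 g,
          mem_centralizer_singleton_iff.2 ?_⟩⟩
        have hnx : n * x = x * n := mem_centralizer_singleton_iff.1 hn.2
        have hc := mem_centralizer_iff.1 hn.1 _ (hcomm g⁻¹ x)
        have h3 : g⁻¹ * x * g = ⁅g⁻¹, x⁆ * x := by rw [commutatorElement_def]; group
        have h4 : n * (g⁻¹ * x * g) = g⁻¹ * x * g * n := by
          rw [h3, ← mul_assoc, ← hc, mul_assoc, hnx, mul_assoc]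
        calc g * n * g⁻¹ * x = g * (n * (g⁻¹ * x * g)) * g⁻¹ := by group
          _ = g * (g⁻¹ * x * g * n) * g⁻¹ := by rw [h4]
          _ = x * (g * n * g⁻¹) := by group
      obtain ⟨l, hl, hl1⟩ := (bot_or_exists_ne_one Lb).resolve_left hne
      exact hl1 (hfix x hxC l hl
        (mem_centralizer_singleton_iff.1 (huniq _ hDn hDne hl).2).symm)
    have hCL : C ≤ Lb := by
      let δ : C → Lb := fun c => ⟨⁅x, (c : G ⧸ K)⁆, hcomm _ _⟩
      have hinj : Function.Injective δ := by
        intro c d h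
        have h1 : ⁅x, (c : G ⧸ K)⁆ = ⁅x, (d : G ⧸ K)⁆ := congrArg Subtype.val h
        -- `c⁻¹ d` centralises `x`
        have h2 : (c : G ⧸ K)⁻¹ * d ∈ C ⊓ centralizer ({x} : Set (G ⧸ K)) := by
          refine ⟨C.mul_mem (C.inv_mem c.2) d.2, mem_centralizer_singleton_iff.2 ?_⟩
          have e1 : ∀ u v : G ⧸ K, ⁅x, u * v⁆ = ⁅x, u⁆ * (u * ⁅x, v⁆ * u⁻¹) := fun u v => by
            simp only [commutatorElement_def]; group
          have e2 := e1 (c : G ⧸ K) ((c : G ⧸ K)⁻¹ * d)
          rw [mul_inv_cancel_left, ← mem_centralizer_iff.1 c.2 _ (hcomm _ _), mul_inv_cancel_right,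
            h1, left_eq_mul, commutatorElement_eq_one_iff_mul_comm] at e2
          exact e2.symm
        rw [hD, mem_bot, inv_mul_eq_one] at h2
        exact Subtype.ext h2
      have hcard := Nat.card_le_card_of_injective δ hinj
      exact (Subgroup.eq_of_le_of_card_ge hLC hcard).ge
    refine ⟨K, Lb.comap π, s, hKn, inferInstance, QuotientGroup.le_comap_mk' K Lb, ?_, ?_, hs,
      ?_, ?_, ?_, ?_⟩
    · intro h
      apply hne
      rw [← map_comap_eq_self_of_surjective hπ Lb, ← h, QuotientGroup.map_mk'_self]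
    · intro h
      exact hxC (hLC (by
        have : Lb = ⊤ := by rw [← map_comap_eq_self_of_surjective hπ Lb, h, ← MonoidHom.range_eq_map,
          MonoidHom.range_eq_top.2 hπ]
        rw [this]; trivial))
    · haveI : Fact s.Prime := ⟨hs⟩
      obtain ⟨a, ha⟩ := IsPGroup.iff_card.1 (show IsPGroup s Lb from fun z =>
        ⟨1, Subtype.ext (by simpa using hse z z.2)⟩)
      refine ⟨a, ?_⟩
      rw [← ha]
      have h := relIndex_ker π (K := Lb.comap π)
      rwa [map_comap_eq_self_of_surjective hπ, QuotientGroup.ker_mk'] at h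
    · intro a ha b hb
      rw [← QuotientGroup.eq_one_iff, ← QuotientGroup.mk'_apply, map_commutatorElement,
        commutatorElement_eq_one_iff_mul_comm]
      exact hLcomm _ ha _ hb
    · intro a b
      rw [mem_comap, map_commutatorElement]
      exact hcomm _ _
    · intro g hg l hl hgl
      rw [← QuotientGroup.eq_one_iff, ← QuotientGroup.mk'_apply, map_commutatorElement,
        commutatorElement_eq_one_iff_mul_comm] at hgl
      rw [← QuotientGroup.eq_one_iff]
      exact hfix (π g) (fun h => hg (hCL h)) (π l) hl hgl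

end Cfsg.Agent.Lib.SolvDegrees
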