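import Mathlib
import Cfsg.Agent.Lib.SolvDegrees.Quotient
import Cfsg.Agent.Lib.CoprimeDegree
import Cfsg.Agent.Lib.Clifford.Gallagher
import Cfsg.Agent.Lib.Clifford.Correspondence
import Cfsg.Agent.Lib.Chars.Integral
import Cfsg.Agent.Lib.Chars.Ops

/-!
Degrees over a Frobenius section (Isaacs, Theorem 12.4).
-/

set_option autoImplicit false

namespace Cfsg.Agent.Lib.SolvDegrees

open Subgroup Cfsg
open scoped commutatorElement
open Cfsg.Agent.Lib

/-- `n` is the value at `1` of an irreducible character. -/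
def HasDeg (G : Type*) [Group G] (n : ℕ) : Prop := ∃ χ : IrrCharacter G, (χ : G → ℂ) 1 = n

variable {G : Type*} [Group G] [Fintype G]

/-- The linear characters of `N` trivial on a normal `K`, as twists of an extension. -/
theorem exists_hom_of_resFun_eq (K : Subgroup G) [K.Normal] [Fintype K] {φ ψ : G → ℂ}
    (hφ : IsIrrCharacter G φ) (hψ : IsIrrCharacter G ψ)
    (hφK : IsIrrCharacter K (Clifford.resFun K φ))
    (h : Clifford.resFun K ψ = Clifford.resFun K φ) :
    ∃ μ : G →* ℂˣ, (∀ k ∈ K, μ k = 1) ∧ ψ = fun g => (μ g : ℂ) * φ g := by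
  obtain ⟨β, hβ⟩ := ((Clifford.gallagher hφ hφK).2.2 ψ hψ).1 (by
    rw [h, Chars.classInner_irr_self ⟨_, hφK⟩]; exact one_ne_zero)
  have h1 := congrFun h 1
  rw [hβ] at h1
  simp only [Clifford.resFun_apply, Pi.mul_apply, OneMemClass.coe_one] at h1
  have hb1 : (β : G ⧸ K → ℂ) 1 = 1 := by
    have h2 : (Chars.inflate K β : G → ℂ) 1 = 1 :=
      (mul_eq_left₀ (Chars.irr_apply_one_ne_zero ⟨φ, hφ⟩)).1 h1
    exact h2
  obtain ⟨f, hf⟩ := Chars.exists_hom_of_degree_one (Chars.irr_isCharacter β) hb1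
  refine ⟨f.comp (QuotientGroup.mk' K), fun k hk => ?_, funext fun g => ?_⟩
  · rw [MonoidHom.comp_apply, QuotientGroup.mk'_apply, (QuotientGroup.eq_one_iff k).2 hk, map_one]
  · rw [hβ, Pi.mul_apply, mul_comm (φ g)]
    congr 1
    exact congrFun hf (g : G ⧸ K)

theorem hom_eq_of_mul_eq (K : Subgroup G) [K.Normal] [Fintype K] {φ : G → ℂ}
    (hφ : IsIrrCharacter G φ) (hφK : IsIrrCharacter K (Clifford.resFun K φ)) {μ ν : G →* ℂˣ}
    (hμ : ∀ k ∈ K, μ k = 1) (hν : ∀ k ∈ K, ν k = 1)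
    (h : (fun g => (μ g : ℂ) * φ g) = fun g => (ν g : ℂ) * φ g) : μ = ν := by
  have hK : ∀ σ : G →* ℂˣ, (∀ k ∈ K, σ k = 1) → K ≤ σ.ker := fun σ hσ k hk => hσ k hk
  have key : ∀ (σ : G →* ℂˣ) (hσ : ∀ k ∈ K, σ k = 1),
      φ * (Chars.inflate K (Chars.linIrr (QuotientGroup.lift K σ (hK σ hσ))) : G → ℂ) =
        fun g => (σ g : ℂ) * φ g := fun σ hσ => funext fun g => mul_comm _ _
  have h1 := (Clifford.gallagher hφ hφK).2.1 ((key μ hμ).trans (h.trans (key ν hν).symm))
  have h2 := Chars.linIrr_injective h1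
  ext g
  exact congrArg Units.val (DFunLike.congr_fun h2 (g : G ⧸ K))

theorem hasDeg_dvd_of_constituent (L : Subgroup G) [L.Normal] [Fintype L] (χ : IrrCharacter G)
    {c : ℕ} (hc : (χ : G → ℂ) 1 = c) :
    ∃ (φ : IrrCharacter L) (d : ℕ), (φ : L → ℂ) 1 = d ∧ 0 < d ∧ d ∣ c ∧ c ∣ L.index * d := by
  have hch : IsCharacter L (Clifford.resFun L (χ : G → ℂ)) :=
    Chars.isCharacter_restrict L (Chars.irr_isCharacter χ)
  obtain ⟨θ, hθ⟩ : ∃ θ : IrrCharacter L,
      classInner (Clifford.resFun L (χ : G → ℂ)) (θ : L → ℂ) ≠ 0 := by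
    by_contra! h0
    have := congrFun (Chars.isCharacter_eq_sum_classInner hch) 1
    simp [h0, Clifford.resFun_apply, Chars.irr_apply_one_ne_zero] at this
  obtain ⟨d, hd0, hd⟩ := Chars.isIrrCharacter_exists_degree_pos θ.2
  obtain ⟨h1, h2⟩ := S0887.result L _ χ.2 _ θ.2 hθ c d hc hd
  refine ⟨θ, d, hd, hd0, h1, ?_⟩
  obtain ⟨e, rfl⟩ := h1
  rw [Nat.mul_div_cancel_left _ hd0] at h2
  rw [mul_comm L.index]
  exact Nat.mul_dvd_mul_left d h2

theorem mul_index_hasDeg {K L : Subgroup G} {s : ℕ} (h : FrobSection K L s) [Fintype L]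
    (φ : IrrCharacter L) {d : ℕ} (hd : (φ : L → ℂ) 1 = d) (hsd : ¬ s ∣ d) :
    HasDeg G (L.index * d) := by
  classical
  haveI := h.hKn
  haveI := h.hLn
  set K' : Subgroup L := K.subgroupOf L with hK'
  have hcop : d.Coprime K'.index := by
    obtain ⟨a, ha⟩ := h.hcard
    show d.Coprime (K.relIndex L)
    rw [ha]
    exact ((h.hprime.coprime_iff_not_dvd.2 hsd).symm).pow_right a
  have hφK := CoprimeDegree.resFun_irreducible K' φ hd hcop
  let Tw : (L →* ℂˣ) → L → ℂ := fun μ n => (μ n : ℂ) * (φ : L → ℂ) n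
  let Kill : (L →* ℂˣ) → Prop := fun μ => ∀ k ∈ K', μ k = 1
  -- conjugation of a linear character
  let cj : G → (L →* ℂˣ) → (L →* ℂˣ) := fun g μ =>
    μ.comp (MulAut.conjNormal g : MulAut L).toMonoidHom
  have hcjK : ∀ g μ, Kill μ → Kill (cj g μ) := fun g μ hμ k hk =>
    hμ _ (show g * ((k : L) : G) * g⁻¹ ∈ K from h.hKn.conj_mem _ hk g)
  -- an element outside `L` fixes at most one twist
  have huniq : ∀ g, g ∉ L → ∀ μ ν, Kill μ → Kill ν → Clifford.conjFun g (Tw μ) = Tw μ →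
      Clifford.conjFun g (Tw ν) = Tw ν → μ = ν := by
    intro g hg μ ν hμ hν e1 e2
    have e3 : (fun n => ((μ * cj g ν) n : ℂ) * (φ : L → ℂ) n) =
        fun n => ((ν * cj g μ) n : ℂ) * (φ : L → ℂ) n := funext fun n => by
      let n' : L := MulAut.conjNormal g n
      have a1 : (μ n' : ℂ) * (φ : L → ℂ) n' = (μ n : ℂ) * (φ : L → ℂ) n := congrFun e1 n
      have a2 : (ν n' : ℂ) * (φ : L → ℂ) n' = (ν n : ℂ) * (φ : L → ℂ) n := congrFun e2 n
      show ((μ n * ν n' : ℂˣ) : ℂ) * _ = ((ν n * μ n' : ℂˣ) : ℂ) * _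
      rw [Units.val_mul, Units.val_mul]
      calc (μ n : ℂ) * ν n' * (φ : L → ℂ) n = ν n' * ((μ n : ℂ) * (φ : L → ℂ) n) := by ring
        _ = (μ n' : ℂ) * ((ν n' : ℂ) * (φ : L → ℂ) n') := by rw [← a1]; ring
        _ = _ := by rw [a2]; ring
    have e4 := hom_eq_of_mul_eq K' φ.2 hφK
      (fun k hk => by rw [MonoidHom.mul_apply, hμ k hk, hcjK g ν hν k hk, one_mul])
      (fun k hk => by rw [MonoidHom.mul_apply, hν k hk, hcjK g μ hμ k hk, one_mul]) e3
    set σ := μ / ν with hσdef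
    have hσK : Kill σ := fun k hk => by rw [hσdef, MonoidHom.div_apply, hμ k hk, hν k hk, div_one]
    have hσ : ∀ n, σ (MulAut.conjNormal g n) = σ n := fun n => by
      have := DFunLike.congr_fun e4 n
      rw [MonoidHom.mul_apply, MonoidHom.mul_apply] at this
      rw [hσdef, MonoidHom.div_apply, MonoidHom.div_apply, div_eq_div_iff_mul_eq_mul]
      exact (mul_comm _ _).trans (this.symm.trans (mul_comm _ _)) |>.trans (mul_comm _ _)
    -- `l ↦ [g,l]` is onto modulo `K`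
    let δ : L →* L ⧸ K' := MonoidHom.mk'
      (fun l => QuotientGroup.mk' K' (MulAut.conjNormal g l * l⁻¹)) fun a b => by
        have hc : ∀ u v : L ⧸ K', u * v = v * u := fun u v => by
          obtain ⟨u, rfl⟩ := QuotientGroup.mk'_surjective K' u
          obtain ⟨v, rfl⟩ := QuotientGroup.mk'_surjective K' v
          rw [← commutatorElement_eq_one_iff_mul_comm, ← map_commutatorElement,
            QuotientGroup.mk'_apply, QuotientGroup.eq_one_iff]
          exact h.habL _ u.2 _ v.2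
        simp only [map_mul, map_inv, mul_inv_rev]
        rw [← mul_assoc, mul_assoc (QuotientGroup.mk' K' (MulAut.conjNormal g a)),
          mul_assoc (QuotientGroup.mk' K' (MulAut.conjNormal g a)),
          hc _ (QuotientGroup.mk' K' a)⁻¹, ← mul_assoc]
    have hker : δ.ker = K' := by
      ext l
      rw [MonoidHom.mem_ker]
      show QuotientGroup.mk' K' _ = 1 ↔ _
      rw [QuotientGroup.mk'_apply, QuotientGroup.eq_one_iff]
      constructor
      · exact fun hl => h.fpf g hg l l.2 hl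
      · exact fun hl => K'.mul_mem
          (show g * ((l : L) : G) * g⁻¹ ∈ K from h.hKn.conj_mem _ hl g) (K'.inv_mem hl)
    have hsurj : Function.Surjective δ := by
      rw [← MonoidHom.range_eq_top]
      refine eq_top_of_card_eq _ ?_
      rw [← Subgroup.index_ker, hker, Subgroup.index_eq_card]
    rw [← div_eq_one, ← hσdef]
    ext n
    obtain ⟨l, hl⟩ := hsurj (QuotientGroup.mk' K' n)
    have hlift : ∀ u v : L, QuotientGroup.mk' K' u = QuotientGroup.mk' K' v → σ u = σ v := by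
      intro u v huv
      have h1 := hσK _ (QuotientGroup.eq.1 huv)
      rwa [map_mul, map_inv, inv_mul_eq_one] at h1
    rw [← hlift _ _ hl, map_mul, map_inv, hσ, mul_inv_cancel, MonoidHom.one_apply]
  -- a twist fixed by nothing outside `L`
  obtain ⟨μ, hμK, hμ⟩ : ∃ μ, Kill μ ∧ ∀ g, Clifford.conjFun g (Tw μ) = Tw μ → g ∈ L := by
    by_contra! hbad
    obtain ⟨μ₀, hμ₀K, hμ₀⟩ : ∃ μ, Kill μ ∧ μ ≠ 1 := by
      obtain ⟨z, hz⟩ : ∃ z : L, z ∉ K' := by
        by_contra! hall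
        exact h.hne (le_antisymm h.hle fun x hx => hall ⟨x, hx⟩)
      letI : CommGroup (L ⧸ K') := { (inferInstance : Group (L ⧸ K')) with
        mul_comm := fun u v => by
          obtain ⟨u, rfl⟩ := QuotientGroup.mk'_surjective K' u
          obtain ⟨v, rfl⟩ := QuotientGroup.mk'_surjective K' v
          rw [← commutatorElement_eq_one_iff_mul_comm, ← map_commutatorElement,
            QuotientGroup.mk'_apply, QuotientGroup.eq_one_iff]
          exact h.habL _ u.2 _ v.2 }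
      obtain ⟨f, hf⟩ := CommGroup.exists_apply_ne_one_of_hasEnoughRootsOfUnity (L ⧸ K') ℂ
        (a := (z : L ⧸ K')) fun e => hz ((QuotientGroup.eq_one_iff z).1 e)
      refine ⟨f.comp (QuotientGroup.mk' K'), fun k hk => ?_, fun e => hf ?_⟩
      · rw [MonoidHom.comp_apply, QuotientGroup.mk'_apply, (QuotientGroup.eq_one_iff k).2 hk,
          map_one]
      · exact DFunLike.congr_fun e z
    obtain ⟨y, hy, hyL⟩ := hbad 1 (fun _ _ => rfl)
    -- the restriction to `K`
    have hres : ∀ g μ, Kill μ → Clifford.conjFun g (Tw μ) = Tw μ → ∀ k : K',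
        (φ : L → ℂ) (MulAut.conjNormal g (k : L)) = (φ : L → ℂ) k := by
      intro g μ hμ e k
      have h1 : (μ (MulAut.conjNormal g (k : L)) : ℂ) * _ = (μ (k : L) : ℂ) * _ := congrFun e (k : L)
      have h2 : μ (MulAut.conjNormal g (k : L)) = 1 := hcjK g μ hμ _ k.2
      rwa [h2, hμ _ k.2, Units.val_one, one_mul, one_mul] at h1
    have hyfix : ∀ μ, Kill μ → Clifford.conjFun y (Tw μ) = Tw μ := by
      intro μ hμ
      obtain ⟨x, hx, hxL⟩ := hbad μ hμ
      -- `y` moves the twist to another one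
      obtain ⟨ν, hν, hνe⟩ := exists_hom_of_resFun_eq K' φ.2
        (Clifford.isIrrCharacter_conjFun y (Chars.isIrrCharacter_hom_mul μ φ.2)) hφK
        (funext fun k => by
          show (μ (MulAut.conjNormal y (k : L)) : ℂ) * (φ : L → ℂ) (MulAut.conjNormal y (k : L)) =
            (φ : L → ℂ) k
          rw [show μ (MulAut.conjNormal y (k : L)) = 1 from hcjK y μ hμ _ k.2, Units.val_one,
            one_mul, hres y 1 (fun _ _ => rfl) hy k])
      have hxν : Clifford.conjFun x (Tw ν) = Tw ν := by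
        have hνe' : Clifford.conjFun y (Tw μ) = Tw ν := hνe
        rw [← hνe', ← Clifford.conjFun_mul]
        have hl : ⁅y, x⁆ ∈ L := h.habG y x
        have hLfix : Clifford.conjFun ⁅y, x⁆ (Tw μ) = Tw μ := funext fun n =>
          Chars.isClassFunction_of_isCharacter (Chars.isCharacter_of_isIrrCharacter
            (Chars.isIrrCharacter_hom_mul μ φ.2)) n ⟨_, hl⟩
        rw [show y * x = ⁅y, x⁆ * (x * y) by simp only [commutatorElement_def]; group,
          Clifford.conjFun_mul, hLfix, Clifford.conjFun_mul, hx]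
      have hνμ := huniq x hxL ν μ hν hμ hxν hx
      have : Clifford.conjFun y (Tw μ) = Tw ν := hνe
      rwa [hνμ] at this
    exact hμ₀ (huniq y hyL μ₀ 1 hμ₀K (fun _ _ => rfl) (hyfix μ₀ hμ₀K) (hyfix 1 fun _ _ => rfl))
  -- induce
  have hirr : IsIrrCharacter L (Tw μ) := Chars.isIrrCharacter_hom_mul μ φ.2
  have hT : ∀ g, g ∈ L ↔ Clifford.conjFun g (Tw μ) = Tw μ := fun g => by
    refine ⟨fun hg => funext fun n => ?_, hμ g⟩
    exact Chars.isClassFunction_of_isCharacter (Chars.isCharacter_of_isIrrCharacter hirr) n ⟨g, hg⟩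
  have hind := Clifford.isIrrCharacter_indFun_inertia hirr hT le_rfl hirr (by
    rw [show Clifford.resTo (le_refl L) (Tw μ) = Tw μ from rfl, Chars.classInner_irr_self ⟨_, hirr⟩]
    exact one_ne_zero)
  refine ⟨⟨_, hind⟩, ?_⟩
  show Cfsg.indFun L (Tw μ) 1 = _
  rw [Chars.indFun_one_eq, Nat.cast_mul]
  simp [Tw, hd]

/-- A nonabelian `p`-quotient multiplies every degree prime to `p` by a power of `p`. -/
theorem exists_deg_mul (K : Subgroup G) [K.Normal] {p : ℕ} (hp : p.Prime)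
    (hQ : IsPGroup p (G ⧸ K)) (hna : ∃ a b : G ⧸ K, a * b ≠ b * a) (χ : IrrCharacter G) {c : ℕ}
    (hc : (χ : G → ℂ) 1 = c) (hpc : ¬ p ∣ c) : ∃ n, p ∣ n ∧ c ∣ n ∧ HasDeg G n := by
  classical
  obtain ⟨β, hβ⟩ : ∃ β : IrrCharacter (G ⧸ K), (β : G ⧸ K → ℂ) 1 ≠ 1 := by
    by_contra! hall
    obtain ⟨a, b, hab⟩ := hna
    exact hab (CoprimeDegree.mul_comm_of_linear hall a b)
  obtain ⟨e, -, he, hdvd⟩ := Chars.irr_degree_dvd_card β
  haveI : Fact p.Prime := ⟨hp⟩
  obtain ⟨a, ha⟩ := IsPGroup.iff_card.1 hQ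
  have hcop : c.Coprime K.index := by
    rw [Subgroup.index_eq_card, ha]
    exact ((hp.coprime_iff_not_dvd.2 hpc).symm).pow_right a
  have hres := CoprimeDegree.resFun_irreducible K χ hc hcop
  refine ⟨c * e, ?_, dvd_mul_right c e, ⟨⟨_, (Clifford.gallagher χ.2 hres).1 β⟩, ?_⟩⟩
  · refine dvd_mul_of_dvd_right ?_ c
    obtain ⟨i, -, hi⟩ := (Nat.dvd_prime_pow hp).1 (ha ▸ hdvd)
    rcases i with _ | i
    · exact absurd (by rw [he, hi, pow_zero, Nat.cast_one]) hβ
    · exact hi ▸ dvd_pow_self p (Nat.succ_ne_zero i)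
  · show (χ : G → ℂ) 1 * (β : G ⧸ K → ℂ) ((1 : G) : G ⧸ K) = _
    rw [QuotientGroup.mk_one, hc, he, Nat.cast_mul]

end Cfsg.Agent.Lib.SolvDegrees
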