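import Mathlib
import Cfsg.Prelude.Def_DegreeGraph
import Cfsg.Agent.Lib.SolvDegrees.Degree
import Cfsg.Agent.Lib.Codegree

/-!
The degree graph of a solvable group has at most two components.
-/

set_option autoImplicit false

namespace Cfsg.Agent.Lib.SolvDegrees

open Cfsg
open Cfsg.Agent.Lib

variable {G : Type*} [Group G] [Fintype G]

theorem hasDeg_iff {n : ℕ} : HasDeg G n ↔ n ∈ charDegrees G := by
  constructor
  · rintro ⟨χ, hχ⟩; exact ⟨χ, Codegree.charDegree_eq hχ⟩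
  · rintro ⟨χ, rfl⟩
    obtain ⟨c, hc⟩ := Chars.isCharacter_exists_degree (Chars.irr_isCharacter χ)
    exact ⟨χ, by rw [Codegree.charDegree_eq hc]; exact hc⟩

theorem mem_degreePrimes {q n : ℕ} (hq : q.Prime) (hn : HasDeg G n) (hqn : q ∣ n) :
    q ∈ degreePrimes G := ⟨hq, n, hasDeg_iff.1 hn, hqn⟩

/-- Two primes dividing one degree are connected. -/
theorem reachable_of_dvd (u v : degreePrimes G) {n : ℕ} (hn : HasDeg G n) (hu : (u : ℕ) ∣ n)
    (hv : (v : ℕ) ∣ n) : ((degreeGraph G).induce (degreePrimes G)).Reachable u v := by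
  by_cases h : u = v
  · subst h; exact SimpleGraph.Reachable.refl _
  · have hne : (u : ℕ) ≠ v := fun e => h (Subtype.ext e)
    refine SimpleGraph.Adj.reachable ?_
    exact ⟨hne, u.2.1, v.2.1, n, hasDeg_iff.1 hn,
      ((Nat.coprime_primes u.2.1 v.2.1).2 hne).mul_dvd_of_dvd_of_dvd hu hv⟩

theorem natCard_components_le_two [Group.IsSolvable G] :
    Nat.card ((degreeGraph G).induce (degreePrimes G)).ConnectedComponent ≤ 2 := by
  classical
  set Γ := (degreeGraph G).induce (degreePrimes G)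
  by_cases hempty : IsEmpty (degreePrimes G)
  · have : IsEmpty Γ.ConnectedComponent :=
      ⟨fun c => c.ind (fun v => hempty.false v)⟩
    simp
  obtain ⟨v₀⟩ := not_isEmpty_iff.1 hempty
  suffices h : ∃ v1 v2 : degreePrimes G, ∀ v, Γ.Reachable v v1 ∨ Γ.Reachable v v2 by
    obtain ⟨v1, v2, hv⟩ := h
    refine (Nat.card_le_card_of_surjective
      (fun i : Fin 2 => Γ.connectedComponentMk (if i = 0 then v1 else v2)) ?_).trans
      (Nat.card_fin 2).le
    intro c
    refine c.ind fun v => ?_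
    rcases hv v with h | h
    · exact ⟨0, (SimpleGraph.ConnectedComponent.sound h.symm)⟩
    · exact ⟨1, (SimpleGraph.ConnectedComponent.sound h.symm)⟩
  have hna : ∃ a b : G, a * b ≠ b * a := by
    by_contra! hcomm
    obtain ⟨hq, n, hn, hqn⟩ := v₀.2
    obtain ⟨χ, hχ⟩ := hasDeg_iff.2 hn
    haveI : IsMulCommutative G := ⟨⟨hcomm⟩⟩
    rw [Chars.irr_apply_one_of_comm χ] at hχ
    have : n = 1 := by exact_mod_cast hχ.symm
    rw [this, Nat.dvd_one] at hqn
    exact hq.ne_one hqn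
  rcases exists_pQuotient_or_frobSection hna with ⟨K, hK, p, hp, hQ, hnab⟩ | ⟨K, L, s, h⟩
  · haveI := hK
    obtain ⟨n₁, hp1, -, hn₁⟩ := exists_deg_mul K hp hQ hnab (Chars.linIrr 1)
      (c := 1) (by simp [Chars.linIrr]) hp.not_dvd_one
    let vp : degreePrimes G := ⟨p, mem_degreePrimes hp hn₁ hp1⟩
    refine ⟨vp, vp, fun v => Or.inl ?_⟩
    obtain ⟨hq, n, hn, hqn⟩ := v.2
    by_cases hpn : p ∣ n
    · exact reachable_of_dvd v vp (hasDeg_iff.2 hn) hqn hpn
    obtain ⟨χ, hχ⟩ := hasDeg_iff.2 hn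
    obtain ⟨m, hpm, hnm, hm⟩ := exists_deg_mul K hp hQ hnab χ hχ hpn
    exact reachable_of_dvd v vp hm (hqn.trans hnm) hpm
  · haveI := h.hLn
    have hind : L.index ≠ 1 := fun e => h.htop (Subgroup.index_eq_one.1 e)
    have hdeg : HasDeg G (L.index * 1) :=
      mul_index_hasDeg h (Chars.linIrr 1) (d := 1) (by simp [Chars.linIrr]) h.hprime.not_dvd_one
    rw [mul_one] at hdeg
    let v1 : degreePrimes G :=
      ⟨L.index.minFac, mem_degreePrimes (Nat.minFac_prime hind) hdeg (Nat.minFac_dvd _)⟩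
    let v2 : degreePrimes G := if hs : s ∈ degreePrimes G then ⟨s, hs⟩ else v1
    refine ⟨v1, v2, fun v => ?_⟩
    obtain ⟨hq, n, hn, hqn⟩ := v.2
    obtain ⟨χ, hχ⟩ := hasDeg_iff.2 hn
    obtain ⟨φ, d, hd, hd0, hdn, hnd⟩ := hasDeg_dvd_of_constituent L χ hχ
    by_cases hsd : s ∣ d
    · have hs : s ∈ degreePrimes G := mem_degreePrimes h.hprime (hasDeg_iff.2 hn) (hsd.trans hdn)
      refine Or.inr (reachable_of_dvd v v2 (hasDeg_iff.2 hn) hqn ?_)
      simp only [v2, dif_pos hs]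
      exact hsd.trans hdn
    · exact Or.inl (reachable_of_dvd v v1 (mul_index_hasDeg h φ hd hsd) (hqn.trans hnd)
        ((Nat.minFac_dvd _).trans (dvd_mul_right _ _)))

end Cfsg.Agent.Lib.SolvDegrees
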