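import Mathlib
import Cfsg.Agent.Lib.SolvDegrees.Degree
import Cfsg.Agent.Lib.HeightPSolv.DegreesPrime
import Cfsg.Agent.Lib.PSolvable.PSolv

/-!
Degrees over an extendible character, and the Sylow subgroups of its inertia quotient.
-/

set_option autoImplicit false
set_option linter.unusedSectionVars false

namespace Cfsg.Agent.Lib.SolvDegrees.Palfy

open Subgroup Cfsg
open Cfsg.Agent.Lib

variable {G : Type*} [Group G]

/-- The inertia group. -/
def cst (N : Subgroup G) [N.Normal] (θ : N → ℂ) : Subgroup G where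
  carrier := {g | Clifford.conjFun g θ = θ}
  one_mem' := Clifford.conjFun_one θ
  mul_mem' {g h} (hg : _ = θ) (hh : _ = θ) := by
    show Clifford.conjFun (g * h) θ = θ
    rw [Clifford.conjFun_mul, hg, hh]
  inv_mem' {g} (hg : _ = θ) := by
    show Clifford.conjFun g⁻¹ θ = θ
    conv_lhs => rw [← hg]
    rw [← Clifford.conjFun_mul, mul_inv_cancel, Clifford.conjFun_one]

theorem mem_cst {N : Subgroup G} [N.Normal] {θ : N → ℂ} {g : G} :
    g ∈ cst N θ ↔ Clifford.conjFun g θ = θ := Iff.rfl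

variable [Finite G]

theorem le_cst {N : Subgroup G} [N.Normal] {θ : N → ℂ} (hθ : IsIrrCharacter N θ) : N ≤ cst N θ :=
  fun g hg => funext fun n =>
    Chars.isClassFunction_of_isCharacter (Chars.isCharacter_of_isIrrCharacter hθ) n ⟨g, hg⟩

/-- Some irreducible character has degree divisible by the degree of the whole orbit. -/
theorem hasDeg_over [Fintype G] (N : Subgroup G) [N.Normal] {θ : N → ℂ} (hθ : IsIrrCharacter N θ)
    {d : ℕ} (hd : θ 1 = d) : ∃ n, HasDeg G n ∧ (cst N θ).index * d ∣ n := by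
  classical
  obtain ⟨m, hm⟩ := Chars.isCharacter_exists_nat_decomp
    (Chars.isCharacter_indFun N (Chars.isCharacter_of_isIrrCharacter hθ))
  obtain ⟨χ, hχ⟩ : ∃ χ, m χ ≠ 0 := by
    by_contra h
    push Not at h
    have h0 := congrFun hm 1
    simp only [h, Nat.cast_zero, zero_smul, Finset.sum_const_zero, Pi.zero_apply,
      Chars.indFun_one_eq, mul_eq_zero] at h0
    rcases h0 with h0 | h0
    · exact Subgroup.FiniteIndex.index_ne_zero (Nat.cast_eq_zero.mp h0)
    · exact Chars.irr_apply_one_ne_zero ⟨θ, hθ⟩ h0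
  have h1 : classInner (Clifford.resFun N (χ : G → ℂ)) θ ≠ 0 := by
    have h := Chars.classInner_sum_smul_irr (fun φ => (m φ : ℂ)) χ
    rw [← hm, Chars.classInner_indFun_left N θ _ (Chars.irr_isClassFunction χ)] at h
    intro h0
    rw [← Chars.conj_classInner, show (fun x : N => (χ : G → ℂ) x) = Clifford.resFun N (χ : G → ℂ)
      from rfl, h0, map_zero, eq_comm, Nat.cast_eq_zero] at h
    exact hχ h
  obtain ⟨e, he⟩ := Clifford.classInner_irr_nat
    (Chars.isCharacter_restrict N (Chars.irr_isCharacter χ)) hθ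
  refine ⟨e * ((cst N θ).index * d), ⟨χ, ?_⟩, dvd_mul_left _ _⟩
  rw [Clifford.apply_one_eq χ.2 hθ h1 (cst N θ) (fun g => Iff.rfl), hd]
  rw [show classInner (Clifford.resFun N (χ : G → ℂ)) θ = (e : ℂ) from he]
  push_cast
  ring

/-- Degrees over a character extending to its inertia group. -/
theorem hasDeg_ext [Fintype G] (N : Subgroup G) [N.Normal] {θ : N → ℂ} (hθ : IsIrrCharacter N θ)
    {d : ℕ} (hd : θ 1 = d) {T : Subgroup G} (hT : T = cst N θ) (χ₀ : T → ℂ)
    (hχ₀ : IsIrrCharacter T χ₀) (hle : N ≤ T)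
    (hext : ∀ n : N, χ₀ ⟨(n : G), hle n.2⟩ = θ n)
    (β : IrrCharacter (T ⧸ N.subgroupOf T)) {b : ℕ} (hb : (β : T ⧸ N.subgroupOf T → ℂ) 1 = b) :
    HasDeg G (T.index * d * b) := by
  classical
  set N' := N.subgroupOf T
  have hres : IsIrrCharacter N' (Clifford.resFun N' χ₀) := by
    have h := Chars.isIrrCharacter_comp_mulEquiv (subgroupOfEquivOfLe hle) hθ
    convert h using 1
    funext n
    exact hext (subgroupOfEquivOfLe hle n)
  have hprod := (Clifford.gallagher hχ₀ hres).1 β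
  set ψ : T → ℂ := χ₀ * (Chars.inflate N' β : T → ℂ)
  have hψN : Clifford.resTo hle ψ = (b : ℂ) • θ := funext fun n => by
    show χ₀ ⟨(n : G), hle n.2⟩ * (β : T ⧸ N' → ℂ) ((⟨(n : G), hle n.2⟩ : T) : T ⧸ N') = _
    rw [hext, (QuotientGroup.eq_one_iff (N := N') (⟨(n : G), hle n.2⟩ : T)).2 n.2, hb,
      Pi.smul_apply, smul_eq_mul, mul_comm]
  have hb0 : (b : ℂ) ≠ 0 := hb ▸ Chars.irr_apply_one_ne_zero β
  have hne : classInner (Clifford.resTo hle ψ) θ ≠ 0 := by
    rw [hψN, Chars.classInner_smul_left, Chars.classInner_irr_self ⟨θ, hθ⟩, mul_one]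
    exact hb0
  refine ⟨⟨_, Clifford.isIrrCharacter_indFun_inertia hθ (fun g => by rw [hT]; exact Iff.rfl) hle
    hprod hne⟩, ?_⟩
  show indFun T ψ 1 = _
  rw [Chars.indFun_one_eq]
  show (T.index : ℂ) * (χ₀ 1 * (β : T ⧸ N' → ℂ) ((1 : T) : T ⧸ N')) = _
  rw [show χ₀ 1 = θ 1 from hext 1, QuotientGroup.mk_one, hb, hd]
  push_cast
  ring

/-- If the orbit degree of an extendible character carries `r` and no degree carries `p * r`, then
the inertia quotient contains a normal abelian Sylow `p`-subgroup of `X`. -/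
theorem good_of_ext [Fintype G] [Group.IsSolvable G] (N : Subgroup G) [N.Normal] {θ : N → ℂ}
    (hθ : IsIrrCharacter N θ) {d : ℕ} (hd : θ 1 = d) (χ₀ : cst N θ → ℂ)
    (hχ₀ : IsIrrCharacter (cst N θ) χ₀)
    (hext : ∀ n : N, χ₀ ⟨(n : G), le_cst hθ n.2⟩ = θ n)
    {p r : ℕ} (hp : p.Prime) (hr : r.Prime) (hpr : p ≠ r)
    (hno : ∀ n, HasDeg G n → ¬ p * r ∣ n) (hrd : r ∣ (cst N θ).index * d)
    {X : Type*} [Group X] [Finite X] (f : G →* X) (hf : Function.Surjective f) (hker : f.ker = N) :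
    ∃ P : Subgroup X, IsPGroup p P ∧ ¬ p ∣ P.index ∧ (∀ a ∈ P, ∀ b ∈ P, a * b = b * a) ∧
      P ≤ (cst N θ).map f ∧ ∀ x ∈ (cst N θ).map f, ∀ k ∈ P, x * k * x⁻¹ ∈ P := by
  classical
  haveI := Fact.mk hp
  let T := cst N θ
  let N' := N.subgroupOf T
  have hdeg : ∀ β : IrrCharacter (T ⧸ N'), ∀ b : ℕ, (β : T ⧸ N' → ℂ) 1 = b →
      ¬ p ∣ T.index * d * b := by
    intro β b hb h
    exact hno _ (hasDeg_ext N hθ hd rfl χ₀ hχ₀ (le_cst hθ) hext β hb)
      (((Nat.coprime_primes hp hr).2 hpr).mul_dvd_of_dvd_of_dvd h (hrd.mul_right b))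
  have hTi : ¬ p ∣ T.index := fun h => hdeg (Chars.linIrr 1) 1 (by simp [Chars.linIrr])
    ((h.mul_right d).mul_right 1)
  obtain ⟨S⟩ : Nonempty (Sylow p (T ⧸ N')) := inferInstance
  obtain ⟨hSn, hSc⟩ := (HeightPSolv.allDegreesPrime_iff PSolvable.isPSolvable_of_isSolvable S).mpr
    fun β h => by
      obtain ⟨b, hb⟩ := Chars.isCharacter_exists_degree (Chars.irr_isCharacter β)
      rw [Codegree.charDegree_eq hb] at h
      exact hdeg β b hb (dvd_mul_of_dvd_right h _)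
  have hN' : N' = (f.comp T.subtype).ker := by
    ext x; show (x : G) ∈ N ↔ _; rw [← hker]; rfl
  let g : T ⧸ N' →* X := QuotientGroup.lift N' (f.comp T.subtype) hN'.le
  have hginj : Function.Injective g := by
    rw [← MonoidHom.ker_eq_bot_iff, QuotientGroup.ker_lift, ← hN', QuotientGroup.map_mk'_self]
  have hgr : g.range = T.map f := by
    ext x
    constructor
    · rintro ⟨y, rfl⟩
      obtain ⟨y, rfl⟩ := QuotientGroup.mk'_surjective N' y
      exact ⟨(y : G), y.2, rfl⟩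
    · rintro ⟨y, hy, rfl⟩
      exact ⟨((⟨y, hy⟩ : T) : T ⧸ N'), rfl⟩
  refine ⟨(S : Subgroup (T ⧸ N')).map g, S.isPGroup'.map g, ?_, ?_, hgr ▸ map_le_range _ _, ?_⟩
  · rw [index_map, (MonoidHom.ker_eq_bot_iff g).2 hginj, sup_bot_eq, hgr, index_map, hker,
      sup_eq_left.2 (le_cst hθ), MonoidHom.range_eq_top.2 hf, index_top, mul_one, hp.dvd_mul]
    rintro (h | h)
    · exact S.not_dvd_index h
    · exact hTi h
  · rintro _ ⟨a, ha, rfl⟩ _ ⟨b, hb, rfl⟩
    rw [← map_mul, ← map_mul, setLike_mul_comm ha hb]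
  · intro x hx
    rw [← hgr] at hx
    obtain ⟨y, rfl⟩ := hx
    rintro _ ⟨k, hk, rfl⟩
    exact ⟨y * k * y⁻¹, hSn.conj_mem k hk y, by rw [map_mul, map_mul, map_inv]⟩

end Cfsg.Agent.Lib.SolvDegrees.Palfy
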