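import Mathlib

/-!
Fixed spaces and elements of primitive prime order in linear groups over `ZMod ℓ`.
-/

set_option autoImplicit false
set_option linter.unusedSectionVars false

namespace Cfsg.Agent.Lib.SolvDegrees.Palfy

variable {ℓ : ℕ} [Fact ℓ.Prime] {V : Type*} [AddCommGroup V] [Module (ZMod ℓ) V]
  {H : Type*} [Group H] (ρ : H →* (V ≃ₗ[ZMod ℓ] V))

/-- The vectors fixed by `K`. -/
def fixSp (K : Subgroup H) : Submodule (ZMod ℓ) V where
  carrier := {v | ∀ k ∈ K, ρ k v = v}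
  add_mem' ha hb := fun k hk => by rw [map_add, ha k hk, hb k hk]
  zero_mem' := fun k _ => map_zero _
  smul_mem' c _ ha := fun k hk => by rw [map_smul, ha k hk]

theorem mem_fixSp {K : Subgroup H} {v : V} : v ∈ fixSp ρ K ↔ ∀ k ∈ K, ρ k v = v := Iff.rfl

theorem mem_fixSp_zpowers {g : H} {v : V} : v ∈ fixSp ρ (Subgroup.zpowers g) ↔ ρ g v = v := by
  refine ⟨fun h => h g (Subgroup.mem_zpowers g), fun h k hk => ?_⟩
  have : Subgroup.zpowers g ≤ (MulAction.stabilizer (V ≃ₗ[ZMod ℓ] V) v).comap ρ :=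
    Subgroup.zpowers_le.2 h
  exact this hk

theorem apply_mul (g h : H) (v : V) : ρ (g * h) v = ρ g (ρ h v) := by rw [map_mul]; rfl

/-- The stabiliser of a subspace. -/
def stabSp (W : Submodule (ZMod ℓ) V) : Subgroup H where
  carrier := {g | W.map (ρ g).toLinearMap = W}
  mul_mem' {g h} hg hh := by
    show W.map (ρ (g * h)).toLinearMap = W
    have : (ρ (g * h)).toLinearMap = (ρ g).toLinearMap.comp (ρ h).toLinearMap := by
      ext v; exact apply_mul ρ g h v
    rw [this, Submodule.map_comp, hh, hg]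
  one_mem' := by
    show W.map (ρ 1).toLinearMap = W
    rw [map_one]; exact Submodule.map_id W
  inv_mem' {g} hg := by
    show W.map (ρ g⁻¹).toLinearMap = W
    conv_lhs => rw [← hg, ← Submodule.map_comp]
    have : (ρ g⁻¹).toLinearMap.comp (ρ g).toLinearMap = LinearMap.id := by
      ext v
      show ρ g⁻¹ (ρ g v) = v
      rw [← apply_mul, inv_mul_cancel, map_one]; rfl
    rw [this, Submodule.map_id]

variable [Finite V]

theorem mem_stabSp {W : Submodule (ZMod ℓ) V} {g : H} :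
    g ∈ stabSp ρ W ↔ ∀ w ∈ W, ρ g w ∈ W := by
  constructor
  · intro h w hw
    rw [← (show W.map (ρ g).toLinearMap = W from h)]
    exact ⟨w, hw, rfl⟩
  · intro h
    show W.map (ρ g).toLinearMap = W
    refine Submodule.eq_of_le_of_finrank_eq ?_ (LinearEquiv.finrank_map_eq (ρ g) W)
    rintro _ ⟨w, hw, rfl⟩
    exact h w hw

theorem stabSp_fix_of_normalizes {K : Subgroup H} {g : H}
    (hg : ∀ k ∈ K, g⁻¹ * k * g ∈ K) : g ∈ stabSp ρ (fixSp ρ K) := by
  rw [mem_stabSp]
  intro v hv k hk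
  calc ρ k (ρ g v) = ρ (g * (g⁻¹ * k * g)) v := by
        rw [← apply_mul]; congr 2; group
    _ = ρ g v := by rw [apply_mul, hv _ (hg k hk)]

theorem stabSp_fix_of_centralizes {K : Subgroup H} {g : H}
    (hg : ∀ k ∈ K, k * g = g * k) : g ∈ stabSp ρ (fixSp ρ K) :=
  stabSp_fix_of_normalizes ρ fun k hk => by rwa [mul_assoc, hg k hk, inv_mul_cancel_left]

/-- Fixed points of a `p`-group on an invariant subspace. -/
theorem card_modEq {p : ℕ} [Fact p.Prime] {K : Subgroup H} (hK : IsPGroup p K)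
    {W : Submodule (ZMod ℓ) V} (hW : K ≤ stabSp ρ W) :
    Nat.card W ≡ Nat.card ↥(W ⊓ fixSp ρ K) [MOD p] := by
  letI : MulAction K W :=
    { smul := fun k w => ⟨ρ k w, (mem_stabSp ρ).1 (hW k.2) w w.2⟩
      one_smul := fun w => Subtype.ext (by
        show ρ (1 : H) (w : V) = w
        rw [map_one]; rfl)
      mul_smul := fun a b w => Subtype.ext (apply_mul ρ a b w) }
  refine (hK.card_modEq_card_fixedPoints W).trans ?_
  rw [Nat.card_congr
    { toFun := fun w => ⟨(w.1 : V), w.1.2, fun k hk => congrArg Subtype.val (w.2 ⟨k, hk⟩)⟩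
      invFun := fun w => ⟨⟨w.1, w.2.1⟩, fun k => Subtype.ext (w.2.2 k k.2)⟩
      left_inv := fun w => rfl
      right_inv := fun w => rfl : MulAction.fixedPoints K W ≃ ↥(W ⊓ fixSp ρ K) }]

theorem card_eq_pow (W : Submodule (ZMod ℓ) V) :
    Nat.card W = ℓ ^ Module.finrank (ZMod ℓ) W := by
  rw [Module.natCard_eq_pow_finrank (K := ZMod ℓ), Nat.card_zmod]

/-- An element of prime order `t`, a primitive prime divisor of `ℓ ^ dim V - 1`. -/
structure Zsig (t : ℕ) (x : H) : Prop where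
  tp : t.Prime
  ord : orderOf x = t
  inj : Function.Injective ρ
  dvd : t ∣ ℓ ^ Module.finrank (ZMod ℓ) V - 1
  prim : ∀ k : ℕ, 0 < k → k < Module.finrank (ZMod ℓ) V → ¬ t ∣ ℓ ^ k - 1
  lt : Module.finrank (ZMod ℓ) V < t

namespace Zsig

variable {ρ} {t : ℕ} {x : H} (hx : Zsig ρ t x)

include hx

theorem ne_one : x ≠ 1 := fun h => hx.tp.ne_one (by rw [← hx.ord, h, orderOf_one])

theorem finrank_pos : 0 < Module.finrank (ZMod ℓ) V := by
  by_contra h
  have h0 : Module.finrank (ZMod ℓ) V = 0 := by omega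
  have : Subsingleton V := Module.finrank_zero_iff.1 h0
  exact hx.ne_one (hx.inj (LinearEquiv.ext fun v => Subsingleton.elim _ _))

theorem nontrivial : Nontrivial V := Module.nontrivial_of_finrank_pos hx.finrank_pos

theorem prime_ne : t ≠ ℓ := by
  intro h
  have hℓ : 1 < ℓ := (Fact.out : ℓ.Prime).one_lt
  have h1 := hx.dvd
  rw [h] at h1
  have h2 : ℓ ∣ ℓ ^ Module.finrank (ZMod ℓ) V := dvd_pow_self _ hx.finrank_pos.ne'
  have h3 := Nat.dvd_sub h2 h1
  rw [Nat.sub_sub_self (Nat.one_le_pow _ _ (by omega))] at h3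
  exact (Fact.out : ℓ.Prime).ne_one (Nat.dvd_one.1 h3)

theorem isPGroup : IsPGroup t (Subgroup.zpowers x) := by
  haveI := Fact.mk hx.tp
  exact IsPGroup.of_card (n := 1) (by rw [Nat.card_zpowers, hx.ord, pow_one])

/-- An invariant subspace is fixed pointwise or is everything. -/
theorem inf_fix_eq (W : Submodule (ZMod ℓ) V) (hW : x ∈ stabSp ρ W) :
    W ⊓ fixSp ρ (Subgroup.zpowers x) = W ∨
      (W = ⊤ ∧ W ⊓ fixSp ρ (Subgroup.zpowers x) = ⊥) := by
  haveI := Fact.mk hx.tp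
  have hℓ : 1 < ℓ := (Fact.out : ℓ.Prime).one_lt
  set F := W ⊓ fixSp ρ (Subgroup.zpowers x) with hF
  have h := card_modEq ρ hx.isPGroup (Subgroup.zpowers_le.2 hW)
  rw [← hF, card_eq_pow, card_eq_pow] at h
  have hle : Module.finrank (ZMod ℓ) F ≤ Module.finrank (ZMod ℓ) W :=
    Submodule.finrank_mono inf_le_left
  have hWle := Submodule.finrank_le W
  set a := Module.finrank (ZMod ℓ) W
  set b := Module.finrank (ZMod ℓ) F
  rcases eq_or_lt_of_le hle with h0 | h0
  · exact Or.inl (Submodule.eq_of_le_of_finrank_eq inf_le_left h0)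
  · right
    have hd : t ∣ ℓ ^ b * (ℓ ^ (a - b) - 1) := by
      have h1 := (Nat.modEq_iff_dvd' (Nat.pow_le_pow_right (by omega) hle)).1 h.symm
      rwa [Nat.mul_sub, mul_one, ← pow_add, Nat.add_sub_cancel' hle]
    have hd' : t ∣ ℓ ^ (a - b) - 1 := by
      refine (hx.tp.dvd_mul.1 hd).resolve_left fun h' => hx.prime_ne ?_
      exact (Nat.prime_dvd_prime_iff_eq hx.tp Fact.out).1 (hx.tp.dvd_of_dvd_pow h')
    have : ¬ a - b < Module.finrank (ZMod ℓ) V := fun hlt => hx.prim _ (by omega) hlt hd'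
    refine ⟨Submodule.eq_top_of_finrank_eq (show a = _ by omega), ?_⟩
    exact Submodule.finrank_eq_zero.1 (show b = 0 by omega)

theorem fix_eq_zero {v : V} (hv : ρ x v = v) : v = 0 := by
  have htop : x ∈ stabSp ρ (⊤ : Submodule (ZMod ℓ) V) := (mem_stabSp ρ).2 fun _ _ => trivial
  rcases hx.inf_fix_eq ⊤ htop with h | ⟨-, h⟩
  · exfalso
    rw [top_inf_eq] at h
    exact hx.ne_one (hx.inj (LinearEquiv.ext fun w => by
      have hw : w ∈ fixSp ρ (Subgroup.zpowers x) := h ▸ Submodule.mem_top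
      rw [map_one]; exact hw x (Subgroup.mem_zpowers x)))
  · rw [top_inf_eq] at h
    exact (Submodule.mem_bot (ZMod ℓ)).1 (h ▸ (mem_fixSp_zpowers ρ).2 hv)

/-- The group acts irreducibly. -/
theorem irred (W : Submodule (ZMod ℓ) V) (hW : x ∈ stabSp ρ W) : W = ⊥ ∨ W = ⊤ := by
  rcases hx.inf_fix_eq W hW with h | ⟨h, -⟩
  · refine Or.inl (eq_bot_iff.2 fun w hw => ?_)
    rw [← h] at hw
    exact (Submodule.mem_bot _).2 (hx.fix_eq_zero ((mem_fixSp_zpowers ρ).1 hw.2))
  · exact Or.inr h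

/-- A subgroup normalised by `x` with a nonzero fixed vector is trivial. -/
theorem eq_bot_of_fix {K : Subgroup H} (hK : ∀ k ∈ K, x⁻¹ * k * x ∈ K)
    (hfix : fixSp ρ K ≠ ⊥) : K = ⊥ := by
  have h := (hx.irred _ (stabSp_fix_of_normalizes ρ hK)).resolve_left hfix
  refine eq_bot_iff.2 fun k hk => Subgroup.mem_bot.2 (hx.inj (LinearEquiv.ext fun v => ?_))
  have hv : v ∈ fixSp ρ K := h ▸ Submodule.mem_top
  rw [map_one]; exact hv k hk

/-- A conjugate of the same order is again primitive. -/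
theorem of_orderOf {y : H} (hy : orderOf y = t) : Zsig ρ t y :=
  ⟨hx.tp, hy, hx.inj, hx.dvd, hx.prim, hx.lt⟩

end Zsig

end Cfsg.Agent.Lib.SolvDegrees.Palfy
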