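import Mathlib
import Cfsg.Agent.Lib.SolvDegrees.PalfyBasic
import Cfsg.Agent.Lib.Hall.Solvable
import Cfsg.Agent.Lib.Hall.Nilpotent

/-!
Vectors whose stabilisers contain normal abelian Sylow subgroups for two primes: the fixed
spaces of the Hall subgroups for these primes partition the nonzero vectors.
-/

set_option autoImplicit false
set_option linter.unusedSectionVars false

namespace Cfsg.Agent.Lib.SolvDegrees.Palfy

open Subgroup
open scoped Pointwise

variable {ℓ : ℕ} [Fact ℓ.Prime] {V : Type*} [AddCommGroup V] [Module (ZMod ℓ) V] [Finite V]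
  {H : Type*} [Group H] [Finite H] (ρ : H →* (V ≃ₗ[ZMod ℓ] V))

/-- The stabiliser of `v` has a normal abelian Sylow `s`-subgroup of full order. -/
def Good (s : ℕ) (v : V) : Prop :=
  ∃ P : Subgroup H, IsPGroup s P ∧ ¬ s ∣ P.index ∧ (∀ a ∈ P, ∀ b ∈ P, a * b = b * a) ∧
    (∀ k ∈ P, ρ k v = v) ∧ ∀ g, ρ g v = v → ∀ k ∈ P, g * k * g⁻¹ ∈ P

/-- The hypotheses on two primes. -/
structure Setup (p q : ℕ) : Prop where
  hp : p.Prime
  hq : q.Prime
  hpq : p ≠ q
  inj : Function.Injective ρ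
  pdvd : p ∣ Nat.card H
  qdvd : q ∣ Nat.card H
  nontriv : Nontrivial V
  goodp : ∀ v : V, v ≠ 0 → Good ρ p v
  goodq : ∀ v : V, v ≠ 0 → Good ρ q v

theorem Setup.symm {p q : ℕ} (h : Setup ρ p q) : Setup ρ q p :=
  ⟨h.hq, h.hp, h.hpq.symm, h.inj, h.qdvd, h.pdvd, h.nontriv, h.goodq, h.goodp⟩

theorem fixes_conj_iff {F : Subgroup H} {g : H} {v : V} :
    v ∈ fixSp ρ (MulAut.conj g • F) ↔ ρ g⁻¹ v ∈ fixSp ρ F := by
  constructor
  · intro h k hk
    have := h (g * k * g⁻¹) ⟨k, hk, rfl⟩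
    calc ρ k (ρ g⁻¹ v) = ρ (g⁻¹ * (g * k * g⁻¹)) v := by rw [← apply_mul]; congr 2; group
      _ = ρ g⁻¹ v := by rw [apply_mul, this]
  · rintro h _ ⟨k, hk, rfl⟩
    show ρ (g * k * g⁻¹) v = v
    rw [apply_mul, apply_mul, h k hk, ← apply_mul, mul_inv_cancel, map_one]; rfl

/-- Conjugates of `F` with pairwise disjoint fixed spaces covering `V`. -/
theorem card_partition (F : Subgroup H) (hcov : ∀ v : V, v ≠ 0 → ∃ g, ρ g⁻¹ v ∈ fixSp ρ F)
    (huniq : ∀ v : V, v ≠ 0 → ∀ a b, ρ a⁻¹ v ∈ fixSp ρ F → ρ b⁻¹ v ∈ fixSp ρ F →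
      MulAut.conj a • F = MulAut.conj b • F) :
    (normalizer (F : Set H)).index * (Nat.card (fixSp ρ F) - 1) = Nat.card V - 1 := by
  classical
  set N := normalizer (F : Set H) with hN
  have hnz : ∀ (W : Type _) [AddCommGroup W] [Finite W], Nat.card {w : W // w ≠ 0} = Nat.card W - 1 := by
    intro W _ _
    haveI := Fintype.ofFinite W
    rw [Nat.card_eq_fintype_card, Nat.card_eq_fintype_card, Fintype.card_subtype_compl,
      Fintype.card_subtype_eq]
  have hstab : ∀ a b : H, MulAut.conj a • F = MulAut.conj b • F ↔ a⁻¹ * b ∈ N := by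
    intro a b
    rw [hN, mem_normalizer_iff]
    constructor
    · intro h k
      have : MulAut.conj (a⁻¹ * b) • F = F := by
        rw [map_mul, mul_smul, ← h, ← mul_smul, ← map_mul, inv_mul_cancel, map_one, one_smul]
      constructor
      · intro hk
        rw [← this]; exact ⟨k, hk, rfl⟩
      · intro hk
        rw [← this] at hk
        obtain ⟨k', hk', he⟩ := hk
        have : k' = k := (MulAut.conj (a⁻¹ * b)).injective he
        rwa [← this]
    · intro h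
      have : MulAut.conj (a⁻¹ * b) • F = F := by
        ext k
        constructor
        · rintro ⟨k', hk', rfl⟩; exact (h k').1 hk'
        · intro hk
          refine ⟨(a⁻¹ * b)⁻¹ * k * (a⁻¹ * b), (h _).2 ?_, ?_⟩
          · convert hk using 1
            group
          · show (a⁻¹ * b) * ((a⁻¹ * b)⁻¹ * k * (a⁻¹ * b)) * (a⁻¹ * b)⁻¹ = k
            group
      conv_lhs => rw [← this, ← mul_smul, ← map_mul, mul_inv_cancel_left]
  let Φ : (H ⧸ N) × {w : fixSp ρ F // w ≠ 0} → {v : V // v ≠ 0} := fun cw =>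
    ⟨ρ cw.1.out (cw.2.1 : V), fun h => cw.2.2 (Subtype.ext ((ρ cw.1.out).map_eq_zero_iff.1 h))⟩
  have hbij : Function.Bijective Φ := by
    constructor
    · rintro ⟨c, w⟩ ⟨c', w'⟩ he
      have hv : ρ c.out (w.1 : V) = ρ c'.out (w'.1 : V) := congrArg Subtype.val he
      have h1 : ∀ (g : H) (u : V), ρ g⁻¹ (ρ g u) = u := fun g u => by
        rw [← apply_mul, inv_mul_cancel, map_one]; rfl
      have := (hstab _ _).1 (huniq (ρ c.out (w.1 : V)) (Φ (c, w)).2 c.out c'.out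
        (by rw [h1]; exact w.1.2) (by rw [hv, h1]; exact w'.1.2))
      have hc : c = c' := by
        rw [← c.out_eq, ← c'.out_eq]; exact QuotientGroup.eq.2 this
      subst hc
      exact Prod.ext rfl (Subtype.ext (Subtype.ext ((ρ c.out).injective hv)))
    · rintro ⟨v, hv⟩
      obtain ⟨g, hg⟩ := hcov v hv
      set c : H ⧸ N := (g : H ⧸ N)
      obtain ⟨n, hn⟩ := QuotientGroup.mk_out_eq_mul N g
      have hmem : ρ c.out⁻¹ v ∈ fixSp ρ F := by
        rw [hn, mul_inv_rev, apply_mul]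
        refine (mem_stabSp ρ).1 (stabSp_fix_of_normalizes ρ fun k hk => ?_) _ hg
        rw [inv_inv]
        exact (mem_normalizer_iff.1 n.2 k).1 hk
      have hne : ρ c.out⁻¹ v ≠ 0 := fun h => hv ((ρ _).map_eq_zero_iff.1 h)
      refine ⟨(c, ⟨⟨_, hmem⟩, fun h => hne (congrArg Subtype.val h)⟩), Subtype.ext ?_⟩
      show ρ c.out (ρ c.out⁻¹ v) = v
      rw [← apply_mul, mul_inv_cancel, map_one]; rfl
  have h := Nat.card_eq_of_bijective Φ hbij
  rwa [Nat.card_prod, hnz, hnz] at h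

variable {ρ} {p q : ℕ}

theorem eq_of_good {s : ℕ} [Fact s.Prime] {v : V} {P Q : Subgroup H} (hP : IsPGroup s P)
    (hi : ¬ s ∣ P.index) (hn : ∀ g, ρ g v = v → ∀ k ∈ P, g * k * g⁻¹ ∈ P) (hQ : IsPGroup s Q)
    (hQv : ∀ k ∈ Q, ρ k v = v) : Q ≤ P := by
  have hQn : Q ≤ normalizer (P : Set H) := fun g hg => by
    refine mem_normalizer_iff.2 fun k => ⟨hn g (hQv g hg) k, fun h => ?_⟩
    have := hn g⁻¹ (hQv _ (Q.inv_mem hg)) _ h
    simpa [mul_assoc] using this
  have hsup : IsPGroup s (P ⊔ Q : Subgroup H) := hP.to_sup_of_normal_left' hQ hQn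
  have : (hP.toSylow hi : Subgroup H) = P ⊔ Q :=
    ((hP.toSylow hi).3 hsup le_sup_left).symm
  exact (le_sup_right : Q ≤ P ⊔ Q).trans this.symm.le

namespace Setup

variable (S : Setup ρ p q)

include S

theorem fixSp_ne_top {F : Subgroup H} (hF : F ≠ ⊥) : fixSp ρ F ≠ ⊤ := fun h => hF
  (eq_bot_iff.2 fun k hk => mem_bot.2 (S.inj (LinearEquiv.ext fun v => by
    have hv : v ∈ fixSp ρ F := h ▸ Submodule.mem_top
    rw [map_one]; exact hv k hk)))

theorem sylow_ne_bot (P : Sylow p H) : (P : Subgroup H) ≠ ⊥ :=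
  haveI := Fact.mk S.hp
  P.ne_bot_of_dvd_card S.pdvd

theorem sylow_cover (P : Sylow p H) {v : V} (hv : v ≠ 0) :
    ∃ g, ρ g⁻¹ v ∈ fixSp ρ (P : Subgroup H) := by
  haveI := Fact.mk S.hp
  obtain ⟨P', hP', hi, -, hfix, -⟩ := S.goodp v hv
  obtain ⟨g, hg⟩ := MulAction.exists_smul_eq H P (hP'.toSylow hi)
  refine ⟨g, (fixes_conj_iff ρ).1 fun k hk => hfix k ?_⟩
  have : ((g • P : Sylow p H) : Subgroup H) = P' := by rw [hg]; rfl
  rw [Sylow.coe_subgroup_smul] at this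
  rwa [← this]

theorem sylow_fix_ne_bot (P : Sylow p H) : fixSp ρ (P : Subgroup H) ≠ ⊥ := by
  haveI := S.nontriv
  obtain ⟨v, hv⟩ := exists_ne (0 : V)
  obtain ⟨g, hg⟩ := S.sylow_cover P hv
  intro h
  rw [h, Submodule.mem_bot, LinearEquiv.map_eq_zero_iff] at hg
  exact hv hg

theorem sylow_partition (P : Sylow p H) :
    (normalizer ((P : Subgroup H) : Set H)).index *
      (Nat.card (fixSp ρ (P : Subgroup H)) - 1) = Nat.card V - 1 := by
  haveI := Fact.mk S.hp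
  refine card_partition ρ _ (fun v hv => S.sylow_cover P hv) fun v hv a b ha hb => ?_
  obtain ⟨P', hP', hi, -, hfix, hn⟩ := S.goodp v hv
  have key : ∀ c, ρ c⁻¹ v ∈ fixSp ρ (P : Subgroup H) → MulAut.conj c • (P : Subgroup H) = P' := by
    intro c hc
    refine eq_of_le_of_card_ge
      (eq_of_good hP' hi hn (c • P).isPGroup' ((fixes_conj_iff ρ).2 hc)) (le_of_eq ?_)
    exact Sylow.card_eq_multiplicity (hP'.toSylow hi) |>.trans (Sylow.card_eq_multiplicity (c • P)).symm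
  rw [key a ha, key b hb]

/-- Normal `p`-subgroups are trivial. -/
theorem eq_bot_of_normal {O : Subgroup H} [O.Normal] (hO : IsPGroup p O) : O = ⊥ := by
  haveI := Fact.mk S.hp
  refine eq_bot_iff.2 fun k hk => mem_bot.2 (S.inj (LinearEquiv.ext fun v => ?_))
  rw [map_one]
  rcases eq_or_ne v 0 with rfl | hv
  · simp
  obtain ⟨P', hP', hi, -, hfix, -⟩ := S.goodp v hv
  refine hfix k ?_
  have hsup : IsPGroup p (P' ⊔ O : Subgroup H) := hP'.to_sup_of_normal_right hO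
  have : (hP'.toSylow hi : Subgroup H) = P' ⊔ O := ((hP'.toSylow hi).3 hsup le_sup_left).symm
  exact this.symm.le (mem_sup_right hk)

theorem hall_at {v : V} (hv : v ≠ 0) :
    ∃ A : Subgroup H, Cfsg.IsPiHall {p, q} A ∧ (∀ a ∈ A, ∀ b ∈ A, a * b = b * a) ∧
      (∀ k ∈ A, ρ k v = v) ∧ ∀ g, ρ g v = v → ∀ k ∈ A, g * k * g⁻¹ ∈ A := by
  haveI := Fact.mk S.hp
  haveI := Fact.mk S.hq
  obtain ⟨P, hP, hPi, hPc, hPv, hPn⟩ := S.goodp v hv
  obtain ⟨Q, hQ, hQi, hQc, hQv, hQn⟩ := S.goodq v hv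
  have hdisj : P ⊓ Q = ⊥ :=
    disjoint_iff.1 (IsPGroup.disjoint_of_ne p q S.hpq P Q hP hQ)
  have hcomm : ∀ a ∈ P, ∀ b ∈ Q, a * b = b * a := by
    intro a ha b hb
    have h1 : a * b * a⁻¹ * b⁻¹ ∈ P ⊓ Q := by
      refine ⟨?_, Q.mul_mem (hQn a (hPv a ha) b hb) (Q.inv_mem hb)⟩
      rw [mul_assoc, mul_assoc, ← mul_assoc b]
      exact P.mul_mem ha (hPn b (hQv b hb) _ (P.inv_mem ha))
    rw [hdisj, mem_bot, mul_inv_eq_one, mul_inv_eq_iff_eq_mul] at h1
    exact h1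
  refine ⟨P ⊔ Q, ⟨?_, ?_⟩, ?_, ?_, ?_⟩
  · intro s hs hsd
    obtain ⟨i, hi⟩ := IsPGroup.iff_card.1 hP
    obtain ⟨j, hj⟩ := IsPGroup.iff_card.1 hQ
    have := hsd.trans (Hall.card_sup_dvd_of_le_normalizer (Hall.le_normalizer_of_commute hcomm))
    rw [hi, hj] at this
    rcases hs.dvd_mul.1 this with h | h
    · exact Or.inl ((Nat.prime_dvd_prime_iff_eq hs S.hp).1 (hs.dvd_of_dvd_pow h))
    · exact Or.inr ((Nat.prime_dvd_prime_iff_eq hs S.hq).1 (hs.dvd_of_dvd_pow h))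
  · intro s hs hsm hsd
    rcases hsm with rfl | rfl
    · exact hPi (hsd.trans (index_dvd_of_le le_sup_left))
    · exact hQi (hsd.trans (index_dvd_of_le le_sup_right))
  · rw [sup_eq_closure_mul]
    intro a ha b hb
    have hset : (P : Set H) * (Q : Set H) ⊆ (closure ((P : Set H) * (Q : Set H)) : Set H) := subset_closure
    have : IsMulCommutative (closure ((P : Set H) * (Q : Set H))) := by
      refine isMulCommutative_closure ?_
      rintro _ ⟨x, hx, y, hy, rfl⟩ _ ⟨x', hx', y', hy', rfl⟩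
      calc x * y * (x' * y') = x * (y * x') * y' := by group
        _ = (x * x') * (y * y') := by rw [← hcomm x' hx' y hy]; group
        _ = (x' * x) * (y' * y) := by rw [hPc x hx x' hx', hQc y hy y' hy']
        _ = x' * (x * y') * y := by group
        _ = x' * y' * (x * y) := by rw [hcomm x hx y' hy']; group
    exact setLike_mul_comm ha hb
  · intro k hk
    have : P ⊔ Q ≤ (MulAction.stabilizer (V ≃ₗ[ZMod ℓ] V) v).comap ρ := sup_le hPv hQv
    exact this hk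
  · intro g hg k hk
    have : P ⊔ Q ≤ (P ⊔ Q).comap (MulAut.conj g).toMonoidHom :=
      sup_le (fun a ha => mem_sup_left (hPn g hg a ha)) (fun a ha => mem_sup_right (hQn g hg a ha))
    exact this hk

variable [Group.IsSolvable H]

theorem hall_cover {A : Subgroup H} (hA : Cfsg.IsPiHall {p, q} A) {v : V} (hv : v ≠ 0) :
    ∃ g, ρ g⁻¹ v ∈ fixSp ρ A := by
  obtain ⟨A', hA', -, hfix, -⟩ := S.hall_at hv
  obtain ⟨g, hg⟩ := Hall.isPiHall_conjugate hA hA'
  exact ⟨g, (fixes_conj_iff ρ).1 fun k hk => hfix k (hg.le hk)⟩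

theorem hall_fix_ne_bot {A : Subgroup H} (hA : Cfsg.IsPiHall {p, q} A) : fixSp ρ A ≠ ⊥ := by
  haveI := S.nontriv
  obtain ⟨v, hv⟩ := exists_ne (0 : V)
  obtain ⟨g, hg⟩ := S.hall_cover hA hv
  intro h
  rw [h, Submodule.mem_bot, LinearEquiv.map_eq_zero_iff] at hg
  exact hv hg

theorem hall_comm {A : Subgroup H} (hA : Cfsg.IsPiHall {p, q} A) :
    ∀ a ∈ A, ∀ b ∈ A, a * b = b * a := by
  haveI := S.nontriv
  obtain ⟨v, hv⟩ := exists_ne (0 : V)
  obtain ⟨A', hA', hc, -, -⟩ := S.hall_at hv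
  obtain ⟨g, rfl⟩ := Hall.isPiHall_conjugate hA hA'
  intro a ha b hb
  exact (MulAut.conj g).injective (by
    rw [map_mul, map_mul]; exact hc _ ⟨a, ha, rfl⟩ _ ⟨b, hb, rfl⟩)

theorem dvd_card_hall {A : Subgroup H} (hA : Cfsg.IsPiHall {p, q} A) : p ∣ Nat.card A := by
  refine (Nat.Prime.dvd_mul S.hp).1 (A.card_mul_index.symm ▸ S.pdvd) |>.resolve_right ?_
  exact hA.2 p S.hp (Or.inl rfl)

theorem hall_ne_bot {A : Subgroup H} (hA : Cfsg.IsPiHall {p, q} A) : A ≠ ⊥ := by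
  rintro rfl
  have := S.dvd_card_hall hA
  rw [card_bot, Nat.dvd_one] at this
  exact S.hp.ne_one this

theorem hall_partition {A : Subgroup H} (hA : Cfsg.IsPiHall {p, q} A) :
    (normalizer (A : Set H)).index * (Nat.card (fixSp ρ A) - 1) = Nat.card V - 1 := by
  refine card_partition ρ _ (fun v hv => S.hall_cover hA hv) fun v hv a b ha hb => ?_
  obtain ⟨A', hA', -, hfix, hn⟩ := S.hall_at hv
  have key : ∀ c, ρ c⁻¹ v ∈ fixSp ρ A → MulAut.conj c • A = A' := by
    intro c hc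
    set B := MulAut.conj c • A
    have hB : Cfsg.IsPiHall {p, q} B := Hall.isPiHall_conj hA c
    have hBn : B ≤ normalizer (A' : Set H) := fun g hg => by
      refine mem_normalizer_iff.2 fun k => ⟨hn g ((fixes_conj_iff ρ).2 hc g hg) k, fun h => ?_⟩
      have := hn g⁻¹ ((fixes_conj_iff ρ).2 hc _ (B.inv_mem hg)) _ h
      simpa [mul_assoc] using this
    have hsup : Hall.IsPiNumber {p, q} (Nat.card (B ⊔ A' : Subgroup H)) :=
      (Hall.IsPiNumber.mul hB.1 hA'.1).of_dvd (Hall.card_sup_dvd_of_le_normalizer hBn)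
    exact (Hall.eq_of_isPiHall_le hB le_sup_left hsup).trans
      (Hall.eq_of_isPiHall_le hA' le_sup_right hsup).symm
  rw [key a ha, key b hb]

theorem normalizer_index_not_dvd {A : Subgroup H} (hA : Cfsg.IsPiHall {p, q} A) :
    ¬ p ∣ (normalizer (A : Set H)).index := fun h =>
  hA.2 p S.hp (Or.inl rfl) (h.trans (index_dvd_of_le le_normalizer))

end Setup

end Cfsg.Agent.Lib.SolvDegrees.Palfy
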