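import Mathlib
import Cfsg.Agent.Lib.SolvDegrees.PalfyPartition

/-!
The exceptional dimension six over `ZMod 2`.
-/

set_option autoImplicit false
set_option linter.unusedSectionVars false

namespace Cfsg.Agent.Lib.SolvDegrees.Palfy

open Subgroup

theorem prime_mem_of_dvd {p N : ℕ} (hp : p.Prime) (hN : N ≠ 0) (h : p ∣ N) : p ∈ N.primeFactors :=
  Nat.mem_primeFactors.2 ⟨hp, h, hN⟩

set_option synthInstance.maxSize 4000 in
set_option synthInstance.maxHeartbeats 200000 in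
theorem arith_six {p q fp fq c n : ℕ} (hp : p.Prime) (hq : q.Prime) (hpq : p ≠ q)
    (hfp : 1 ≤ fp) (hfp' : fp ≤ 3) (hfq : 1 ≤ fq) (hfq' : fq ≤ 3) (hc : 1 ≤ c) (hc' : c ≤ 3)
    (hn : n * (2 ^ c - 1) = 63) (hnp : ¬ p ∣ n) (hnq : ¬ q ∣ n)
    (hP : p ∣ 2 ^ 6 - 2 ^ fp) (hQ : q ∣ 2 ^ 6 - 2 ^ fq)
    (hPQ : 2 ^ fp ≡ 2 ^ c [MOD q]) (hQP : 2 ^ fq ≡ 2 ^ c [MOD p])
    (h2q : q = 2 → c < fq) (h2p : p = 2 → c < fp) : False := by
  have small : ∀ r < 63, ∀ f ∈ [1, 2, 3], Nat.Prime r → r ∣ 2 ^ 6 - 2 ^ f → r ∈ [2, 3, 5, 7, 31] := by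
    decide +kernel
  have check : ∀ p ∈ [2, 3, 5, 7, 31], ∀ q ∈ [2, 3, 5, 7, 31],
      ∀ fp ∈ [1, 2, 3], ∀ fq ∈ [1, 2, 3], ∀ c ∈ [1, 2, 3],
      p ≠ q → ¬ p ∣ 63 / (2 ^ c - 1) → ¬ q ∣ 63 / (2 ^ c - 1) →
      p ∣ 2 ^ 6 - 2 ^ fp → q ∣ 2 ^ 6 - 2 ^ fq →
      2 ^ fp % q = 2 ^ c % q → 2 ^ fq % p = 2 ^ c % p →
      (q = 2 → c < fq) → (p = 2 → c < fp) → False := by
    decide +kernel
  have hf : ∀ f, 1 ≤ f → f ≤ 3 → f ∈ [1, 2, 3] := fun f h1 h3 => by interval_cases f <;> decide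
  have hlt : ∀ r f, 1 ≤ f → f ≤ 3 → r ∣ 2 ^ 6 - 2 ^ f → r < 63 := fun r f h1 h3 hd => by
    have h2 : 2 ^ 1 ≤ 2 ^ f := Nat.pow_le_pow_right two_pos h1
    have h4 : 2 ^ f ≤ 2 ^ 3 := Nat.pow_le_pow_right two_pos h3
    have := Nat.le_of_dvd (by omega) hd
    omega
  have hn' : n = 63 / (2 ^ c - 1) := by
    have h2 : 2 ^ 1 ≤ 2 ^ c := Nat.pow_le_pow_right two_pos hc
    rw [← hn, Nat.mul_div_cancel _ (by omega)]
  subst hn'
  exact check p (small p (hlt p fp hfp hfp' hP) fp (hf _ hfp hfp') hp hP)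
    q (small q (hlt q fq hfq hfq' hQ) fq (hf _ hfq hfq') hq hQ)
    fp (hf _ hfp hfp') fq (hf _ hfq hfq') c (hf _ hc hc') hpq hnp hnq hP hQ hPQ hQP h2q h2p

variable {V : Type*} [AddCommGroup V] [Module (ZMod 2) V] [Finite V] {H : Type*} [Group H]
  [Finite H] {ρ : H →* (V ≃ₗ[ZMod 2] V)} {p q : ℕ}

/-- A `2`-group commuting with a coprime `p`-group fixes a vector which that group moves. -/
theorem exists_fix_not_fix (hp : p.Prime) (hp2 : p ≠ 2) {P Q : Subgroup H} (hP : IsPGroup p P)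
    (hPtop : fixSp ρ P ≠ ⊤) (hQ : IsPGroup 2 Q) (hcomm : ∀ a ∈ P, ∀ b ∈ Q, a * b = b * a) :
    ∃ v, v ∈ fixSp ρ Q ∧ v ∉ fixSp ρ P := by
  classical
  haveI := Fact.mk hp
  haveI := Fintype.ofFinite P
  let N : V →ₗ[ZMod 2] V := ∑ a : P, (ρ (a : H)).toLinearMap
  have hN : ∀ v, N v = ∑ a : P, ρ (a : H) v := fun v => by
    simp only [N, LinearMap.sum_apply, LinearEquiv.coe_coe]
  have hmod : (Fintype.card P : ZMod 2) = 1 := by
    obtain ⟨k, hk⟩ := IsPGroup.iff_card.1 hP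
    rw [Fintype.card_eq_nat_card, hk]
    exact (ZMod.natCast_eq_one_iff_odd).2 ((hp.odd_of_ne_two hp2).pow)
  have hrange : N.range ≤ fixSp ρ P := by
    rintro _ ⟨v, rfl⟩ k hk
    rw [hN, map_sum]
    exact Fintype.sum_equiv (Equiv.mulLeft (⟨k, hk⟩ : P)) _ _ fun a => (apply_mul ρ k a v).symm
  have hfixN : ∀ v ∈ fixSp ρ P, N v = v := fun v hv => by
    rw [hN, Finset.sum_congr rfl fun (a : P) _ => hv a a.2, Finset.sum_const, Finset.card_univ,
      ← Nat.cast_smul_eq_nsmul (ZMod 2), hmod, one_smul]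
  have hker : N.ker ≠ ⊥ := by
    intro h
    apply hPtop
    refine eq_top_iff.2 fun v _ => ?_
    have hsur : Function.Surjective N :=
      LinearMap.injective_iff_surjective.1 (LinearMap.ker_eq_bot.1 h)
    exact hrange (LinearMap.mem_range.2 (hsur v))
  have hstab : Q ≤ stabSp ρ N.ker := fun b hb => (mem_stabSp ρ).2 fun v hv => by
    rw [LinearMap.mem_ker, hN] at hv ⊢
    have : ∀ a : P, ρ (a : H) (ρ b v) = ρ b (ρ (a : H) v) := fun a => by
      rw [← apply_mul, ← apply_mul, hcomm a a.2 b hb]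
    rw [Finset.sum_congr rfl fun a _ => this a, ← map_sum, hv, map_zero]
  have hne : N.ker ⊓ fixSp ρ Q ≠ ⊥ := by
    intro h
    have h1 := card_modEq ρ hQ hstab
    rw [h, card_eq_pow, card_eq_pow, finrank_bot, pow_zero] at h1
    have hpos : Module.finrank (ZMod 2) N.ker ≠ 0 := fun h0 => hker (Submodule.finrank_eq_zero.1 h0)
    obtain ⟨i, hi⟩ := Nat.exists_eq_succ_of_ne_zero hpos
    rw [hi, pow_succ] at h1
    simp [Nat.ModEq] at h1
  obtain ⟨v, hv, hv0⟩ := Submodule.exists_mem_ne_zero_of_ne_bot hne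
  exact ⟨v, hv.2, fun hvP => hv0 ((hfixN v hvP).symm.trans (LinearMap.mem_ker.1 hv.1))⟩

/-- The two Sylow subgroups inside a Hall subgroup. -/
theorem exists_parts {ℓ : ℕ} [Fact ℓ.Prime] {V : Type*} [AddCommGroup V] [Module (ZMod ℓ) V]
    [Finite V] {ρ : H →* (V ≃ₗ[ZMod ℓ] V)} (S : Setup ρ p q) {A : Subgroup H}
    (hA : Cfsg.IsPiHall {p, q} A) : ∃ (P : Sylow p H) (Q : Sylow q H),
      (P : Subgroup H) ≤ A ∧ (Q : Subgroup H) ≤ A ∧
      fixSp ρ (P : Subgroup H) ⊓ fixSp ρ (Q : Subgroup H) = fixSp ρ A := by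
  have get : ∀ s : ℕ, s.Prime → s ∈ ({p, q} : Set ℕ) → ∃ P : Sylow s H, (P : Subgroup H) ≤ A := by
    intro s hs hmem
    haveI := Fact.mk hs
    obtain ⟨P0⟩ : Nonempty (Sylow s A) := inferInstance
    have hi : ¬ s ∣ ((P0 : Subgroup A).map A.subtype).index := by
      rw [index_map_subtype, hs.dvd_mul]
      rintro (h | h)
      · exact P0.not_dvd_index h
      · exact hA.2 s hs hmem h
    exact ⟨(P0.isPGroup'.map A.subtype).toSylow hi, map_subtype_le _⟩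
  obtain ⟨P, hP⟩ := get p S.hp (Or.inl rfl)
  obtain ⟨Q, hQ⟩ := get q S.hq (Or.inr rfl)
  haveI := Fact.mk S.hp
  haveI := Fact.mk S.hq
  refine ⟨P, Q, hP, hQ, le_antisymm (fun v hv => ?_) fun v hv =>
    ⟨fun k hk => hv k (hP hk), fun k hk => hv k (hQ hk)⟩⟩
  have hsup : (P : Subgroup H) ⊔ (Q : Subgroup H) = A := by
    refine eq_of_le_of_card_ge (sup_le hP hQ) (Nat.le_of_dvd Nat.card_pos ?_)
    rw [Nat.dvd_iff_prime_pow_dvd_dvd]
    intro s i hs hsi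
    rcases Nat.eq_zero_or_pos i with rfl | hi
    · simp
    rcases hA.1 s hs ((dvd_pow_self s hi.ne').trans hsi) with rfl | rfl
    · exact (P.pow_dvd_card_of_pow_dvd_card (hsi.trans (card_subgroup_dvd_card A))).trans
        (card_dvd_of_le le_sup_left)
    · exact (Q.pow_dvd_card_of_pow_dvd_card (hsi.trans (card_subgroup_dvd_card A))).trans
        (card_dvd_of_le le_sup_right)
  intro k hk
  rw [← hsup] at hk
  have h2 : (P : Subgroup H) ⊔ (Q : Subgroup H) ≤ (MulAction.stabilizer (V ≃ₗ[ZMod ℓ] V) v).comap ρ :=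
    sup_le hv.1 hv.2
  exact h2 hk

variable [Group.IsSolvable H]

/-- No such action in dimension six. -/
theorem false_of_six (S : Setup ρ p q) (hm : Module.finrank (ZMod 2) V = 6) : False := by
  obtain ⟨A, hA⟩ := Hall.exists_isPiHall (G := H) {p, q}
  have hA' : Cfsg.IsPiHall {q, p} A := by rwa [Set.pair_comm]
  obtain ⟨P, Q, hP, hQ, hPQ⟩ := exists_parts S hA
  haveI := Fact.mk S.hp
  haveI := Fact.mk S.hq
  have hV : Nat.card V = 64 := by
    rw [Module.natCard_eq_pow_finrank (K := ZMod 2), hm, Nat.card_zmod]; norm_num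
  -- dimensions
  have dim : ∀ F : Subgroup H, fixSp ρ F ≠ ⊥ → fixSp ρ F ≠ ⊤ → ∀ n,
      n * (Nat.card (fixSp ρ F) - 1) = Nat.card V - 1 →
      1 ≤ Module.finrank (ZMod 2) (fixSp ρ F) ∧ Module.finrank (ZMod 2) (fixSp ρ F) ≤ 3 := by
    intro F h0 h1 n hn
    have hpos : Module.finrank (ZMod 2) (fixSp ρ F) ≠ 0 := fun h => h0 (Submodule.finrank_eq_zero.1 h)
    have hlt := Submodule.finrank_lt h1
    rw [hm] at hlt
    rw [hV, card_eq_pow] at hn
    refine ⟨by omega, ?_⟩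
    by_contra hgt
    have hd : 2 ^ Module.finrank (ZMod 2) (fixSp ρ F) - 1 ∣ 63 := Dvd.intro_left _ hn
    set f := Module.finrank (ZMod 2) (fixSp ρ F)
    interval_cases f <;> norm_num at hd
  have hnp := S.hall_partition hA
  have dA := dim A (S.hall_fix_ne_bot hA) (S.fixSp_ne_top (S.hall_ne_bot hA)) _ hnp
  have dP := dim P (S.sylow_fix_ne_bot P) (S.fixSp_ne_top (S.sylow_ne_bot P)) _ (S.sylow_partition P)
  have dQ := dim Q (S.symm.sylow_fix_ne_bot Q) (S.symm.fixSp_ne_top (S.symm.sylow_ne_bot Q)) _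
    (S.symm.sylow_partition Q)
  rw [hV, card_eq_pow] at hnp
  have hcomm := S.hall_comm hA
  -- congruences
  have htop : ∀ {s : ℕ} [Fact s.Prime] (R : Sylow s H),
      s ∣ 2 ^ 6 - 2 ^ Module.finrank (ZMod 2) (fixSp ρ (R : Subgroup H)) := by
    intro s _ R
    have h := card_modEq ρ R.isPGroup' (W := (⊤ : Submodule (ZMod 2) V))
      (fun g _ => (mem_stabSp ρ).2 fun w _ => trivial)
    rw [top_inf_eq, card_eq_pow, card_eq_pow, finrank_top, hm] at h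
    refine (Nat.modEq_iff_dvd' (Nat.pow_le_pow_right (by norm_num) ?_)).1 h.symm
    rw [← hm]; exact Submodule.finrank_le _
  have hmodQ := card_modEq ρ Q.isPGroup' (W := fixSp ρ (P : Subgroup H))
    (fun g hg => stabSp_fix_of_centralizes ρ fun k hk => hcomm k (hP hk) g (hQ hg))
  have hmodP := card_modEq ρ P.isPGroup' (W := fixSp ρ (Q : Subgroup H))
    (fun g hg => stabSp_fix_of_centralizes ρ fun k hk => hcomm k (hQ hk) g (hP hg))
  rw [hPQ, card_eq_pow, card_eq_pow] at hmodQ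
  rw [inf_comm, hPQ, card_eq_pow, card_eq_pow] at hmodP
  -- the even prime
  have hlt : ∀ {s : ℕ} [Fact s.Prime] (R : Sylow s H) (R2 : Subgroup H), IsPGroup 2 R2 → s ≠ 2 →
      fixSp ρ (R : Subgroup H) ≠ ⊤ → (R : Subgroup H) ≤ A → R2 ≤ A →
      fixSp ρ (R : Subgroup H) ⊓ fixSp ρ R2 = fixSp ρ A →
      Module.finrank (ZMod 2) (fixSp ρ A) < Module.finrank (ZMod 2) (fixSp ρ R2) := by
    intro s _ R R2 h2 hs2 htopR hR hR2 heq
    obtain ⟨v, hv, hv'⟩ := exists_fix_not_fix (Fact.out : s.Prime) hs2 R.isPGroup' htopR h2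
      (fun a ha b hb => hcomm a (hR ha) b (hR2 hb))
    exact Submodule.finrank_lt_finrank_of_lt (lt_of_le_of_ne (heq ▸ inf_le_right)
      fun e => hv' ((heq.ge.trans inf_le_left) (e ▸ hv)))
  refine arith_six S.hp S.hq S.hpq dP.1 dP.2 dQ.1 dQ.2 dA.1 dA.2 hnp
    (S.normalizer_index_not_dvd hA) (S.symm.normalizer_index_not_dvd hA')
    (htop P) (htop Q) hmodQ hmodP ?_ ?_
  · intro h2
    exact hlt P Q (by subst h2; exact Q.isPGroup') (fun h => S.hpq (h.trans h2.symm))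
      (S.fixSp_ne_top (S.sylow_ne_bot P)) hP hQ hPQ
  · intro h2
    exact hlt Q P (by subst h2; exact P.isPGroup') (fun h => S.hpq (h2.trans h.symm))
      (S.symm.fixSp_ne_top (S.symm.sylow_ne_bot Q)) hQ hP (by rw [inf_comm, hPQ])

end Cfsg.Agent.Lib.SolvDegrees.Palfy
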