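import Mathlib
import Cfsg.Agent.Lib.Core.Fitting
import Cfsg.Agent.Lib.RankTwo.FittingRank

/-!
An element centralising every prime core of a solvable group lies in them.
-/

set_option autoImplicit false

namespace Cfsg.Agent.Lib.SolvDegrees.Palfy

open Subgroup

/-- In a solvable group an element of prime order `p` centralising all `O_e`, `e ≠ p`, and
`O_p` lies in `O_p`. -/
theorem mem_pCore_of_centralizes {H : Type*} [Group H] [Finite H] [Group.IsSolvable H] {p : ℕ}
    [Fact p.Prime] {x : H} (hx : x ^ p = 1)
    (h : ∀ e : ℕ, e.Prime → ∀ d ∈ Cfsg.pCore e H, Commute x d) : x ∈ Cfsg.pCore p H := by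
  refine RankTwo.mem_pCore_of_mem_fitting (Fitting.centralizer_fittingSubgroup_le ?_)
    ⟨1, by rwa [pow_one]⟩
  have hle : Cfsg.fittingSubgroup H ≤ centralizer ({x} : Set H) := by
    rw [Fitting.fittingSubgroup_eq_iSup_pCore]
    exact iSup_le fun e => fun d hd => mem_centralizer_singleton_iff.2 (h e e.2 d hd).eq.symm
  exact mem_centralizer_iff.2 fun d hd => mem_centralizer_singleton_iff.1 (hle hd)

end Cfsg.Agent.Lib.SolvDegrees.Palfy
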