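import Mathlib
import Cfsg.Agent.Lib.SolvDegrees.PalfyBasic

/-!
The commutant of an element of primitive prime order, and a bound on class two subgroups.
-/

set_option autoImplicit false
set_option linter.unusedSectionVars false

namespace Cfsg.Agent.Lib.SolvDegrees.Palfy

open scoped commutatorElement

variable {ℓ : ℕ} [Fact ℓ.Prime] {V : Type*} [AddCommGroup V] [Module (ZMod ℓ) V] [Finite V]
  {H : Type*} [Group H] (ρ : H →* (V ≃ₗ[ZMod ℓ] V))

/-- The action inside the endomorphism ring. -/
def eH : H →* Module.End (ZMod ℓ) V where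
  toFun g := (ρ g).toLinearMap
  map_one' := by simp; rfl
  map_mul' g h := by simp [Module.End.mul_eq_comp]

theorem eH_apply (g : H) (v : V) : eH ρ g v = ρ g v := rfl

theorem eH_injective (hρ : Function.Injective ρ) : Function.Injective (eH ρ) := fun g h e =>
  hρ (LinearEquiv.ext fun v => LinearMap.congr_fun e v)

/-- Coset representatives of the centre of a class two group are linearly independent. -/
theorem card_le_sq [Finite H] [Nontrivial V] (hρ : Function.Injective ρ) (D : Subgroup H)
    (K : Subalgebra (ZMod ℓ) (Module.End (ZMod ℓ) V))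
    (hK : ∀ c ∈ K, c ≠ 0 → Function.Injective c)
    (hKD : ∀ c ∈ K, ∀ d ∈ D, Commute c (eH ρ d))
    (hcomm : ∀ a ∈ D, ∀ b ∈ D, eH ρ ⁅a, b⁆ ∈ K) :
    Nat.card D ≤ Module.finrank (ZMod ℓ) V ^ 2 *
      Nat.card ↥(D ⊓ Subgroup.centralizer (D : Set H)) := by
  classical
  set Z := D ⊓ Subgroup.centralizer (D : Set H) with hZ
  set Z' := Z.subgroupOf D with hZ'
  rw [Subgroup.card_eq_card_quotient_mul_card_subgroup Z',
    Nat.card_congr (Subgroup.subgroupOfEquivOfLe (inf_le_left : Z ≤ D)).toEquiv]
  refine Nat.mul_le_mul_right _ ?_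
  have hd : ∀ i : D ⧸ Z', (i.out : H) ∈ D := fun i => i.out.2
  -- the scalar of `d` on the `i`-th representative
  let ω : D → D ⧸ Z' → Module.End (ZMod ℓ) V := fun d i => eH ρ ⁅(d : H), (i.out : H)⁆
  have hsep : ∀ i j, i ≠ j → ∃ d : D, ω d i ≠ ω d j := by
    intro i j hij
    by_contra! hall
    apply hij
    rw [← i.out_eq, ← j.out_eq]
    refine QuotientGroup.eq.2 ?_
    rw [Subgroup.mem_subgroupOf, Subgroup.mem_inf]
    refine ⟨SetLike.coe_mem _, Subgroup.mem_centralizer_iff.2 fun g hg => ?_⟩
    have h := eH_injective ρ hρ (hall ⟨g⁻¹, D.inv_mem hg⟩)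
    simp only [commutatorElement_def, inv_inv] at h
    have h' : (i.out : H) * g * (i.out : H)⁻¹ = (j.out : H) * g * (j.out : H)⁻¹ := by
      calc (i.out : H) * g * (i.out : H)⁻¹ = g * (g⁻¹ * i.out * g * (i.out : H)⁻¹) := by group
        _ = g * (g⁻¹ * j.out * g * (j.out : H)⁻¹) := by rw [h]
        _ = _ := by group
    simp only [Subgroup.coe_mul, Subgroup.coe_inv]
    calc g * ((i.out : H)⁻¹ * j.out)
        = (i.out : H)⁻¹ * ((i.out : H) * g * (i.out : H)⁻¹) * j.out := by group
      _ = (i.out : H)⁻¹ * ((j.out : H) * g * (j.out : H)⁻¹) * j.out := by rw [h']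
      _ = _ := by group
  have key : ∀ (s : Finset (D ⧸ Z')) (c : D ⧸ Z' → Module.End (ZMod ℓ) V), (∀ i, c i ∈ K) →
      ∑ i ∈ s, c i * eH ρ i.out = 0 → ∀ i ∈ s, c i = 0 := by
    intro s
    induction s using Finset.induction with
    | empty => simp
    | @insert j s hj ih =>
      intro c hc hsum
      have hall : ∀ i ∈ s, c i = 0 := by
        intro i hi
        obtain ⟨d, hd'⟩ := hsep i j (fun e => hj (e ▸ hi))
        have h1 : ∀ k, eH ρ d * (c k * eH ρ k.out) * eH ρ (d : H)⁻¹ = c k * ω d k * eH ρ k.out := by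
          intro k
          rw [← mul_assoc, ← (hKD _ (hc k) _ d.2).eq, mul_assoc, mul_assoc, mul_assoc]
          congr 1
          rw [← map_mul, ← map_mul, ← map_mul, commutatorElement_def]
          congr 1
          group
        have h2 : ∑ k ∈ insert j s, c k * ω d k * eH ρ k.out = 0 := by
          rw [← Finset.sum_congr rfl fun k _ => h1 k, ← Finset.sum_mul, ← Finset.mul_sum, hsum,
            mul_zero, zero_mul]
        have hωK : ∀ k, ω d k ∈ K := fun k => hcomm _ d.2 _ (hd k)
        have h3 : ∑ k ∈ s, c k * (ω d k - ω d j) * eH ρ k.out = 0 := by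
          have hcω : ∀ k, c k * ω d j * eH ρ k.out = ω d j * (c k * eH ρ k.out) - (ω d j * c k - c k * ω d j) * eH ρ k.out := by
            intro k; rw [sub_mul, mul_assoc (ω d j)]; abel
          rw [Finset.sum_insert hj] at h2 hsum
          have e : ω d j * c j = c j * ω d j := by
            have h5 := hKD _ (hc j) _ d.2
            have h6 := hKD _ (hc j) _ (hd j)
            show eH ρ ⁅(d : H), (j.out : H)⁆ * c j = _
            have : Commute (c j) (eH ρ ⁅(d : H), (j.out : H)⁆) := by
              rw [commutatorElement_def, map_mul, map_mul, map_mul]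
              exact ((h5.mul_right h6).mul_right (hKD _ (hc j) _ (D.inv_mem d.2))).mul_right
                (hKD _ (hc j) _ (D.inv_mem (hd j)))
            exact this.eq.symm
          have e' : ∀ k, c k * ω d j = ω d j * c k := fun k => by
            have : Commute (c k) (eH ρ ⁅(d : H), (j.out : H)⁆) := by
              rw [commutatorElement_def, map_mul, map_mul, map_mul]
              exact (((hKD _ (hc k) _ d.2).mul_right (hKD _ (hc k) _ (hd j))).mul_right
                (hKD _ (hc k) _ (D.inv_mem d.2))).mul_right (hKD _ (hc k) _ (D.inv_mem (hd j)))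
            exact this.eq
          simp only [mul_sub, sub_mul, Finset.sum_sub_distrib, e', mul_assoc, ← Finset.mul_sum]
          rw [eq_neg_of_add_eq_zero_right hsum]
          simp only [mul_assoc] at h2
          rw [eq_neg_of_add_eq_zero_right h2, mul_neg, ← mul_assoc (ω d j), e, mul_assoc]
          abel
        have h4 := ih (fun k => c k * (ω d k - ω d j))
          (fun k => K.mul_mem (hc k) (K.sub_mem (hωK k) (hωK j))) h3 i hi
        by_contra hne
        apply sub_ne_zero.2 hd'
        refine LinearMap.ext fun v => hK _ (hc i) hne ?_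
        rw [LinearMap.zero_apply, map_zero]
        exact LinearMap.congr_fun h4 v
      intro i hi
      rcases Finset.mem_insert.1 hi with rfl | hi
      · rw [Finset.sum_insert hj, Finset.sum_eq_zero (fun k hk => by rw [hall k hk, zero_mul]),
          add_zero] at hsum
        have := congrArg (· * eH ρ ((i.out : H))⁻¹) hsum
        simpa only [mul_assoc, ← map_mul, mul_inv_cancel, map_one, mul_one, zero_mul] using this
      · exact hall i hi
  haveI := Fintype.ofFinite (D ⧸ Z')
  have hli : LinearIndependent (ZMod ℓ) (fun i : D ⧸ Z' => eH ρ i.out) := by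
    refine Fintype.linearIndependent_iff.2 fun g hg i => ?_
    have h := key Finset.univ (fun i => algebraMap (ZMod ℓ) _ (g i)) (fun i => K.algebraMap_mem _)
      (by simpa only [← Algebra.smul_def] using hg) i (Finset.mem_univ i)
    exact (algebraMap (ZMod ℓ) (Module.End (ZMod ℓ) V)).injective (h.trans (map_zero _).symm)
  have h := hli.fintype_card_le_finrank
  rw [show Module.finrank (ZMod ℓ) (Module.End (ZMod ℓ) V) = _ from Module.finrank_linearMap (ZMod ℓ) (ZMod ℓ) V V, Fintype.card_eq_nat_card] at h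
  rwa [sq]

namespace Zsig

variable {ρ} {t : ℕ} {x : H} (hx : Zsig ρ t x)

include hx

theorem injective_of_commute {f : Module.End (ZMod ℓ) V} (hf : Commute f (eH ρ x)) (h0 : f ≠ 0) :
    Function.Injective f := by
  have hW : x ∈ stabSp ρ f.ker := (mem_stabSp ρ).2 fun w hw => by
    rw [LinearMap.mem_ker] at hw ⊢
    have := LinearMap.congr_fun hf.eq w
    simp only [Module.End.mul_apply, eH_apply, hw, map_zero] at this
    exact this
  rcases hx.irred _ hW with h | h
  · exact LinearMap.ker_eq_bot.1 h
  · exact absurd (LinearMap.ker_eq_top.1 h) h0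

theorem commute_of_commute {f g : Module.End (ZMod ℓ) V} (hf : Commute f (eH ρ x))
    (hg : Commute g (eH ρ x)) : Commute f g := by
  haveI := hx.nontrivial
  obtain ⟨v₀, hv₀⟩ := exists_ne (0 : V)
  set A := Algebra.adjoin (ZMod ℓ) ({eH ρ x} : Set (Module.End (ZMod ℓ) V))
  set L : A →ₗ[ZMod ℓ] V := (LinearMap.applyₗ v₀).comp A.val.toLinearMap
  have hxA : eH ρ x ∈ A := Algebra.subset_adjoin rfl
  have hW : x ∈ stabSp ρ L.range := (mem_stabSp ρ).2 fun w hw => by
    obtain ⟨a, rfl⟩ := hw
    exact ⟨⟨eH ρ x, hxA⟩ * a, rfl⟩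
  have htop : L.range = ⊤ := (hx.irred _ hW).resolve_left fun h => hv₀
    ((Submodule.mem_bot (ZMod ℓ)).1 (h ▸ ⟨1, rfl⟩ : v₀ ∈ (⊥ : Submodule (ZMod ℓ) V)))
  have hA : ∀ f : Module.End (ZMod ℓ) V, Commute f (eH ρ x) → ∀ a ∈ A, Commute f a := by
    intro f hf a ha
    have : A ≤ Subalgebra.centralizer (ZMod ℓ) ({f} : Set (Module.End (ZMod ℓ) V)) :=
      Algebra.adjoin_le (by rintro _ rfl; rw [SetLike.mem_coe, Subalgebra.mem_centralizer_iff]; rintro _ rfl; exact hf.eq)
    exact (Subalgebra.mem_centralizer_iff _).1 (this ha) f rfl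
  obtain ⟨a, ha⟩ : f v₀ ∈ L.range := htop ▸ Submodule.mem_top
  have hfa : f = (a : Module.End (ZMod ℓ) V) := by
    by_contra hne
    have hc : Commute (f - (a : Module.End (ZMod ℓ) V)) (eH ρ x) :=
      hf.sub_left ((hA _ (Commute.refl (eH ρ x)) _ a.2).symm)
    apply hv₀
    refine hx.injective_of_commute hc (sub_ne_zero.2 hne) ?_
    rw [map_zero, LinearMap.sub_apply, ← ha]
    exact sub_self _
  rw [hfa]
  exact (hA g hg _ a.2).symm

/-- The algebra of endomorphisms commuting with `x`. -/
theorem exists_field_subalgebra : ∃ K : Subalgebra (ZMod ℓ) (Module.End (ZMod ℓ) V),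
    (∀ f, f ∈ K ↔ Commute f (eH ρ x)) ∧ ∀ c ∈ K, c ≠ 0 → Function.Injective c :=
  ⟨Subalgebra.centralizer (ZMod ℓ) {eH ρ x}, fun f => by
    rw [Subalgebra.mem_centralizer_iff]
    exact ⟨fun h => (h _ rfl).symm, fun h g hg => by rw [Set.mem_singleton_iff.1 hg]; exact h.eq.symm⟩,
    fun c hc h0 => hx.injective_of_commute
      ((Subalgebra.mem_centralizer_iff _).1 hc _ rfl).symm h0⟩

theorem isCyclic_centralizer [Finite H] :
    IsCyclic (Subgroup.centralizer ({x} : Set H)) := by
  haveI := hx.nontrivial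
  obtain ⟨K, hK, hinj⟩ := hx.exists_field_subalgebra
  letI : CommRing K :=
    { (inferInstance : Ring K) with
      mul_comm := fun a b =>
        Subtype.ext (hx.commute_of_commute ((hK _).1 a.2) ((hK _).1 b.2)).eq }
  haveI : NoZeroDivisors K := ⟨fun {a b} h => by
    by_cases ha : a = 0
    · exact Or.inl ha
    · refine Or.inr (Subtype.ext (LinearMap.ext fun v =>
        hinj a.1 a.2 (fun e => ha (Subtype.ext e)) ?_))
      rw [ZeroMemClass.coe_zero, LinearMap.zero_apply, map_zero]
      exact LinearMap.congr_fun (congrArg Subtype.val h) v⟩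
  haveI : Nontrivial K := ⟨⟨0, 1, fun e => by
    obtain ⟨v, hv⟩ := exists_ne (0 : V)
    exact hv (LinearMap.congr_fun (congrArg Subtype.val e) v).symm⟩⟩
  haveI : IsDomain K := NoZeroDivisors.to_isDomain K
  let f : Subgroup.centralizer ({x} : Set H) →* K :=
    { toFun := fun g => ⟨eH ρ g, (hK _).2 (((show Commute (g : H) x from
        (Subgroup.mem_centralizer_singleton_iff.1 g.2))).map (eH ρ))⟩
      map_one' := Subtype.ext (map_one (eH ρ))
      map_mul' := fun a b => Subtype.ext (map_mul (eH ρ) (a : H) b) }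
  exact isCyclic_of_injective_ringHom f fun a b e =>
    Subtype.ext (eH_injective ρ hx.inj (congrArg Subtype.val e))

theorem commute_of_mem_centralizer {a b : H} (ha : Commute a x) (hb : Commute b x) :
    Commute a b := by
  have h := hx.commute_of_commute (ha.map (eH ρ)) (hb.map (eH ρ))
  exact eH_injective ρ hx.inj (by rw [map_mul, map_mul]; exact h.eq)

end Zsig

end Cfsg.Agent.Lib.SolvDegrees.Palfy
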