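import Mathlib
import Cfsg.Agent.Lib.SolvDegrees.PalfyCommutant
import Cfsg.Agent.Lib.SolvLinear.ClassTwo
import Cfsg.Agent.Lib.PGroup.Frattini

/-!
A group of prime power order normalised by an element of primitive prime order `t` is centralised
by it, unless `t - 1` is a power of that prime.
-/

set_option autoImplicit false
set_option linter.unusedSectionVars false

namespace Cfsg.Agent.Lib.SolvDegrees.Palfy

open scoped commutatorElement
open Subgroup

variable {ℓ : ℕ} [Fact ℓ.Prime] {V : Type*} [AddCommGroup V] [Module (ZMod ℓ) V] [Finite V]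
  {H : Type*} [Group H] [Finite H] {ρ : H →* (V ≃ₗ[ZMod ℓ] V)} {t : ℕ} {x : H}

theorem mem_normalizer_of_conj_mem {D : Subgroup H} {g : H} (h : ∀ d ∈ D, g * d * g⁻¹ ∈ D) :
    g ∈ normalizer (D : Set H) := by
  have hmap : D.map (MulAut.conj g).toMonoidHom = D := by
    refine Subgroup.eq_of_le_of_card_ge ?_ (le_of_eq (card_map_of_injective (MulAut.conj g).injective).symm)
    rintro _ ⟨d, hd, rfl⟩
    exact h d hd
  refine mem_normalizer_iff.2 fun d => ⟨fun hd => h d hd, fun hd => ?_⟩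
  rw [← hmap] at hd
  obtain ⟨d', hd', he⟩ := hd
  have : d' = d := (MulAut.conj g).injective he
  rwa [← this]

/-- An operator of order prime to a group centralises it if it centralises all its commutators. -/
theorem commute_of_commute_comm {e : ℕ} [Fact e.Prime] {D : Subgroup H} (hD : IsPGroup e D)
    (ht : t.Prime) (het : e ≠ t) (hxt : x ^ t = 1) {d : H} (hd : d ∈ D)
    (hcd : d⁻¹ * (x * d * x⁻¹) ∈ D) (hc : Commute x (d⁻¹ * (x * d * x⁻¹))) : Commute x d := by
  set c := d⁻¹ * (x * d * x⁻¹) with hcdef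
  have hpow : ∀ i : ℕ, x ^ i * d * (x ^ i)⁻¹ = d * c ^ i := by
    intro i
    induction i with
    | zero => simp
    | succ i ih =>
      have hci : x * c ^ i * x⁻¹ = c ^ i := by
        rw [(hc.pow_right i).eq, mul_inv_cancel_right]
      calc x ^ (i + 1) * d * (x ^ (i + 1))⁻¹ = x * (x ^ i * d * (x ^ i)⁻¹) * x⁻¹ := by
            rw [pow_succ']; group
        _ = (x * d * x⁻¹) * (x * c ^ i * x⁻¹) := by rw [ih]; group
        _ = d * c * c ^ i := by rw [hci, hcdef]; group
        _ = d * c ^ (i + 1) := by rw [mul_assoc, ← pow_succ']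
  have hct : c ^ t = 1 := by
    have := hpow t
    rw [hxt, inv_one, one_mul, mul_one, left_eq_mul] at this
    exact this
  obtain ⟨k, hk⟩ := IsPGroup.iff_orderOf.1 hD ⟨c, hcd⟩
  rw [orderOf_mk] at hk
  have h1 : orderOf c = 1 := Nat.eq_one_of_dvd_coprimes
    (((Nat.coprime_primes Fact.out ht).2 het).pow_left k)
    hk.dvd (orderOf_dvd_of_pow_eq_one hct)
  have h2 : d⁻¹ * (x * d * x⁻¹) = 1 := orderOf_eq_one_iff.1 h1
  rw [inv_mul_eq_one] at h2
  exact (mul_inv_eq_iff_eq_mul.1 h2.symm)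

namespace Zsig

variable (hx : Zsig ρ t x)

include hx

/-- An element of primitive prime order centralises every abelian group it normalises with
trivial fixed points, on which it has no fixed points. -/
theorem false_of_abelian {e : ℕ} [Fact e.Prime] {D : Subgroup H} (hD : IsPGroup e D)
    (heℓ : e ≠ ℓ) (hab : ∀ a ∈ D, ∀ b ∈ D, a * b = b * a)
    (hn : ∀ d ∈ D, x * d * x⁻¹ ∈ D) (hfix : fixSp ρ D = ⊥)
    (hfree : ∀ d ∈ D, Commute x d → d = 1) : False := by
  classical
  haveI := hx.nontrivial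
  haveI := Fintype.ofFinite D
  obtain ⟨v, hv⟩ := exists_ne (0 : V)
  have hxN := mem_normalizer_of_conj_mem hn
  have hxt : x ^ t = 1 := hx.ord ▸ pow_orderOf_eq_one x
  -- sums over the cyclic group
  have hcyc : ∀ w : V, ∑ j ∈ Finset.range t, ρ (x ^ j) w = 0 := by
    intro w
    refine hx.fix_eq_zero ?_
    have h2 : ρ x (∑ j ∈ Finset.range t, ρ (x ^ j) w) = ∑ j ∈ Finset.range t, ρ (x ^ (j + 1)) w := by
      rw [map_sum]
      exact Finset.sum_congr rfl fun j _ => by rw [pow_succ', apply_mul]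
    rw [h2]
    have h3 := Finset.sum_range_succ (fun j => ρ (x ^ j) w) t
    have h4 := Finset.sum_range_succ' (fun j => ρ (x ^ j) w) t
    rw [h3, hxt, pow_zero] at h4
    exact add_right_cancel h4.symm
  -- sums over `D`
  have hsumD : ∀ w : V, ∑ d : D, ρ (d : H) w = 0 := by
    intro w
    have : ∑ d : D, ρ (d : H) w ∈ fixSp ρ D := by
      intro k hk
      rw [map_sum]
      exact Fintype.sum_equiv (Equiv.mulLeft (⟨k, hk⟩ : D)) _ _ fun d => (apply_mul ρ k d w).symm
    rwa [hfix, Submodule.mem_bot] at this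
  -- the double sum
  have h0 : ∑ j ∈ Finset.range t, ∑ d : D, ρ ((d : H) * x ^ j * (d : H)⁻¹) v = 0 := by
    rw [Finset.sum_comm]
    refine Finset.sum_eq_zero fun d _ => ?_
    simp only [apply_mul]
    rw [← map_sum, hcyc, map_zero]
  have hj : ∀ j ∈ Finset.range t, j ≠ 0 → ∑ d : D, ρ ((d : H) * x ^ j * (d : H)⁻¹) v = 0 := by
    intro j hjt hj0
    have hjn : x ^ j ∈ normalizer (D : Set H) := pow_mem hxN j
    have hmem : ∀ d : D, (d : H) * (x ^ j * (d : H)⁻¹ * (x ^ j)⁻¹) ∈ D := fun d =>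
      D.mul_mem d.2 ((mem_normalizer_iff.1 hjn _).1 (D.inv_mem d.2))
    let δ : D → D := fun d => ⟨_, hmem d⟩
    have hinj : Function.Injective δ := by
      intro a b hab'
      have h : (a : H) * (x ^ j * (a : H)⁻¹ * (x ^ j)⁻¹) = b * (x ^ j * (b : H)⁻¹ * (x ^ j)⁻¹) :=
        congrArg Subtype.val hab'
      have hu : Commute (x ^ j) ((b : H)⁻¹ * a) := by
        have e1 : (b : H)⁻¹ * a = x ^ j * ((b : H)⁻¹ * a) * (x ^ j)⁻¹ := by
          calc (b : H)⁻¹ * a
              = (b : H)⁻¹ * ((a : H) * (x ^ j * (a : H)⁻¹ * (x ^ j)⁻¹)) * (x ^ j * a * (x ^ j)⁻¹) := by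
                group
            _ = (b : H)⁻¹ * ((b : H) * (x ^ j * (b : H)⁻¹ * (x ^ j)⁻¹)) * (x ^ j * a * (x ^ j)⁻¹) := by
                rw [h]
            _ = _ := by group
        exact (mul_inv_eq_iff_eq_mul.1 e1.symm)
      have hxz : x ∈ zpowers (x ^ j) := by
        have hc : Nat.Coprime j (orderOf x) := by
          rw [hx.ord]
          exact (hx.tp.coprime_iff_not_dvd.2 fun hd => by
            have := Nat.le_of_dvd (by omega) hd
            have := Finset.mem_range.1 hjt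
            omega).symm
        obtain ⟨m, hm⟩ := exists_pow_eq_self_of_coprime hc
        exact ⟨m, by show (x ^ j) ^ (m : ℤ) = x; rw [zpow_natCast]; exact hm⟩
      obtain ⟨i, hi : (x ^ j) ^ i = x⟩ := hxz
      have := hfree _ (D.mul_mem (D.inv_mem b.2) a.2) (hi ▸ hu.zpow_left i)
      exact (Subtype.ext (inv_mul_eq_one.1 this)).symm
    have hbij := Finite.injective_iff_bijective.1 hinj
    calc ∑ d : D, ρ ((d : H) * x ^ j * (d : H)⁻¹) v
        = ∑ d : D, ρ (δ d : H) (ρ (x ^ j) v) := Finset.sum_congr rfl fun d _ => by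
          rw [← apply_mul]; congr 2; simp only [δ]; group
      _ = ∑ d : D, ρ (d : H) (ρ (x ^ j) v) :=
          hbij.sum_comp (fun d : D => ρ (d : H) (ρ (x ^ j) v))
      _ = 0 := hsumD _
  rw [Finset.sum_eq_single_of_mem 0 (Finset.mem_range.2 hx.tp.pos) hj] at h0
  simp only [pow_zero, mul_one, mul_inv_cancel, map_one, Finset.sum_const, Finset.card_univ,
    LinearEquiv.coe_one, id_eq] at h0
  rw [← Nat.cast_smul_eq_nsmul (ZMod ℓ), smul_eq_zero] at h0
  obtain ⟨k, hk⟩ := IsPGroup.iff_card.1 hD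
  refine h0.elim (fun h => heℓ ?_) hv
  rw [Fintype.card_eq_nat_card, hk, ZMod.natCast_eq_zero_iff] at h
  exact ((Nat.prime_dvd_prime_iff_eq Fact.out Fact.out).1 ((Fact.out : ℓ.Prime).dvd_of_dvd_pow h)).symm

/-- The main lemma. -/
theorem centralized_or (e : ℕ) [Fact e.Prime] (het : e ≠ t) (D : Subgroup H) (hD : IsPGroup e D)
    (hn : ∀ d ∈ D, x * d * x⁻¹ ∈ D) : (∀ d ∈ D, Commute x d) ∨ ∃ k : ℕ, t = e ^ k + 1 := by
  classical
  by_cases hex : ∃ k : ℕ, t = e ^ k + 1
  · exact Or.inr hex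
  left
  haveI := hx.nontrivial
  haveI := Fact.mk hx.tp
  induction hcard : Nat.card D using Nat.strong_induction_on generalizing D with
  | _ n ih =>
  subst hcard
  by_contra hnc
  have hxt : x ^ t = 1 := hx.ord ▸ pow_orderOf_eq_one x
  have sub : ∀ E : Subgroup H, E ≤ D → E ≠ D → (∀ d ∈ E, x * d * x⁻¹ ∈ E) →
      ∀ d ∈ E, Commute x d := fun E hE hne hEn =>
    ih _ (lt_of_le_of_ne (Nat.le_of_dvd Nat.card_pos (card_dvd_of_le hE)) fun h =>
      hne (eq_of_le_of_card_ge hE h.ge)) E (hD.to_le hE) hEn rfl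
  have hinv : ∀ s : Set H, (∀ d ∈ s, x * d * x⁻¹ ∈ closure s) →
      ∀ d ∈ closure s, x * d * x⁻¹ ∈ closure s := fun s hs d hd => by
    have : closure s ≤ (closure s).comap (MulAut.conj x).toMonoidHom :=
      (closure_le _).2 fun d hd => hs d hd
    exact this hd
  have hDbot : D ≠ ⊥ := fun h => hnc fun d hd => by
    rw [h, mem_bot] at hd; rw [hd]; exact Commute.one_right x
  -- fixed points
  have hfix : fixSp ρ D = ⊥ := by
    by_contra hne
    refine hDbot (hx.eq_bot_of_fix (fun k hk => ?_) hne)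
    have := (mem_normalizer_iff.1 ((normalizer (D : Set H)).inv_mem (mem_normalizer_of_conj_mem hn)) k).1 hk
    simpa using this
  have heℓ : e ≠ ℓ := by
    rintro rfl
    have h := card_modEq ρ hD (W := (⊤ : Submodule (ZMod e) V))
      (fun g _ => (mem_stabSp ρ).2 fun w _ => trivial)
    rw [top_inf_eq, hfix, card_eq_pow, card_eq_pow, finrank_bot, pow_zero, finrank_top] at h
    exact (Fact.out : e.Prime).ne_one (Nat.dvd_one.1 (((Nat.modEq_iff_dvd' (Nat.one_le_pow _ _
      (Fact.out : e.Prime).pos)).1 h.symm) |> fun h' => by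
        have h2 := Nat.dvd_sub (dvd_pow_self e hx.finrank_pos.ne') h'
        rwa [Nat.sub_sub_self (Nat.one_le_pow _ _ (Fact.out : e.Prime).pos)] at h2))
  -- the commutators with `x`
  set S : Subgroup H := closure ((fun d => d⁻¹ * (x * d * x⁻¹)) '' (D : Set H)) with hSdef
  have hcm : ∀ d ∈ D, d⁻¹ * (x * d * x⁻¹) ∈ D := fun d hd => D.mul_mem (D.inv_mem hd) (hn d hd)
  have hSD : S ≤ D := (closure_le _).2 (by rintro _ ⟨d, hd, rfl⟩; exact hcm d hd)
  have hS : S = D := by
    by_contra hne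
    refine hnc fun d hd => commute_of_commute_comm hD hx.tp het hxt hd (hcm d hd) ?_
    refine sub S hSD hne (hinv _ ?_) _ (subset_closure ⟨d, hd, rfl⟩)
    rintro _ ⟨d', hd', rfl⟩
    refine subset_closure ⟨x * d' * x⁻¹, hn d' hd', ?_⟩
    group
  set C : Subgroup H := D ⊓ centralizer ({x} : Set H) with hC
  have hmemC : ∀ d, d ∈ C ↔ d ∈ D ∧ Commute x d := fun d => by
    rw [hC, mem_inf, mem_centralizer_singleton_iff]; exact ⟨fun h => ⟨h.1, h.2.symm⟩, fun h => ⟨h.1, h.2.symm⟩⟩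
  have hlt : ⁅D, D⁆ ≠ D := by
    intro h
    haveI : Nontrivial D := (nontrivial_iff_ne_bot D).mpr hDbot
    haveI : Group.IsNilpotent D := hD.isNilpotent
    apply (Group.IsSolvable.commutator_lt_top_of_nontrivial D).ne
    apply Subgroup.map_injective D.subtype_injective
    rw [Subgroup.map_subtype_commutator, h, ← MonoidHom.range_eq_map, range_subtype]
  have hcommC : ∀ a ∈ D, ∀ b ∈ D, ⁅a, b⁆ ∈ C := by
    intro a ha b hb
    refine (hmemC _).2 ⟨?_, sub ⁅D, D⁆ (commutator_le_self D) hlt ?_ _ (commutator_mem_commutator ha hb)⟩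
    · exact commutator_le_self D (commutator_mem_commutator ha hb)
    · rw [Subgroup.commutator_def]
      refine hinv _ ?_
      rintro _ ⟨a, ha, b, hb, rfl⟩
      exact subset_closure ⟨_, hn a ha, _, hn b hb, by simp only [commutatorElement_def]; group⟩
  have hCcent : ∀ c ∈ C, ∀ d ∈ D, c * d = d * c := by
    intro c hc
    suffices h : S ≤ centralizer {c} from fun d hd =>
      (mem_centralizer_singleton_iff.1 (h (hS ▸ hd))).symm
    refine (closure_le _).2 ?_
    rintro _ ⟨d, hd, rfl⟩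
    rw [SetLike.mem_coe, mem_centralizer_singleton_iff]
    obtain ⟨hcD, hcx⟩ := (hmemC c).1 hc
    have h1 : Commute x (d * c * d⁻¹) := by
      have h2 : d * c * d⁻¹ = ⁅d, c⁆ * c := by rw [commutatorElement_def]; group
      rw [h2]
      exact ((hmemC _).1 (hcommC d hd c hcD)).2.mul_right hcx
    calc d⁻¹ * (x * d * x⁻¹) * c = d⁻¹ * (x * d * (x⁻¹ * c)) := by group
      _ = d⁻¹ * (x * d * (c * x⁻¹)) := by rw [hcx.inv_left.eq]
      _ = d⁻¹ * (x * (d * c * d⁻¹)) * d * x⁻¹ := by group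
      _ = d⁻¹ * ((d * c * d⁻¹) * x) * d * x⁻¹ := by rw [h1.eq]
      _ = _ := by group
  by_cases hab : ∀ a ∈ D, ∀ b ∈ D, a * b = b * a
  · -- the abelian case
    refine hx.false_of_abelian hD heℓ hab hn hfix fun d hd hcd => ?_
    let δ : D →* D := MonoidHom.mk' (fun a => ⟨_, hcm a a.2⟩) fun a b => Subtype.ext (by
      show ((a : H) * b)⁻¹ * (x * (a * b) * x⁻¹) = ((a : H)⁻¹ * (x * a * x⁻¹)) * ((b : H)⁻¹ * (x * b * x⁻¹))
      have e1 := hab _ (D.inv_mem b.2) _ (hcm a a.2)
      calc ((a : H) * b)⁻¹ * (x * (a * b) * x⁻¹) = (b : H)⁻¹ * ((a : H)⁻¹ * (x * a * x⁻¹)) * (x * b * x⁻¹) := by group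
        _ = _ := by rw [e1]; group)
    have hsur : Function.Surjective δ := by
      have : D ≤ δ.range.map D.subtype := by
        conv_lhs => rw [← hS]
        refine (closure_le _).2 ?_
        rintro _ ⟨a, ha, rfl⟩
        exact ⟨δ ⟨a, ha⟩, ⟨_, rfl⟩, rfl⟩
      intro y
      obtain ⟨z, ⟨w, hw⟩, hz⟩ := this y.2
      exact ⟨w, hw.trans (Subtype.ext hz)⟩
    have h1 : δ ⟨d, hd⟩ = δ 1 := by
      rw [map_one]
      refine Subtype.ext ?_
      show d⁻¹ * (x * d * x⁻¹) = 1
      rw [hcd.eq]; group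
    exact congrArg Subtype.val ((Finite.injective_iff_surjective.2 hsur) h1)
  -- the class two case
  push Not at hab
  obtain ⟨a₀, ha₀, b₀, hb₀, hne₀⟩ := hab
  have hCZ : C = D ⊓ centralizer (D : Set H) := by
    refine le_antisymm (fun c hc => ⟨((hmemC c).1 hc).1,
      mem_centralizer_iff.2 fun d hd => (hCcent c hc d hd).symm⟩) fun z hz => ?_
    refine (hmemC z).2 ⟨hz.1, sub (D ⊓ centralizer (D : Set H)) inf_le_left ?_ ?_ z hz⟩
    · intro h
      exact hne₀ (mem_centralizer_iff.1 (h.ge hb₀).2 a₀ ha₀)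
    · rintro w ⟨hwD, hwC⟩
      refine ⟨hn w hwD, mem_centralizer_iff.2 fun d hd => ?_⟩
      have hd' : x⁻¹ * d * x ∈ D := by
        have := (mem_normalizer_iff.1 ((normalizer (D : Set H)).inv_mem (mem_normalizer_of_conj_mem hn)) d).1 hd
        simpa using this
      have := mem_centralizer_iff.1 hwC _ hd'
      calc d * (x * w * x⁻¹) = x * ((x⁻¹ * d * x) * w) * x⁻¹ := by group
        _ = x * (w * (x⁻¹ * d * x)) * x⁻¹ := by rw [this]
        _ = _ := by group
  have hpowC : ∀ d ∈ D, d ^ e ∈ C := by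
    intro d hd
    set W : Subgroup H := closure ((· ^ e) '' (D : Set H)) with hW
    have hWle : W ≤ (frattini D).map D.subtype := (closure_le _).2 (by
      rintro _ ⟨a, ha, rfl⟩
      exact ⟨_, PFrattini.pow_mem_frattini hD ⟨a, ha⟩, rfl⟩)
    refine (hmemC _).2 ⟨D.pow_mem hd e, sub W (hWle.trans (map_subtype_le _)) ?_ (hinv _ ?_) _
      (subset_closure ⟨d, hd, rfl⟩)⟩
    · intro h
      haveI : Nontrivial D := (nontrivial_iff_ne_bot D).mpr hDbot
      obtain ⟨M, hM, -⟩ := (eq_top_or_exists_le_coatom (⊥ : Subgroup D)).resolve_left bot_ne_top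
      apply hM.1
      refine top_le_iff.1 fun y _ => ?_
      obtain ⟨z, hz, hzy⟩ := hWle (h.ge y.2)
      exact frattini_le_coatom hM (Subtype.ext hzy ▸ hz)
    · rintro _ ⟨a, ha, rfl⟩
      exact subset_closure ⟨_, hn a ha, conj_pow⟩
  let T : Subgroup H :=
    { carrier := {z | z ∈ C ∧ z ^ e = 1}
      one_mem' := ⟨one_mem C, one_pow e⟩
      mul_mem' := fun {a b} ha hb => ⟨mul_mem ha.1 hb.1, by
        rw [(show Commute a b from hCcent a ha.1 b ((hmemC b).1 hb.1).1).mul_pow, ha.2, hb.2, one_mul]⟩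
      inv_mem' := fun {a} ha => ⟨inv_mem ha.1, by rw [inv_pow, ha.2, inv_one]⟩ }
  have hTcomm : ∀ a ∈ D, ∀ b ∈ D, ⁅a, b⁆ ∈ T := by
    intro a ha b hb
    refine ⟨hcommC a ha b hb, ?_⟩
    have hcen : ∀ i : ℕ, ⁅a ^ i, b⁆ = ⁅a, b⁆ ^ i := by
      intro i
      induction i with
      | zero => simp
      | succ i ih =>
        have hc := hCcent _ (hcommC (a ^ i) (D.pow_mem ha i) b hb) a ha
        calc ⁅a ^ (i + 1), b⁆ = (a * ⁅a ^ i, b⁆) * (b * a⁻¹ * b⁻¹) := by
              simp only [commutatorElement_def, pow_succ']; group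
          _ = (⁅a ^ i, b⁆ * a) * (b * a⁻¹ * b⁻¹) := by rw [hc]
          _ = ⁅a ^ i, b⁆ * ⁅a, b⁆ := by simp only [commutatorElement_def]; group
          _ = _ := by rw [ih, ← pow_succ]
    rw [← hcen, commutatorElement_eq_one_iff_mul_comm]
    exact hCcent _ (hpowC a ha) b hb
  have hTcard : Nat.card T = e := by
    haveI := hx.isCyclic_centralizer
    haveI : IsCyclic T := isCyclic_of_le (H' := centralizer ({x} : Set H))
      (fun z hz => (inf_le_right : C ≤ _) hz.1)
    have h1 : Nat.card T ∣ e := by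
      rw [← IsCyclic.exponent_eq_card]
      exact Monoid.exponent_dvd_of_forall_pow_eq_one fun z => Subtype.ext (by
        rw [SubmonoidClass.coe_pow]; exact z.2.2)
    refine ((Nat.dvd_prime Fact.out).1 h1).resolve_left fun h => ?_
    have hT := (Subgroup.card_eq_one.1 h) ▸ hTcomm a₀ ha₀ b₀ hb₀
    exact hne₀ (commutatorElement_eq_one_iff_mul_comm.1 (mem_bot.1 hT))
  obtain ⟨c, hc⟩ := SolvLinear.card_eq_pow_mul_center (Fact.out : e.Prime) T hTcard D
    (fun d hd => mem_centralizer_iff.2 fun z hz => hCcent z hz.1 d hd)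
    (fun a ha b hb => hTcomm a ha b hb)
  -- the bound
  obtain ⟨K, hK, hKinj⟩ := hx.exists_field_subalgebra
  have hbound := card_le_sq ρ hx.inj D
    (K ⊓ Subalgebra.centralizer (ZMod ℓ) (eH ρ '' (D : Set H)))
    (fun f hf => hKinj f hf.1)
    (fun f hf d hd => ((Subalgebra.mem_centralizer_iff _).1 hf.2 _ ⟨d, hd, rfl⟩).symm)
    (fun a ha b hb => ⟨(hK _).2 ((((hmemC _).1 (hcommC a ha b hb)).2.symm).map (eH ρ)),
      (Subalgebra.mem_centralizer_iff _).2 (by
        rintro _ ⟨d, hd, rfl⟩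
        rw [← map_mul, ← map_mul, hCcent _ (hcommC a ha b hb) d hd])⟩)
  rw [hc, ← hCZ] at hbound
  have hle : e ^ c ≤ Module.finrank (ZMod ℓ) V := by
    have h := Nat.le_of_mul_le_mul_right hbound Nat.card_pos
    rw [mul_comm 2 c, pow_mul] at h
    exact (Nat.pow_le_pow_iff_left two_ne_zero).1 h
  -- free orbits off the centre
  have hxN := mem_normalizer_of_conj_mem hn
  letI : MulAction (zpowers x) D :=
    { smul := fun g d => ⟨(g : H) * d * (g : H)⁻¹,
        (mem_normalizer_iff.1 (zpowers_le.2 hxN g.2) d).1 d.2⟩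
      one_smul := fun d => Subtype.ext (by
        show (1 : H) * d * (1 : H)⁻¹ = d
        simp)
      mul_smul := fun g g' d => Subtype.ext (by
        show ((g : H) * g') * d * ((g : H) * g')⁻¹ = g * (g' * d * (g' : H)⁻¹) * (g : H)⁻¹
        group) }
  have hmod := hx.isPGroup.card_modEq_card_fixedPoints D
  rw [Nat.card_congr (α := MulAction.fixedPoints (zpowers x) D) (β := C)
    { toFun := fun d => ⟨d.1.1, (hmemC _).2 ⟨d.1.2, mul_inv_eq_iff_eq_mul.1
        (congrArg Subtype.val (d.2 ⟨x, mem_zpowers x⟩))⟩⟩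
      invFun := fun d => ⟨⟨d.1, d.2.1⟩, fun g => Subtype.ext (by
        obtain ⟨i, hi⟩ := g.2
        show (g : H) * d.1 * (g : H)⁻¹ = d.1
        rw [← hi, (((hmemC _).1 d.2).2.zpow_left i).eq, mul_inv_cancel_right])⟩
      left_inv := fun d => rfl
      right_inv := fun d => rfl }, hc, ← hCZ] at hmod
  have hcpos : c ≠ 0 := by
    rintro rfl
    rw [mul_zero, pow_zero, one_mul, ← hCZ] at hc
    exact hne₀ (hCcent a₀ ((eq_of_le_of_card_ge (inf_le_left : C ≤ D) hc.le).ge ha₀) b₀ hb₀)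
  have hcopC : Nat.Coprime (Nat.card C) t := by
    obtain ⟨k, hk⟩ := IsPGroup.iff_card.1 (hD.to_le (inf_le_left : C ≤ D))
    rw [hk]
    exact ((Nat.coprime_primes Fact.out hx.tp).2 het).pow_left k
  have hd1 : t ∣ (e ^ c + 1) * (e ^ c - 1) := by
    have h1 := (Nat.modEq_iff_dvd' (Nat.le_mul_of_pos_left _ (pow_pos (Fact.out : e.Prime).pos _))).1
      hmod.symm
    rw [← Nat.sub_one_mul] at h1
    have h2 := hcopC.symm.dvd_of_dvd_mul_right h1
    rwa [mul_comm 2 c, pow_mul, ← one_pow 2, Nat.sq_sub_sq] at h2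
  have hlt2 := hx.lt
  have h2le : 2 ≤ e ^ c := (Fact.out : e.Prime).two_le.trans (Nat.le_self_pow hcpos e)
  rcases hx.tp.dvd_mul.1 hd1 with h | h
  · refine hex ⟨c, ?_⟩
    have := Nat.le_of_dvd (by omega) h
    omega
  · have := Nat.le_of_dvd (by omega) h
    omega

end Zsig

end Cfsg.Agent.Lib.SolvDegrees.Palfy
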