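import Mathlib
import Cfsg.Agent.Lib.SolvDegrees.PalfyPartition
import Cfsg.Agent.Lib.SolvDegrees.PalfyOperator
import Cfsg.Agent.Lib.SolvDegrees.PalfyFitting
import Cfsg.Agent.Lib.PrimitiveDegree.Metanilpotent

/-!
The exceptional dimension two, with `ℓ + 1` a power of two.
-/

set_option autoImplicit false
set_option linter.unusedSectionVars false

namespace Cfsg.Agent.Lib.SolvDegrees.Palfy

open Subgroup
open scoped commutatorElement

variable {ℓ : ℕ} [Fact ℓ.Prime] {V : Type*} [AddCommGroup V] [Module (ZMod ℓ) V] [Finite V]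
  {H : Type*} [Group H] [Finite H] (ρ : H →* (V ≃ₗ[ZMod ℓ] V))

/-- `g` acts as a scalar. -/
def IsScal (g : H) : Prop := ∃ c : ZMod ℓ, eH ρ g = algebraMap (ZMod ℓ) _ c

theorem IsScal.commute {g : H} (h : IsScal ρ g) (hρ : Function.Injective ρ) (k : H) :
    Commute g k := by
  obtain ⟨c, hc⟩ := h
  exact eH_injective ρ hρ (by rw [map_mul, map_mul, hc]; exact (Algebra.commute_algebraMap_left c _).eq)

theorem eigen_of_stable {W : Submodule (ZMod ℓ) V} (hW : Module.finrank (ZMod ℓ) W = 1) {g : H}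
    (hg : g ∈ stabSp ρ W) : ∃ v, v ∈ W ∧ v ≠ 0 ∧ ∃ c : ZMod ℓ, ρ g v = c • v := by
  obtain ⟨⟨v, hv⟩, hv0, hspan⟩ := finrank_eq_one_iff'.1 hW
  obtain ⟨c, hc⟩ := hspan ⟨ρ g v, (mem_stabSp ρ).1 hg v hv⟩
  exact ⟨v, hv, fun h => hv0 (Subtype.ext h), c, (congrArg Subtype.val hc).symm⟩

/-- Every abelian normal subgroup consists of scalars. -/
theorem isScal_of_abelian {p q : ℕ} (S : Setup ρ p q) (hm : Module.finrank (ZMod ℓ) V = 2)
    {A : Subgroup H} (hA1 : Module.finrank (ZMod ℓ) (fixSp ρ A) = 1)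
    (hcov : ∀ v : V, v ≠ 0 → ∃ g, ρ g⁻¹ v ∈ fixSp ρ A)
    {a : H} (haA : a ∈ A) (ha : a ≠ 1) (hodd : Odd (orderOf a))
    (U : Subgroup H) [U.Normal] (hU : ∀ x ∈ U, ∀ y ∈ U, x * y = y * x) :
    ∀ u ∈ U, IsScal ρ u := by
  classical
  haveI := S.nontriv
  -- a common eigenvector spreads everywhere
  have common : ∀ v : V, v ≠ 0 → (∀ u ∈ U, ∃ c : ZMod ℓ, ρ u v = c • v) → ∀ u ∈ U, IsScal ρ u := by
    intro v hv hev
    obtain ⟨w₁, hw₁, -⟩ := finrank_eq_one_iff'.1 hA1
    have move : ∀ (g : H) (w : V), (∀ u ∈ U, ∃ c : ZMod ℓ, ρ u w = c • w) →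
        ∀ u ∈ U, ∃ c : ZMod ℓ, ρ u (ρ g w) = c • ρ g w := by
      intro g w h u hu
      obtain ⟨c, hc⟩ := h (g⁻¹ * u * g) (Normal.conj_mem' inferInstance u hu g)
      refine ⟨c, ?_⟩
      rw [← apply_mul, show u * g = g * (g⁻¹ * u * g) by group, apply_mul, hc, map_smul]
    obtain ⟨g₀, hg₀⟩ := hcov v hv
    have hall : ∀ w : V, ∀ u ∈ U, ∃ c : ZMod ℓ, ρ u w = c • w := by
      intro w
      rcases eq_or_ne w 0 with rfl | hw
      · exact fun u _ => ⟨0, by simp⟩
      obtain ⟨g, hg⟩ := hcov w hw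
      obtain ⟨⟨z, hz⟩, hz0, hspan⟩ := finrank_eq_one_iff'.1 hA1
      obtain ⟨s, hs⟩ := hspan ⟨_, hg₀⟩
      obtain ⟨s', hs'⟩ := hspan ⟨_, hg⟩
      have hs0 : s ≠ 0 := fun h => by
        have := congrArg Subtype.val hs
        simp only [h, zero_smul, ZeroMemClass.coe_zero] at this
        exact hv ((ρ _).map_eq_zero_iff.1 this.symm)
      have hz' : ∀ u ∈ U, ∃ c : ZMod ℓ, ρ u z = c • z := by
        intro u hu
        obtain ⟨c, hc⟩ := move g₀⁻¹ v hev u hu
        have e : s • z = ρ g₀⁻¹ v := congrArg Subtype.val hs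
        rw [← e, map_smul, smul_comm] at hc
        exact ⟨c, smul_right_injective V hs0 hc⟩
      have hw' : w = ρ g (s' • z) := by
        have e : s' • z = ρ g⁻¹ w := congrArg Subtype.val hs'
        rw [e, ← apply_mul, mul_inv_cancel, map_one]; rfl
      rw [hw']
      refine move g _ fun u hu => ?_
      obtain ⟨c, hc⟩ := hz' u hu
      exact ⟨c, by rw [map_smul, hc, smul_comm]⟩
    intro u hu
    obtain ⟨c, hc⟩ := LinearMap.exists_eq_smul_id_of_forall_notLinearIndependent (f := eH ρ u) (fun w => by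
      obtain ⟨c, hc⟩ := hall w u hu
      rw [LinearIndependent.pair_iff]
      intro h
      obtain ⟨-, h1⟩ := h c (-1) (by rw [eH_apply, hc, neg_smul, one_smul, add_neg_cancel])
      exact absurd h1 (by simp))
    exact ⟨c, hc⟩
  by_contra hne
  push Not at hne
  obtain ⟨u, hu, hns⟩ := hne
  -- `u` has no eigenvector
  have hirr : ∀ v : V, ∀ c : ZMod ℓ, ρ u v = c • v → v = 0 := by
    intro v c hc
    by_contra hv
    let E : Submodule (ZMod ℓ) V := LinearMap.ker (eH ρ u - algebraMap (ZMod ℓ) _ c)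
    have hmemE : ∀ w, w ∈ E ↔ ρ u w = c • w := fun w => by
      simp only [E, LinearMap.mem_ker, LinearMap.sub_apply, Module.algebraMap_end_apply, sub_eq_zero, eH_apply]
    have hEtop : E ≠ ⊤ := fun h => hns ⟨c, LinearMap.ext fun w => by
      rw [Module.algebraMap_end_apply, eH_apply]; exact (hmemE w).1 (h ▸ Submodule.mem_top)⟩
    have hE1 : Module.finrank (ZMod ℓ) E = 1 := by
      have h1 := Submodule.finrank_lt hEtop
      have h2 : Module.finrank (ZMod ℓ) E ≠ 0 := fun h => hv ((Submodule.mem_bot (ZMod ℓ)).1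
        (Submodule.finrank_eq_zero.1 h ▸ (hmemE v).2 hc))
      omega
    refine hns (common v hv (fun u' hu' => ?_) u hu)
    have hst : u' ∈ stabSp ρ E := (mem_stabSp ρ).2 fun w hw => by
      rw [hmemE] at hw ⊢
      rw [← apply_mul, hU u hu u' hu', apply_mul, hw, map_smul]
    obtain ⟨⟨z, hz⟩, -, hspan⟩ := finrank_eq_one_iff'.1 hE1
    obtain ⟨s, hs⟩ := hspan ⟨v, (hmemE v).2 hc⟩
    obtain ⟨d, hd⟩ := hspan ⟨ρ u' z, (mem_stabSp ρ).1 hst z hz⟩
    refine ⟨d, ?_⟩
    rw [← (show s • z = v from congrArg Subtype.val hs), map_smul,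
      ← (show d • z = ρ u' z from congrArg Subtype.val hd), smul_comm]
  have hsub : ∀ W : Submodule (ZMod ℓ) V, u ∈ stabSp ρ W → W = ⊥ ∨ W = ⊤ := by
    intro W hW
    by_contra h
    push Not at h
    have h1 := Submodule.finrank_lt h.2
    have h2 : Module.finrank (ZMod ℓ) W ≠ 0 := fun e => h.1 (Submodule.finrank_eq_zero.1 e)
    obtain ⟨v, -, hv, c, hc⟩ := eigen_of_stable ρ (show Module.finrank (ZMod ℓ) W = 1 by omega) hW
    exact hv (hirr v c hc)
  have hinj : ∀ f : Module.End (ZMod ℓ) V, Commute f (eH ρ u) → f ≠ 0 → Function.Injective f := by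
    intro f hf h0
    have hW : u ∈ stabSp ρ f.ker := (mem_stabSp ρ).2 fun w hw => by
      rw [LinearMap.mem_ker] at hw ⊢
      have := LinearMap.congr_fun hf.eq w
      simp only [Module.End.mul_apply, eH_apply, hw, map_zero] at this
      exact this
    rcases hsub _ hW with h | h
    · exact LinearMap.ker_eq_bot.1 h
    · exact absurd (LinearMap.ker_eq_top.1 h) h0
  -- the quadratic equation of `u`
  obtain ⟨v, hv⟩ := exists_ne (0 : V)
  obtain ⟨α, β, hquad⟩ : ∃ α β : ZMod ℓ, eH ρ u * eH ρ u = β • eH ρ u + algebraMap (ZMod ℓ) _ α := by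
    have hli : LinearIndependent (ZMod ℓ) ![v, ρ u v] := by
      rw [LinearIndependent.pair_iff' hv]
      exact fun c hc => hv (hirr v c hc.symm)
    have hspan := hli.span_eq_top_of_card_eq_finrank (by rw [hm]; rfl)
    have hmem : ρ u (ρ u v) ∈ Submodule.span (ZMod ℓ) {v, ρ u v} := by
      have := hspan.ge (Submodule.mem_top (x := ρ u (ρ u v)))
      rwa [Matrix.range_cons, Matrix.range_cons, Matrix.range_empty, Set.union_empty,
        Set.singleton_union] at this
    obtain ⟨α, β, hαβ⟩ := Submodule.mem_span_pair.1 hmem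
    refine ⟨α, β, ?_⟩
    by_contra h
    refine hv (hinj _ ?_ (sub_ne_zero.2 h) ?_)
    · exact ((Commute.refl _).mul_left (Commute.refl _)).sub_left
        (((Commute.refl _).smul_left β).add_left (Algebra.commute_algebraMap_left α _))
    · rw [map_zero, LinearMap.sub_apply, LinearMap.add_apply, LinearMap.smul_apply,
        Module.algebraMap_end_apply, Module.End.mul_apply, eH_apply, eH_apply, ← hαβ]
      abel
  -- conjugates of `u` by `a`
  have hroot : ∀ g : H, eH ρ (g * u * g⁻¹) = eH ρ u ∨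
      eH ρ (g * u * g⁻¹) + eH ρ u = algebraMap (ZMod ℓ) _ β := by
    intro g
    set u' := eH ρ (g * u * g⁻¹)
    have hc : Commute u' (eH ρ u) :=
      (show Commute (g * u * g⁻¹) u from hU _ (Normal.conj_mem inferInstance u hu g) u hu).map (eH ρ)
    have hq' : u' * u' = β • u' + algebraMap (ZMod ℓ) _ α := by
      have h1 : eH ρ g * eH ρ g⁻¹ = 1 := by rw [← map_mul, mul_inv_cancel, map_one]
      have h2 : eH ρ g⁻¹ * eH ρ g = 1 := by rw [← map_mul, inv_mul_cancel, map_one]
      have h3 : u' = eH ρ g * eH ρ u * eH ρ g⁻¹ := by rw [← map_mul, ← map_mul]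
      rw [h3]
      calc eH ρ g * eH ρ u * eH ρ g⁻¹ * (eH ρ g * eH ρ u * eH ρ g⁻¹)
          = eH ρ g * eH ρ u * (eH ρ g⁻¹ * eH ρ g) * eH ρ u * eH ρ g⁻¹ := by simp only [mul_assoc]
        _ = eH ρ g * (eH ρ u * eH ρ u) * eH ρ g⁻¹ := by rw [h2]; simp only [mul_one, mul_assoc]
        _ = _ := by
          rw [hquad, mul_add, add_mul, mul_smul_comm, smul_mul_assoc,
            ← (Algebra.commute_algebraMap_left α (eH ρ g)).eq]
          simp only [mul_assoc, h1, mul_one]
    by_cases h : u' - eH ρ u = 0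
    · exact Or.inl (sub_eq_zero.1 h)
    right
    have hprod : (u' - eH ρ u) * (u' + eH ρ u - algebraMap (ZMod ℓ) _ β) = 0 := by
      have e1 : (u' - eH ρ u) * algebraMap (ZMod ℓ) (Module.End (ZMod ℓ) V) β = β • (u' - eH ρ u) := by
        rw [← (Algebra.commute_algebraMap_left β _).eq, ← Algebra.smul_def]
      rw [mul_sub, e1, sub_mul, mul_add, mul_add, hc.eq, hq', hquad, smul_sub]
      abel
    rw [← sub_eq_zero]
    refine LinearMap.ext fun w => hinj _ (hc.sub_left (Commute.refl _)) h ?_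
    rw [LinearMap.zero_apply, map_zero]
    exact LinearMap.congr_fun hprod w
  -- `a²`, hence `a`, centralises `u`
  have ha2 : Commute (a ^ 2) u := by
    have key : a ^ 2 * u * (a ^ 2)⁻¹ = u := by
      refine eH_injective ρ S.inj ?_
      rcases hroot a with h1 | h1
      · have e := eH_injective ρ S.inj h1
        rw [show a ^ 2 * u * (a ^ 2)⁻¹ = a * (a * u * a⁻¹) * a⁻¹ by rw [sq, mul_inv_rev]; simp only [mul_assoc], e, h1]
      · rcases hroot (a ^ 2) with h2 | h2
        · exact h2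
        · exfalso
          have e := eH_injective ρ S.inj (add_right_cancel (h1.trans h2.symm))
          rw [show a ^ 2 * u * (a ^ 2)⁻¹ = a * (a * u * a⁻¹) * a⁻¹ by rw [sq, mul_inv_rev]; simp only [mul_assoc]] at e
          have e' : u = a * u * a⁻¹ := by
            have := mul_right_cancel e
            exact mul_left_cancel this
          have hz : ρ u v + ρ u v = β • v := by
            have := LinearMap.congr_fun h1 v
            rwa [← e'] at this
          rcases eq_or_ne (2 : ZMod ℓ) 0 with h20 | h20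
          · rw [← two_smul (ZMod ℓ), h20, zero_smul] at hz
            have hb : β = 0 := (smul_eq_zero.1 hz.symm).resolve_right hv
            -- then the conjugate is `-u = u`
            have hsame : ∀ g, eH ρ (g * u * g⁻¹) = eH ρ u := fun g => by
              rcases hroot g with h | h
              · exact h
              · rw [hb, map_zero, add_eq_zero_iff_eq_neg] at h
                rw [h]
                ext w
                have : (2 : ZMod ℓ) • ρ u w = 0 := by rw [h20, zero_smul]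
                rw [two_smul, add_eq_zero_iff_eq_neg] at this
                rw [LinearMap.neg_apply, eH_apply]; exact this.symm
            have hall : ∀ g, Commute g u := fun g =>
              mul_inv_eq_iff_eq_mul.1 (eH_injective ρ S.inj (hsame g))
            have hst : u ∈ stabSp ρ (fixSp ρ A) :=
              stabSp_fix_of_centralizes ρ fun k _ => (hall k).eq
            rcases hsub _ hst with h | h
            · rw [h, finrank_bot] at hA1; exact zero_ne_one hA1
            · rw [h, finrank_top, hm] at hA1; omega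
          · refine hv (hirr v ((2 : ZMod ℓ)⁻¹ * β) ?_)
            rw [mul_smul, ← hz, ← two_smul (ZMod ℓ), smul_smul, inv_mul_cancel₀ h20, one_smul]
    exact mul_inv_eq_iff_eq_mul.1 key
  have hau : Commute a u := by
    obtain ⟨i, hi⟩ := hodd
    have : a = (a ^ 2) ^ (i + 1) := by
      rw [← pow_mul, show 2 * (i + 1) = orderOf a + 1 by omega, pow_succ, pow_orderOf_eq_one, one_mul]
    rw [this]
    exact ha2.pow_left _
  have hst : u ∈ stabSp ρ (fixSp ρ (zpowers a)) := by
    refine stabSp_fix_of_centralizes ρ fun k hk => ?_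
    obtain ⟨i, rfl⟩ := hk
    exact (hau.zpow_left i).eq
  rcases hsub _ hst with h | h
  · have hle : fixSp ρ A ≤ fixSp ρ (zpowers a) := fun w hw => (mem_fixSp_zpowers ρ).2 (hw a haA)
    rw [h, le_bot_iff] at hle
    rw [hle, finrank_bot] at hA1
    exact zero_ne_one hA1
  · refine S.fixSp_ne_top ?_ h
    rwa [Ne, zpowers_eq_bot]

/-- No such action in dimension two with `ℓ + 1` a power of two. -/
theorem false_of_two [Group.IsSolvable H] {p q j : ℕ} (S : Setup ρ p q)
    (hm : Module.finrank (ZMod ℓ) V = 2) (hj : ℓ + 1 = 2 ^ j) : False := by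
  classical
  obtain ⟨A, hA⟩ := Hall.exists_isPiHall (G := H) {p, q}
  have hA' : Cfsg.IsPiHall {q, p} A := by rwa [Set.pair_comm]
  have hA1 : Module.finrank (ZMod ℓ) (fixSp ρ A) = 1 := by
    have h1 := Submodule.finrank_lt (S.fixSp_ne_top (S.hall_ne_bot hA))
    have h2 : Module.finrank (ZMod ℓ) (fixSp ρ A) ≠ 0 :=
      fun h => S.hall_fix_ne_bot hA (Submodule.finrank_eq_zero.1 h)
    omega
  have hℓ := (Fact.out : ℓ.Prime).two_le
  have hn := S.hall_partition hA
  rw [card_eq_pow, hA1, Module.natCard_eq_pow_finrank (K := ZMod ℓ) (V := V), hm, Nat.card_zmod,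
    pow_one, ← one_pow 2, Nat.sq_sub_sq, one_pow] at hn
  have hn' : (normalizer (A : Set H)).index = 2 ^ j := by
    rw [← hj]
    exact Nat.eq_of_mul_eq_mul_right (by omega) hn
  have hodd : ∀ s : ℕ, ¬ s ∣ 2 ^ j → s ≠ 2 := by
    rintro s h rfl
    refine h (dvd_pow_self 2 ?_)
    rintro rfl
    simp at hj; omega
  have hp2 := hodd p (hn' ▸ S.normalizer_index_not_dvd hA)
  have hq2 := hodd q (hn' ▸ S.symm.normalizer_index_not_dvd hA')
  -- a prime at least five
  obtain ⟨s, hs, hs5, hsA, hsbot⟩ : ∃ s : ℕ, s.Prime ∧ 5 ≤ s ∧ s ∣ Nat.card A ∧ Cfsg.pCore s H = ⊥ := by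
    haveI := Fact.mk S.hp
    haveI := Fact.mk S.hq
    have big : ∀ r : ℕ, r.Prime → r ≠ 2 → r ≠ 3 → 5 ≤ r := fun r hr h2 h3 => by
      have := hr.two_le
      have : r ≠ 4 := by rintro rfl; norm_num at hr
      omega
    rcases eq_or_ne p 3 with h3 | h3
    · exact ⟨q, S.hq, big q S.hq hq2 (fun h => S.hpq (h3.trans h.symm)), S.symm.dvd_card_hall hA',
        S.symm.eq_bot_of_normal PSolvable.pCore_isPGroup⟩
    · exact ⟨p, S.hp, big p S.hp hp2 h3, S.dvd_card_hall hA,
        S.eq_bot_of_normal PSolvable.pCore_isPGroup⟩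
  haveI := Fact.mk hs
  obtain ⟨⟨a, haA⟩, ha⟩ := exists_prime_orderOf_dvd_card' (G := A) s hsA
  rw [orderOf_mk] at ha
  have hoa : Odd (orderOf a) := ha ▸ hs.odd_of_ne_two (by omega)
  have ha1 : a ≠ 1 := by
    rintro rfl
    rw [orderOf_one] at ha
    omega
  have hscal : ∀ (U : Subgroup H) [U.Normal], (∀ x ∈ U, ∀ y ∈ U, x * y = y * x) → ∀ u ∈ U, IsScal ρ u :=
    fun U _ hU => isScal_of_abelian ρ S hm hA1 (fun v hv => S.hall_cover hA hv) haA ha1 hoa U hU
  haveI := S.nontriv
  have hmem : a ∈ Cfsg.pCore s H := by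
    refine mem_pCore_of_centralizes (ha ▸ pow_orderOf_eq_one a) fun e he d hd => ?_
    haveI := Fact.mk he
    rcases eq_or_ne e s with rfl | hes
    · rw [hsbot, mem_bot] at hd; rw [hd]; exact Commute.one_right a
    set D := Cfsg.pCore e H with hDdef
    haveI hDn : D.Normal := Subgroup.sSup_normal _ fun N h => h.1
    have hD : IsPGroup e D := PSolvable.pCore_isPGroup
    set Z := D ⊓ centralizer (D : Set H) with hZdef
    haveI : Z.Normal := inferInstance
    have hZscal : ∀ z ∈ Z, IsScal ρ z := hscal Z fun x hx y hy =>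
      (mem_centralizer_iff.1 hy.2 x hx.1)
    -- the derived subgroup is central
    have hD' : ∀ x ∈ D, ∀ y ∈ D, ⁅x, y⁆ ∈ Z := by
      by_contra hcon
      push Not at hcon
      obtain ⟨x₀, hx₀, y₀, hy₀, hxy⟩ := hcon
      set Z' : Subgroup D := Z.subgroupOf D
      haveI : Z'.Normal := inferInstance
      haveI : Group.IsNilpotent (D ⧸ Z') := (hD.to_quotient Z').isNilpotent
      set π := QuotientGroup.mk' Z'
      have hne : (commutator D).map π ≠ ⊥ := by
        intro h
        rw [Subgroup.map_eq_bot_iff, QuotientGroup.ker_mk'] at h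
        exact hxy (h (commutator_mem_commutator (mem_top (⟨x₀, hx₀⟩ : D)) (mem_top ⟨y₀, hy₀⟩)))
      haveI : ((commutator D).map π).Normal :=
        Normal.map inferInstance π (QuotientGroup.mk'_surjective Z')
      obtain ⟨w, hw, hw1⟩ := (Subgroup.ne_bot_iff_exists_ne_one.1
        (PrimitiveDegree.inf_center_ne_bot_of_nilpotent _ hne)) |> fun ⟨w, hw⟩ => (⟨w.1, w.2, fun e => hw (Subtype.ext e)⟩ : ∃ w, w ∈ (commutator D).map π ⊓ center (D ⧸ Z') ∧ w ≠ 1)
      obtain ⟨z, hz, rfl⟩ := hw.1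
      let U : Subgroup H :=
        { carrier := {u | u ∈ ⁅D, D⁆ ∧ ∀ g ∈ D, ⁅g, u⁆ ∈ Z}
          one_mem' := ⟨one_mem _, fun g _ => by simp⟩
          mul_mem' := fun {u u'} hu hu' => ⟨mul_mem hu.1 hu'.1, fun g hg => by
            have : ⁅g, u * u'⁆ = ⁅g, u⁆ * (u * ⁅g, u'⁆ * u⁻¹) := by
              simp only [commutatorElement_def]; group
            rw [this]
            exact mul_mem (hu.2 g hg) (Normal.conj_mem inferInstance _ (hu'.2 g hg) u)⟩
          inv_mem' := fun {u} hu => ⟨inv_mem hu.1, fun g hg => by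
            have : ⁅g, u⁻¹⁆ = u⁻¹ * ⁅g, u⁆⁻¹ * u := by simp only [commutatorElement_def]; group
            rw [this]
            exact Normal.conj_mem' inferInstance _ (inv_mem (hu.2 g hg)) u⟩ }
      haveI : U.Normal := ⟨fun u hu k => ⟨Normal.conj_mem inferInstance u hu.1 k, fun g hg => by
        have : ⁅g, k * u * k⁻¹⁆ = k * ⁅k⁻¹ * g * k, u⁆ * k⁻¹ := by
          simp only [commutatorElement_def]; group
        rw [this]
        exact Normal.conj_mem inferInstance _ (hu.2 _ (Normal.conj_mem' hDn g hg k)) k⟩⟩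
      have hUD : ∀ u ∈ U, u ∈ D := fun u hu => commutator_le_self D hu.1
      have hUab : ∀ x ∈ U, ∀ y ∈ U, x * y = y * x := by
        intro x hx y hy
        have hc : ∀ g ∈ D, ∀ g' ∈ D, ⁅g, y⁆ * g' = g' * ⁅g, y⁆ := fun g hg g' hg' =>
          (mem_centralizer_iff.1 (hy.2 g hg).2 g' hg').symm
        haveI : IsMulCommutative ↥(Z : Subgroup H) :=
          ⟨⟨fun s t => Subtype.ext (mem_centralizer_iff.1 t.2.2 s s.2.1)⟩⟩
        -- `g ↦ [g, y]` is a homomorphism into the centre, so kills commutators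
        let f : D →* Z := MonoidHom.mk' (fun g => ⟨⁅(g : H), y⁆, hy.2 g g.2⟩) fun g g' => Subtype.ext (by
          show ⁅(g : H) * g', y⁆ = ⁅(g : H), y⁆ * ⁅(g' : H), y⁆
          calc ⁅(g : H) * g', y⁆ = ((g : H) * ⁅(g' : H), y⁆) * (y * (g : H)⁻¹ * y⁻¹) := by
                simp only [commutatorElement_def]; group
            _ = (⁅(g' : H), y⁆ * g) * (y * (g : H)⁻¹ * y⁻¹) := by rw [hc g' g'.2 g g.2]
            _ = ⁅(g' : H), y⁆ * ⁅(g : H), y⁆ := by simp only [commutatorElement_def]; group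
            _ = _ := mem_centralizer_iff.1 (hy.2 g g.2).2 _ (hy.2 g' g'.2).1)
        suffices h : ⁅D, D⁆ ≤ (f.ker).map D.subtype by
          obtain ⟨x', hx', rfl⟩ := h hx.1
          exact commutatorElement_eq_one_iff_mul_comm.1 (congrArg Subtype.val (MonoidHom.mem_ker.1 hx'))
        refine commutator_le.2 fun g₁ hg₁ g₂ hg₂ => ⟨⁅(⟨g₁, hg₁⟩ : D), ⟨g₂, hg₂⟩⁆, ?_, rfl⟩
        rw [SetLike.mem_coe, MonoidHom.mem_ker, map_commutatorElement,
          commutatorElement_eq_one_iff_mul_comm]
        exact mul_comm' _ _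
      have hzU : (z : H) ∈ U := by
        refine ⟨?_, fun g hg => ?_⟩
        · have : (z : H) ∈ (commutator D).map D.subtype := ⟨z, hz, rfl⟩
          rwa [Subgroup.map_subtype_commutator] at this
        · have h := commutatorElement_eq_one_iff_mul_comm.2 (mem_center_iff.1 hw.2 (π ⟨g, hg⟩))
          rw [← map_commutatorElement, QuotientGroup.mk'_apply, QuotientGroup.eq_one_iff] at h
          exact h
      apply hw1
      rw [QuotientGroup.mk'_apply, QuotientGroup.eq_one_iff]
      refine ⟨z.2, mem_centralizer_iff.2 fun g _ => ?_⟩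
      exact ((hscal U hUab _ hzU).commute ρ S.inj g).eq.symm
    -- the index of the centre is at most four
    have hbound := card_le_sq ρ S.inj D (⊥ : Subalgebra (ZMod ℓ) (Module.End (ZMod ℓ) V))
      (fun c hc h0 => by
        obtain ⟨r, rfl⟩ := Algebra.mem_bot.1 hc
        have hr : r ≠ 0 := fun h => h0 (by rw [h, map_zero])
        intro x y hxy
        simp only [Module.algebraMap_end_apply] at hxy
        exact smul_right_injective V hr hxy)
      (fun c hc g _ => by
        obtain ⟨r, rfl⟩ := Algebra.mem_bot.1 hc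
        exact Algebra.commute_algebraMap_left r _)
      (fun x hx y hy => by
        obtain ⟨r, hr⟩ := hZscal _ (hD' x hx y hy)
        rw [hr]
        exact Subalgebra.algebraMap_mem _ r)
    rw [hm] at hbound
    set Z' : Subgroup D := Z.subgroupOf D with hZ'
    rw [card_eq_card_quotient_mul_card_subgroup Z',
      Nat.card_congr (subgroupOfEquivOfLe (inf_le_left : Z ≤ D)).toEquiv] at hbound
    have hidx : Nat.card (D ⧸ Z') ≤ 4 := Nat.le_of_mul_le_mul_right hbound Nat.card_pos
    -- `a` fixes every coset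
    have haN : ∀ d ∈ D, a * d * a⁻¹ ∈ D := fun d hd => hDn.conj_mem d hd a
    let φ : zpowers a →* MulAut (D ⧸ Z') :=
      { toFun := fun g => QuotientGroup.congr Z' Z' (MulAut.conjNormal (g : H)) (by
          refine Subgroup.eq_of_le_of_card_ge ?_ (le_of_eq (card_map_of_injective (MulEquiv.injective _)).symm)
          rintro _ ⟨z, hz, rfl⟩
          exact (inferInstance : Z.Normal).conj_mem _ hz (g : H))
        map_one' := by
          refine MulEquiv.ext fun c => ?_
          obtain ⟨c, rfl⟩ := QuotientGroup.mk'_surjective Z' c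
          simp
        map_mul' := fun g g' => by
          refine MulEquiv.ext fun c => ?_
          obtain ⟨c, rfl⟩ := QuotientGroup.mk'_surjective Z' c
          simp }
    haveI := Fintype.ofFinite (D ⧸ Z')
    let ψ : zpowers a →* Equiv.Perm (D ⧸ Z') :=
      { toFun := fun g => (φ g).toEquiv
        map_one' := by rw [map_one]; rfl
        map_mul' := fun g g' => by rw [map_mul]; rfl }
    have htriv : ψ ⟨a, mem_zpowers a⟩ = 1 := by
      rw [← orderOf_eq_one_iff]
      refine Nat.eq_one_of_dvd_coprimes (k := orderOf (ψ ⟨a, mem_zpowers a⟩))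
        ((hs.coprime_iff_not_dvd.2 fun h => ?_) : Nat.Coprime s (Fintype.card (Equiv.Perm (D ⧸ Z'))))
        ((orderOf_map_dvd ψ _).trans (by rw [orderOf_mk, ha])) orderOf_dvd_card
      rw [Fintype.card_perm, hs.dvd_factorial, Fintype.card_eq_nat_card] at h
      omega
    refine commute_of_commute_comm hD hs hes (ha ▸ pow_orderOf_eq_one a) hd
      (D.mul_mem (D.inv_mem hd) (haN d hd)) ?_
    have h1 : φ ⟨a, mem_zpowers a⟩ (QuotientGroup.mk ⟨d, hd⟩ : D ⧸ Z') = QuotientGroup.mk ⟨d, hd⟩ :=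
      Equiv.Perm.ext_iff.1 htriv _
    have h2 : (QuotientGroup.mk (MulAut.conjNormal a ⟨d, hd⟩) : D ⧸ Z') = QuotientGroup.mk ⟨d, hd⟩ := h1
    have h3 := QuotientGroup.eq.1 h2.symm
    exact ((hZscal _ h3).commute ρ S.inj a).symm
  rw [hsbot, mem_bot] at hmem
  exact ha1 hmem

end Cfsg.Agent.Lib.SolvDegrees.Palfy
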