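import Mathlib
import Cfsg.Agent.Lib.SolvDegrees.PalfyTwo
import Cfsg.Agent.Lib.SolvDegrees.PalfySix
import Cfsg.Agent.Lib.SolvDegrees.PalfyDeg
import Cfsg.Agent.Lib.PPD.Zsigmondy
import Cfsg.Agent.Lib.PPD.Basic

/-!
If every nonzero vector is fixed by a normal abelian Hall `{p, q}`-subgroup of its stabiliser,
then `p * q` divides a degree.
-/

set_option autoImplicit false
set_option linter.unusedSectionVars false

namespace Cfsg.Agent.Lib.SolvDegrees.Palfy

open Subgroup Cfsg
open Cfsg.Agent.Lib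
open scoped Pointwise

variable {H : Type*} [Group H] [Finite H]

/-- A linear character separating a normal cyclic group of prime order gives a degree divisible
by the index of its centralizer. -/
theorem exists_deg_index_centralizer [Fintype H] {x : H} {t : ℕ} (ht : t.Prime)
    (hx : orderOf x = t) [(zpowers x).Normal] :
    ∃ n, HasDeg H n ∧ (centralizer ({x} : Set H)).index ∣ n := by
  classical
  letI : CommGroup (zpowers x) := IsCyclic.commGroup
  have hx1 : (⟨x, mem_zpowers x⟩ : zpowers x) ≠ 1 := fun e => ht.ne_one (by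
    rw [← hx, show x = 1 from congrArg Subtype.val e, orderOf_one])
  obtain ⟨f, hf⟩ := CommGroup.exists_apply_ne_one_of_hasEnoughRootsOfUnity (zpowers x) ℂ hx1
  obtain ⟨n, hn, hdvd⟩ := hasDeg_over (zpowers x) (θ := fun z => (f z : ℂ))
    (Chars.isIrrCharacter_of_hom f) (d := 1) (by simp)
  refine ⟨n, hn, dvd_trans ?_ hdvd⟩
  rw [mul_one]
  refine index_dvd_of_le fun g hg => mem_centralizer_singleton_iff.2 ?_
  have h := congrFun (mem_cst.1 hg) ⟨x, mem_zpowers x⟩
  obtain ⟨i, hi⟩ := (inferInstance : (zpowers x).Normal).conj_mem x (mem_zpowers x) g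
  have hz : (⟨g * x * g⁻¹, (inferInstance : (zpowers x).Normal).conj_mem x (mem_zpowers x) g⟩ :
      zpowers x) = (⟨x, mem_zpowers x⟩ : zpowers x) ^ i := Subtype.ext hi.symm
  change (f ⟨g * x * g⁻¹, _⟩ : ℂ) = f ⟨x, mem_zpowers x⟩ at h
  rw [hz, map_zpow] at h
  have h1 : f ⟨x, mem_zpowers x⟩ ^ (i - 1) = 1 := by
    rw [zpow_sub_one, Units.ext h, mul_inv_cancel]
  have hdvd2 : (orderOf (f ⟨x, mem_zpowers x⟩) : ℤ) ∣ i - 1 := orderOf_dvd_iff_zpow_eq_one.2 h1
  have hord : orderOf (f ⟨x, mem_zpowers x⟩) = t := by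
    have hd : orderOf (f ⟨x, mem_zpowers x⟩) ∣ t := by
      have := orderOf_map_dvd f (⟨x, mem_zpowers x⟩ : zpowers x)
      rwa [orderOf_mk, hx] at this
    exact ((Nat.dvd_prime ht).1 hd).resolve_left fun e => hf (orderOf_eq_one_iff.1 e)
  rw [hord] at hdvd2
  have : x ^ i = x := by
    obtain ⟨k, hk⟩ := hdvd2
    rw [show i = (t : ℤ) * k + 1 by omega, zpow_add_one, zpow_mul, zpow_natCast, ← hx,
      pow_orderOf_eq_one, one_zpow, one_mul]
  change x ^ i = g * x * g⁻¹ at hi
  rw [this] at hi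
  exact mul_inv_eq_iff_eq_mul.1 hi.symm

variable {ℓ : ℕ} [Fact ℓ.Prime] {V : Type*} [AddCommGroup V] [Module (ZMod ℓ) V] [Finite V]
  {ρ : H →* (V ≃ₗ[ZMod ℓ] V)} {p q : ℕ}

/-- The main case: a primitive prime divisor exists. -/
theorem deg_of_zsig [Fintype H] [Group.IsSolvable H] (S : Setup ρ p q) {t : ℕ} (ht : t.Prime)
    (hdvd : t ∣ ℓ ^ Module.finrank (ZMod ℓ) V - 1)
    (hprim : ∀ k : ℕ, 0 < k → k < Module.finrank (ZMod ℓ) V → ¬ t ∣ ℓ ^ k - 1)
    (hlt : Module.finrank (ZMod ℓ) V < t) :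
    ∃ n, HasDeg H n ∧ p * q ∣ n := by
  classical
  haveI := Fact.mk S.hp
  haveI := Fact.mk S.hq
  haveI := Fact.mk ht
  obtain ⟨A₀, hA₀⟩ := Hall.exists_isPiHall (G := H) {p, q}
  have hA₀' : Cfsg.IsPiHall {q, p} A₀ := by rwa [Set.pair_comm]
  have hℓ := (Fact.out : ℓ.Prime).two_le
  -- `t` divides the number of conjugates
  have htn : t ∣ (normalizer (A₀ : Set H)).index := by
    have hn := S.hall_partition hA₀
    rw [Module.natCard_eq_pow_finrank (K := ZMod ℓ) (V := V), Nat.card_zmod, card_eq_pow] at hn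
    refine (ht.dvd_mul.1 (hn.symm ▸ hdvd)).resolve_right (hprim _ ?_ ?_)
    · exact Nat.pos_of_ne_zero fun h => S.hall_fix_ne_bot hA₀ (Submodule.finrank_eq_zero.1 h)
    · exact Submodule.finrank_lt (S.fixSp_ne_top (S.hall_ne_bot hA₀))
  have htp : t ≠ p := fun h => S.normalizer_index_not_dvd hA₀ (h ▸ htn)
  have htq : t ≠ q := fun h => S.symm.normalizer_index_not_dvd hA₀' (h ▸ htn)
  have htH : t ∣ Nat.card H := htn.trans (index_dvd_card _)
  obtain ⟨x, hx⟩ := exists_prime_orderOf_dvd_card' t htH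
  have hz : Zsig ρ t x := ⟨ht, hx, S.inj, hdvd, hprim, hlt⟩
  -- a Hall subgroup containing a Hall `{p,q}`-subgroup and `x`
  obtain ⟨Y, hY, hxY⟩ := Hall.exists_isPiHall_ge (π := {p, q, t}) (U := zpowers x) (by
    rw [Nat.card_zpowers, hx]
    intro s hs hsd
    rw [(Nat.prime_dvd_prime_iff_eq hs ht).1 hsd]; simp)
  obtain ⟨A, hAY⟩ := Hall.exists_isPiHallOf {p, q} Y
  obtain ⟨hAle, hA1, hA2⟩ := hAY
  have hA : Cfsg.IsPiHall {p, q} A := by
    refine ⟨hA1, fun s hs hmem hd => ?_⟩
    rw [← relIndex_mul_index hAle] at hd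
    rcases hs.dvd_mul.1 hd with h | h
    · exact hA2 s hs hmem h
    · refine hY.2 s hs ?_ h
      rcases hmem with rfl | rfl <;> simp
  have hAne := S.hall_fix_ne_bot hA
  -- an element of `A` commuting with an irreducible one is trivial
  have free : ∀ y : H, orderOf y = t → ∀ a ∈ A, Commute a y → a = 1 := by
    intro y hy a ha hc
    have := (hz.of_orderOf hy).eq_bot_of_fix (K := zpowers a) (fun k hk => by
      obtain ⟨i, rfl⟩ := hk
      rw [mul_assoc, (hc.zpow_left i).eq, inv_mul_cancel_left]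
      exact zpow_mem (mem_zpowers a) i) (fun h => hAne (eq_bot_iff.2 (h ▸ fun v hv =>
        (mem_fixSp_zpowers ρ).2 (hv a ha))))
    exact zpowers_eq_bot.1 this
  -- a normal subgroup of order `t` of `Y`
  obtain ⟨x₁, hx₁, hx₁Y, hnorm⟩ : ∃ x₁, orderOf x₁ = t ∧ x₁ ∈ Y ∧
      ∀ g ∈ Y, g * x₁ * g⁻¹ ∈ zpowers x₁ := by
    haveI : Nontrivial Y := ⟨⟨⟨x, hxY (mem_zpowers x)⟩, 1, fun e => hz.ne_one (congrArg Subtype.val e)⟩⟩
    obtain ⟨N, hNn, hNne, -, hNmin⟩ := MinimalNormal.exists_minimal_normal_le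
      (M := (⊤ : Subgroup Y)) inferInstance (Ne.symm bot_ne_top)
    haveI := hNn
    obtain ⟨hNc, s, hs, hse⟩ := MinimalNormal.elementaryAbelian N hNne hNmin
    haveI := Fact.mk hs
    obtain ⟨w, hwN, hw1⟩ := (bot_or_exists_ne_one N).resolve_left hNne
    have hws : orderOf w = s := orderOf_eq_prime (hse w hwN) hw1
    have hsY : s ∈ ({p, q, t} : Set ℕ) :=
      hY.1 s hs (hws ▸ orderOf_dvd_natCard w)
    have hst : s = t := by
      by_contra hne
      have hspq : s ∈ ({p, q} : Set ℕ) := by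
        rcases hsY with h | h | h
        · exact Or.inl h
        · exact Or.inr h
        · exact absurd h hne
      -- `N` lies in `A`, so fixes a vector
      have hNp : Hall.IsPiNumber {p, q} (Nat.card N) := by
        obtain ⟨k, hk⟩ := IsPGroup.iff_card.1 (show IsPGroup s N from fun z =>
          ⟨1, Subtype.ext (by rw [pow_one, SubmonoidClass.coe_pow, OneMemClass.coe_one]; exact hse z z.2)⟩)
        rw [hk]; exact Hall.isPiNumber_pow_prime hs hspq k
      have hAYh : Cfsg.IsPiHall {p, q} (A.subgroupOf Y) :=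
        Hall.isPiHallOf_iff_isPiHall.1 ⟨hAle, hA1, hA2⟩ |>.2
      have hNA : N.map Y.subtype ≤ A := by
        rintro _ ⟨k, hk, rfl⟩
        exact Hall.le_isPiHall_of_normal hAYh hNp hk
      have := hz.eq_bot_of_fix (K := N.map Y.subtype) (fun k hk => by
        obtain ⟨k, hk, rfl⟩ := hk
        exact ⟨(⟨x, hxY (mem_zpowers x)⟩ : Y)⁻¹ * k * ⟨x, hxY (mem_zpowers x)⟩,
          hNn.conj_mem' k hk _, rfl⟩) (fun h => hAne (eq_bot_iff.2 (h ▸ fun v hv k hk => hv k (hNA hk))))
      rw [map_eq_bot_iff_of_injective _ Y.subtype_injective] at this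
      exact hNne this
    subst hst
    refine ⟨(w : H), by rw [Subgroup.orderOf_coe, hws], w.2, fun g hg => ?_⟩
    have hgN := hNn.conj_mem w hwN ⟨g, hg⟩
    have hzw := hz.of_orderOf (show orderOf (w : H) = s by rw [Subgroup.orderOf_coe, hws])
    haveI := hzw.isCyclic_centralizer
    set N' := N.map Y.subtype with hN'
    have hN'c : N' ≤ centralizer ({(w : H)} : Set H) := by
      rintro _ ⟨k, hk, rfl⟩
      exact mem_centralizer_singleton_iff.2 (congrArg Subtype.val (setLike_mul_comm hk hwN))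
    haveI : IsCyclic N' := isCyclic_of_le (H' := centralizer ({(w : H)} : Set H)) hN'c
    have hcard : Nat.card N' ∣ s := by
      rw [← IsCyclic.exponent_eq_card]
      exact Monoid.exponent_dvd_of_forall_pow_eq_one fun z => Subtype.ext (by
        obtain ⟨k, hk, hkz⟩ := z.2
        rw [SubmonoidClass.coe_pow, ← hkz, ← map_pow, hse k hk, map_one]; rfl)
    have hle : zpowers (w : H) ≤ N' := zpowers_le.2 ⟨w, hwN, rfl⟩
    have heq := eq_of_le_of_card_ge hle (by
      rw [Nat.card_zpowers, Subgroup.orderOf_coe, hws]; exact Nat.le_of_dvd hs.pos hcard)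
    rw [heq]
    exact ⟨_, hgN, rfl⟩
  -- `|A|` divides `t - 1`
  have hAdvd : Nat.card A ∣ t - 1 := by
    have hsub : ∀ a : A, (a : H) ∈ normalizer (zpowers x₁ : Set H) := fun a =>
      mem_normalizer_of_conj_mem fun k hk => by
        obtain ⟨i, rfl⟩ := hk
        rw [← conj_zpow]
        exact zpow_mem (hnorm a (hAle a.2)) i
    let φ : A →* MulAut (zpowers x₁) :=
      (Subgroup.normalizerMonoidHom (zpowers x₁)).comp
        ((inclusion (show A ≤ normalizer (zpowers x₁ : Set H) from fun a ha => hsub ⟨a, ha⟩)))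
    have hinj : Function.Injective φ := by
      rw [injective_iff_map_eq_one]
      intro a ha
      have hk : inclusion (show A ≤ normalizer (zpowers x₁ : Set H) from fun a ha => hsub ⟨a, ha⟩) a ∈
          (Subgroup.normalizerMonoidHom (zpowers x₁)).ker := ha
      rw [Subgroup.normalizerMonoidHom_ker, mem_subgroupOf] at hk
      refine Subtype.ext (free x₁ hx₁ a a.2 ?_)
      exact (mem_centralizer_iff.1 hk x₁ (mem_zpowers x₁)).symm
    haveI : IsCyclic (zpowers x₁) := inferInstance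
    have hc := Subgroup.card_dvd_of_injective φ hinj
    rwa [IsCyclic.card_mulAut, Nat.card_zpowers, hx₁, Nat.totient_prime ht] at hc
  -- `x₁` centralises the other prime cores
  have hcores : ∀ e : ℕ, e.Prime → e ≠ t → ∀ d ∈ Cfsg.pCore e H, Commute x₁ d := by
    intro e he het d hd
    haveI := Fact.mk he
    haveI hn : (Cfsg.pCore e H).Normal := Subgroup.sSup_normal _ fun N h => h.1
    rcases (hz.of_orderOf hx₁).centralized_or e het _ PSolvable.pCore_isPGroup
        (fun d hd => hn.conj_mem d hd x₁) with h | ⟨k, hk⟩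
    · exact h d hd
    · exfalso
      rw [hk, Nat.add_sub_cancel] at hAdvd
      have h1 := (Nat.prime_dvd_prime_iff_eq S.hp he).1
        (S.hp.dvd_of_dvd_pow ((S.dvd_card_hall hA).trans hAdvd))
      have h2 := (Nat.prime_dvd_prime_iff_eq S.hq he).1 (S.hq.dvd_of_dvd_pow
        ((S.symm.dvd_card_hall (show Cfsg.IsPiHall {q, p} A by rwa [Set.pair_comm])).trans hAdvd))
      exact S.hpq (h1.trans h2.symm)
  -- a normal subgroup of order `t`
  haveI htn' : (Cfsg.pCore t H).Normal := Subgroup.sSup_normal _ fun N h => h.1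
  have hT : Cfsg.pCore t H ≠ ⊥ := by
    intro hbot
    have := mem_pCore_of_centralizes (hx₁ ▸ pow_orderOf_eq_one x₁) fun e he d hd => by
      by_cases het : e = t
      · subst het; rw [hbot, mem_bot] at hd; rw [hd]; exact Commute.one_right x₁
      · exact hcores e he het d hd
    rw [hbot, mem_bot] at this
    exact (hz.of_orderOf hx₁).ne_one this
  obtain ⟨N, hNn, hNne, hNle, hNmin⟩ := MinimalNormal.exists_minimal_normal_le htn' hT
  haveI := hNn
  obtain ⟨hNc, s, hs, hse⟩ := MinimalNormal.elementaryAbelian N hNne hNmin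
  obtain ⟨x₂, hx₂N, hx₂1⟩ := (bot_or_exists_ne_one N).resolve_left hNne
  haveI := Fact.mk hs
  have hst : s = t := by
    obtain ⟨k, hk⟩ := IsPGroup.iff_orderOf.1 (PSolvable.pCore_isPGroup (p := t) (G := H)) ⟨x₂, hNle hx₂N⟩
    rw [orderOf_mk, orderOf_eq_prime (hse x₂ hx₂N) hx₂1] at hk
    exact (Nat.prime_dvd_prime_iff_eq hs ht).1 (hs.dvd_of_dvd_pow hk.dvd)
  subst hst
  have hx₂ : orderOf x₂ = s := orderOf_eq_prime (hse x₂ hx₂N) hx₂1
  have hN : N = zpowers x₂ := by
    haveI := (hz.of_orderOf hx₂).isCyclic_centralizer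
    have hc : N ≤ centralizer ({x₂} : Set H) := fun k hk =>
      mem_centralizer_singleton_iff.2 (setLike_mul_comm hk hx₂N)
    haveI : IsCyclic N := isCyclic_of_le (H' := centralizer ({x₂} : Set H)) hc
    have hcard : Nat.card N ∣ s := by
      rw [← IsCyclic.exponent_eq_card]
      exact Monoid.exponent_dvd_of_forall_pow_eq_one fun z => Subtype.ext (hse z z.2)
    exact (eq_of_le_of_card_ge (zpowers_le.2 hx₂N) (by
      rw [Nat.card_zpowers, hx₂]; exact Nat.le_of_dvd hs.pos hcard)).symm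
  subst hN
  obtain ⟨n, hn, hdn⟩ := exists_deg_index_centralizer hs hx₂
  refine ⟨n, hn, dvd_trans ?_ hdn⟩
  set U := centralizer ({x₂} : Set H)
  -- elements of order `p` or `q` move `x₂`
  have key : ∀ r : ℕ, r.Prime → r ∈ ({p, q} : Set ℕ) → r ∣ Nat.card H → r ∣ U.index := by
    intro r hr hrm hrd
    haveI := Fact.mk hr
    have hU : ¬ r ∣ Nat.card U := by
      intro h
      obtain ⟨u, hu⟩ := exists_prime_orderOf_dvd_card' (G := U) r h
      obtain ⟨B, hB, huB⟩ := Hall.exists_isPiHall_ge (π := {p, q}) (U := zpowers (u : H)) (by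
        rw [Nat.card_zpowers, Subgroup.orderOf_coe, hu]
        intro r' hr' hd
        rwa [(Nat.prime_dvd_prime_iff_eq hr' hr).1 hd])
      have hBne := S.hall_fix_ne_bot hB
      have := (hz.of_orderOf hx₂).eq_bot_of_fix (K := zpowers (u : H)) (fun k hk => by
        obtain ⟨i, rfl⟩ := hk
        have hc : Commute (u : H) x₂ := mem_centralizer_singleton_iff.1 u.2
        rw [mul_assoc, (hc.zpow_left i).eq, inv_mul_cancel_left]
        exact zpow_mem (mem_zpowers _) i) (fun h => hBne (eq_bot_iff.2 (h ▸ fun v hv k hk => hv k (huB hk))))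
      rw [zpowers_eq_bot] at this
      rw [← Subgroup.orderOf_coe, this, orderOf_one] at hu
      exact hr.ne_one hu.symm
    rw [← U.card_mul_index] at hrd
    exact (hr.dvd_mul.1 hrd).resolve_left hU
  exact ((Nat.coprime_primes S.hp S.hq).2 S.hpq).mul_dvd_of_dvd_of_dvd
    (key p S.hp (Or.inl rfl) S.pdvd) (key q S.hq (Or.inr rfl) S.qdvd)

/-- The core theorem. -/
theorem exists_deg [Fintype H] [Group.IsSolvable H] (S : Setup ρ p q) :
    ∃ n, HasDeg H n ∧ p * q ∣ n := by
  obtain ⟨A, hA⟩ := Hall.exists_isPiHall (G := H) {p, q}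
  have hℓ := (Fact.out : ℓ.Prime).two_le
  have hm : 2 ≤ Module.finrank (ZMod ℓ) V := by
    have h1 := Submodule.finrank_lt (S.fixSp_ne_top (S.hall_ne_bot hA))
    have h2 : Module.finrank (ZMod ℓ) (fixSp ρ A) ≠ 0 :=
      fun h => S.hall_fix_ne_bot hA (Submodule.finrank_eq_zero.1 h)
    omega
  by_cases h26 : ℓ = 2 ∧ Module.finrank (ZMod ℓ) V = 6
  · obtain ⟨rfl, h6⟩ := h26
    exact (false_of_six S h6).elim
  by_cases h2 : Module.finrank (ZMod ℓ) V = 2 ∧ ∃ j : ℕ, ℓ + 1 = 2 ^ j
  · obtain ⟨h2, j, hj⟩ := h2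
    exact (false_of_two ρ S h2 hj).elim
  obtain ⟨t, ht, hdvd, hprim⟩ := PPD.exists_primitive_prime hℓ hm h26 h2
  exact deg_of_zsig S ht hdvd hprim
    (PPD.lt_of_primitive ht (by omega) (by omega) hdvd (fun i hi => hprim i hi))

end Cfsg.Agent.Lib.SolvDegrees.Palfy
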