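import Mathlib
import Cfsg.Agent.Lib.SolvDegrees.PalfyCore
import Cfsg.Agent.Lib.OddChar.Clifford

/-!
The action on linear characters of normal subgroups, and general lemmas for three primes.
-/

set_option autoImplicit false
set_option linter.unusedSectionVars false

namespace Cfsg.Agent.Lib.SolvDegrees.Palfy

open Subgroup Cfsg
open Cfsg.Agent.Lib
open scoped Pointwise commutatorElement

/-- Three primes, each dividing a degree, no two dividing the same one. -/
structure Bad (G : Type*) [Group G] (π : Finset ℕ) : Prop where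
  card_eq : π.card = 3
  prime : ∀ s ∈ π, s.Prime
  ex : ∀ s ∈ π, ∃ n, HasDeg G n ∧ s ∣ n
  pair : ∀ s ∈ π, ∀ s' ∈ π, s ≠ s' → ∀ n, HasDeg G n → ¬ s * s' ∣ n

theorem Bad.two_others {G : Type*} [Group G] {π : Finset ℕ} (h : Bad G π) {r : ℕ} (hr : r ∈ π) :
    ∃ p q, p ∈ π ∧ q ∈ π ∧ p ≠ q ∧ p ≠ r ∧ q ≠ r := by
  classical
  have h2 : (π.erase r).card = 2 := by rw [Finset.card_erase_of_mem hr, h.card_eq]
  obtain ⟨p, q, hpq, he⟩ := Finset.card_eq_two.1 h2
  have hp : p ∈ π.erase r := by rw [he]; simp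
  have hq : q ∈ π.erase r := by rw [he]; simp
  exact ⟨p, q, (Finset.mem_erase.1 hp).2, (Finset.mem_erase.1 hq).2, hpq, (Finset.mem_erase.1 hp).1,
    (Finset.mem_erase.1 hq).1⟩

theorem hasDeg_of_surjective {G X : Type*} [Group G] [Finite G] [Group X] (f : G →* X)
    (hf : Function.Surjective f) {n : ℕ} (h : HasDeg X n) : HasDeg G n := by
  obtain ⟨χ, hχ⟩ := h
  exact ⟨⟨_, Chars.isIrrCharacter_comp_surjective f hf χ.2⟩, by
    show (χ : X → ℂ) (f 1) = n
    rw [map_one, hχ]⟩

/-- If no degree is divisible by `s` there is a normal abelian Sylow `s`-subgroup, and conversely. -/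
theorem sylow_of_no_deg {G : Type*} [Group G] [Finite G] [Group.IsSolvable G] {s : ℕ} [Fact s.Prime]
    (h : ∀ n, HasDeg G n → ¬ s ∣ n) (P : Sylow s G) :
    (P : Subgroup G).Normal ∧ IsMulCommutative P :=
  (HeightPSolv.allDegreesPrime_iff PSolvable.isPSolvable_of_isSolvable P).mpr fun χ hd => by
    obtain ⟨b, hb⟩ := Chars.isCharacter_exists_degree (Chars.irr_isCharacter χ)
    rw [Codegree.charDegree_eq hb] at hd
    exact h b ⟨χ, hb⟩ hd

theorem no_deg_of_sylow {G : Type*} [Group G] [Finite G] [Group.IsSolvable G] {s : ℕ} [Fact s.Prime]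
    (P : Sylow s G) (hn : (P : Subgroup G).Normal)
    (hc : ∀ a ∈ P, ∀ b ∈ P, a * b = b * a) {n : ℕ} (h : HasDeg G n) : ¬ s ∣ n := by
  obtain ⟨χ, hχ⟩ := h
  have h1 := (HeightPSolv.allDegreesPrime_iff PSolvable.isPSolvable_of_isSolvable P).mp
    ⟨hn, ⟨⟨fun a b => Subtype.ext (hc a a.2 b b.2)⟩⟩⟩ χ
  rwa [Codegree.charDegree_eq hχ] at h1

/-- A quotient which is not bad loses one of the primes. -/
theorem Bad.drop {G : Type*} [Group G] [Finite G] [Group.IsSolvable G] {π : Finset ℕ} (h : Bad G π)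
    (M : Subgroup G) [M.Normal] (hM : ¬ Bad (G ⧸ M) π) :
    ∃ r ∈ π, ∃ R : Sylow r G, ((R : Subgroup G) ⊔ M).Normal ∧
      ∀ a ∈ R, ∀ b ∈ R, ⁅a, b⁆ ∈ M := by
  have : ∃ r ∈ π, ∀ n, HasDeg (G ⧸ M) n → ¬ r ∣ n := by
    by_contra! hc
    exact hM ⟨h.card_eq, h.prime, hc, fun s hs s' hs' hne n hn =>
      h.pair s hs s' hs' hne n (hasDeg_of_surjective _ (QuotientGroup.mk'_surjective M) hn)⟩
  obtain ⟨r, hr, hno⟩ := this
  haveI := Fact.mk (h.prime r hr)
  obtain ⟨R⟩ : Nonempty (Sylow r G) := inferInstance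
  set π' := QuotientGroup.mk' M
  obtain ⟨hn, hc⟩ := sylow_of_no_deg hno (R.mapSurjective (QuotientGroup.mk'_surjective M))
  rw [Sylow.coe_mapSurjective] at hn
  refine ⟨r, hr, R, ?_, fun a ha b hb => ?_⟩
  · have := hn.comap π'
    rwa [comap_map_eq, QuotientGroup.ker_mk'] at this
  · rw [← QuotientGroup.eq_one_iff, ← QuotientGroup.mk'_apply, map_commutatorElement,
      commutatorElement_eq_one_iff_mul_comm]
    exact congrArg Subtype.val (hc.1.comm ⟨π' a, ⟨a, ha, rfl⟩⟩ ⟨π' b, ⟨b, hb, rfl⟩⟩)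

variable {G : Type*} [Group G] [Finite G]

/-- Frattini for a Sylow subgroup of a normal product. -/
theorem normalizer_sup_eq {s : ℕ} [Fact s.Prime] (R : Sylow s G) {M : Subgroup G} [M.Normal]
    (h : ((R : Subgroup G) ⊔ M).Normal) : normalizer ((R : Subgroup G) : Set G) ⊔ M = ⊤ := by
  haveI := h
  refine eq_top_iff.2 ((R.normalizer_sup_eq_top' (le_sup_left : (R : Subgroup G) ≤ (R : Subgroup G) ⊔ M)).ge.trans
    (sup_le le_sup_left (sup_le (le_normalizer.trans le_sup_left) le_sup_right)))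

/-- If `s` is prime to the index of `T`, and `T` contains `M`, then it contains each Sylow
`s`-subgroup spanning a normal subgroup with `M`. -/
theorem sylow_le_of_not_dvd {s : ℕ} [Fact s.Prime] (R : Sylow s G) {M T : Subgroup G} [M.Normal]
    [hn : ((R : Subgroup G) ⊔ M).Normal] (hM : M ≤ T) (h : ¬ s ∣ T.index) : (R : Subgroup G) ≤ T := by
  have h1 : T.relIndex ((R : Subgroup G) ⊔ M) ∣ T.index :=
    Hall.relIndex_dvd_index_of_normal_right T _
  have h2 : T.relIndex ((R : Subgroup G) ⊔ M) ∣ M.relIndex ((R : Subgroup G) ⊔ M) :=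
    relIndex_dvd_of_le_left _ hM
  obtain ⟨k, hk⟩ := IsPGroup.iff_card.1 R.isPGroup'
  have h3 : M.relIndex ((R : Subgroup G) ⊔ M) ∣ s ^ k := by
    rw [sup_comm, relIndex_sup_left, ← hk]
    exact relIndex_dvd_card _ _
  obtain ⟨i, -, hi⟩ := (Nat.dvd_prime_pow Fact.out).1 (h2.trans h3)
  have : i = 0 := by
    by_contra hi0
    exact h ((hi ▸ dvd_pow_self s hi0).trans h1)
  rw [this, pow_zero, relIndex_eq_one] at hi
  exact le_sup_left.trans hi

/-- The action on linear characters of a normal subgroup. -/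
noncomputable def charAct (N : Subgroup G) [N.Normal] : G →* MulAut (N →* ℂˣ) where
  toFun g :=
    { toFun := fun f => f.comp (MulAut.conjNormal g⁻¹ : MulAut N).toMonoidHom
      invFun := fun f => f.comp (MulAut.conjNormal g : MulAut N).toMonoidHom
      left_inv := fun f => MonoidHom.ext fun n => congrArg f (Subtype.ext (by
        simp [MulAut.conjNormal_apply, mul_assoc]))
      right_inv := fun f => MonoidHom.ext fun n => congrArg f (Subtype.ext (by
        simp [MulAut.conjNormal_apply, mul_assoc]))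
      map_mul' := fun a b => MonoidHom.ext fun n => rfl }
  map_one' := MulEquiv.ext fun f => MonoidHom.ext fun n => congrArg f (Subtype.ext (by simp))
  map_mul' g h := MulEquiv.ext fun f => MonoidHom.ext fun n => congrArg f (Subtype.ext (by
    simp [MulAut.conjNormal_apply, mul_assoc]))

theorem charAct_apply (N : Subgroup G) [hN : N.Normal] (g : G) (f : N →* ℂˣ) (n : N) :
    charAct N g f n = f ⟨g⁻¹ * n * g, hN.conj_mem' (n : G) n.2 g⟩ := by
  show f (MulAut.conjNormal g⁻¹ n) = _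
  exact congrArg f (Subtype.ext (by simp [MulAut.conjNormal_apply]))

theorem charAct_eq_self_iff (N : Subgroup G) [hN : N.Normal] (g : G) (f : N →* ℂˣ) :
    charAct N g f = f ↔ g ∈ cst N (fun n => (f n : ℂ)) := by
  constructor
  · intro h
    refine mem_cst.2 (funext fun n => ?_)
    show (f ⟨g * n * g⁻¹, _⟩ : ℂ) = f n
    conv_lhs => rw [← h, charAct_apply]
    exact congrArg (fun m => (f m : ℂ)) (Subtype.ext (by simp [mul_assoc]))
  · intro h
    refine MonoidHom.ext fun n => Units.ext ?_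
    rw [charAct_apply]
    have := congrFun (mem_cst.1 ((cst N _).inv_mem h)) n
    change (f ⟨g⁻¹ * n * g⁻¹⁻¹, _⟩ : ℂ) = f n at this
    simpa using this

/-- A multiplicative action on a group of prime exponent as a linear action. -/
noncomputable def linRep {X : Type*} [Group X] {W : Type*} [CommGroup W] (ℓ : ℕ)
    [Module (ZMod ℓ) (Additive W)] (φ : X →* MulAut W) :
    X →* (Additive W ≃ₗ[ZMod ℓ] Additive W) where
  toFun g :=
    { (MulEquiv.toAdditive (φ g)) with
      map_smul' := fun c w => by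
        show (MulEquiv.toAdditive (φ g)).toAddMonoidHom (c • w) = _
        exact ZMod.map_smul _ c w }
  map_one' := LinearEquiv.ext fun w => by
    show Additive.ofMul (φ 1 (Additive.toMul w)) = w
    rw [map_one]; rfl
  map_mul' g h := LinearEquiv.ext fun w => by
    show Additive.ofMul (φ (g * h) (Additive.toMul w)) =
      Additive.ofMul (φ g (φ h (Additive.toMul w)))
    rw [map_mul]; rfl

theorem linRep_apply {X : Type*} [Group X] {W : Type*} [CommGroup W] (ℓ : ℕ)
    [Module (ZMod ℓ) (Additive W)] (φ : X →* MulAut W) (g : X) (w : W) :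
    linRep ℓ φ g (Additive.ofMul w) = Additive.ofMul (φ g w) := rfl

/-- The group of homomorphisms into `ℂˣ` is finite. -/
theorem finite_hom (N : Type*) [Group N] [Finite N] : Finite (N →* ℂˣ) :=
  Finite.of_injective (fun f => Chars.linIrr f) Chars.linIrr_injective

/-- Stabilisers are pushed forward along a surjection. -/
theorem good_map {ℓ : ℕ} [Fact ℓ.Prime] {V : Type*} [AddCommGroup V] [Module (ZMod ℓ) V]
    {X H : Type*} [Group X] [Finite X] [Group H] [Finite H] (f : X →* H) (hf : Function.Surjective f)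
    (ρ : H →* (V ≃ₗ[ZMod ℓ] V)) {s : ℕ} {v : V} (h : Good (ρ.comp f) s v) : Good ρ s v := by
  obtain ⟨P, hP, hi, hc, hfix, hn⟩ := h
  refine ⟨P.map f, hP.map f, fun hd => hi (hd.trans (P.index_map_dvd hf)), ?_, ?_, ?_⟩
  · rintro _ ⟨a, ha, rfl⟩ _ ⟨b, hb, rfl⟩
    rw [← map_mul, ← map_mul, hc a ha b hb]
  · rintro _ ⟨a, ha, rfl⟩
    exact hfix a ha
  · intro g hg
    obtain ⟨y, rfl⟩ := hf g
    rintro _ ⟨k, hk, rfl⟩
    exact ⟨y * k * y⁻¹, hn y hg k hk, by rw [map_mul, map_mul, map_inv]⟩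

/-- An operator of coprime order acting trivially modulo a centralised subgroup is trivial. -/
theorem commute_of_comm_mem {R : Subgroup G} {a g : G}
    (hcop : ∀ c ∈ R, c ^ orderOf a = 1 → c = 1)
    (hcR : g⁻¹ * (a * g * a⁻¹) ∈ R) (hc : Commute a (g⁻¹ * (a * g * a⁻¹))) : Commute a g := by
  set c := g⁻¹ * (a * g * a⁻¹) with hcdef
  have hpow : ∀ i : ℕ, a ^ i * g * (a ^ i)⁻¹ = g * c ^ i := by
    intro i
    induction i with
    | zero => simp
    | succ i ih =>
      calc a ^ (i + 1) * g * (a ^ (i + 1))⁻¹ = a * (a ^ i * g * (a ^ i)⁻¹) * a⁻¹ := by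
            rw [pow_succ']; group
        _ = (a * g * a⁻¹) * (a * c ^ i * a⁻¹) := by rw [ih]; group
        _ = (g * c) * c ^ i := by
            rw [(hc.pow_right i).eq, mul_inv_cancel_right, hcdef]; group
        _ = g * c ^ (i + 1) := by rw [mul_assoc, ← pow_succ']
  have h := hpow (orderOf a)
  rw [pow_orderOf_eq_one, inv_one, one_mul, mul_one, left_eq_mul] at h
  have h2 := hcop c hcR h
  rw [hcdef, inv_mul_eq_one] at h2
  exact mul_inv_eq_iff_eq_mul.1 h2.symm

/-- An element of order prime to the exponent is trivial once a power kills it. -/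
theorem eq_one_of_pow_eq_one {W : Type*} [Group W] {w : W} {a b : ℕ} (hab : a.Coprime b)
    (ha : w ^ a = 1) (hb : w ^ b = 1) : w = 1 := by
  rw [← orderOf_eq_one_iff]
  exact Nat.eq_one_of_dvd_coprimes hab (orderOf_dvd_of_pow_eq_one ha) (orderOf_dvd_of_pow_eq_one hb)

end Cfsg.Agent.Lib.SolvDegrees.Palfy
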