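import Mathlib
import Cfsg.Agent.Lib.SolvDegrees.PalfyAct

/-!
Characters of a normal subgroup of class two over a character of a central subgroup.
-/

set_option autoImplicit false
set_option linter.unusedSectionVars false

namespace Cfsg.Agent.Lib.SolvDegrees.Palfy

open Subgroup Cfsg
open Cfsg.Agent.Lib
open scoped commutatorElement

variable {G : Type*} [Group G] [Finite G]

/-- A normal subgroup `R` with commutators in a central elementary `r`-subgroup `M` generated by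
them. -/
structure ClassTwoPair (r : ℕ) (M R : Subgroup G) : Prop where
  hp : r.Prime
  hMn : M.Normal
  hRn : R.Normal
  hR : IsPGroup r R
  hi : ¬ r ∣ R.index
  hle : M ≤ R
  hcen : ∀ m ∈ M, ∀ g ∈ R, m * g = g * m
  hcomm : ∀ a ∈ R, ∀ b ∈ R, ⁅a, b⁆ ∈ M
  hgen : M ≤ ⁅R, R⁆
  hexp : ∀ m ∈ M, m ^ r = 1

variable {r : ℕ} {M R : Subgroup G} (hp : ClassTwoPair r M R)

namespace ClassTwoPair

include hp

/-- The commutator form in the first variable. -/
noncomputable def formHom (μ : M →* ℂˣ) (g : R) : R →* ℂˣ :=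
  MonoidHom.mk' (fun z => μ ⟨⁅(z : G), (g : G)⁆, hp.hcomm z z.2 g g.2⟩) fun z z' => by
    rw [← map_mul]
    refine congrArg μ (Subtype.ext ?_)
    show ⁅(z : G) * z', (g : G)⁆ = ⁅(z : G), (g : G)⁆ * ⁅(z' : G), (g : G)⁆
    have hc := hp.hcen _ (hp.hcomm _ z'.2 _ g.2)
    calc ⁅(z : G) * z', (g : G)⁆
        = ((z : G) * ⁅(z' : G), (g : G)⁆) * ((g : G) * (z : G)⁻¹ * (g : G)⁻¹) := by
          simp only [commutatorElement_def]; group
      _ = (⁅(z' : G), (g : G)⁆ * z) * ((g : G) * (z : G)⁻¹ * (g : G)⁻¹) := by rw [hc z z.2]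
      _ = ⁅(z' : G), (g : G)⁆ * ⁅(z : G), (g : G)⁆ := by simp only [commutatorElement_def]; group
      _ = _ := hc _ (hp.hle (hp.hcomm _ z.2 _ g.2))

theorem formHom_apply (μ : M →* ℂˣ) (g z : R) :
    hp.formHom μ g z = μ ⟨⁅(z : G), (g : G)⁆, hp.hcomm z z.2 g g.2⟩ := rfl

theorem formHom_swap (μ : M →* ℂˣ) (g z : R) : hp.formHom μ g z = (hp.formHom μ z g)⁻¹ := by
  rw [formHom_apply, formHom_apply, ← map_inv]
  exact congrArg μ (Subtype.ext (by simp))

/-- The radical of `μ`. -/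
noncomputable def rad (μ : M →* ℂˣ) : Subgroup R := ⨅ g : R, (hp.formHom μ g).ker

theorem mem_rad {μ : M →* ℂˣ} {z : R} : z ∈ hp.rad μ ↔ ∀ g, hp.formHom μ g z = 1 := by
  simp only [rad, mem_iInf, MonoidHom.mem_ker]

theorem le_rad (μ : M →* ℂˣ) : M.subgroupOf R ≤ hp.rad μ := fun z hz => hp.mem_rad.2 fun g => by
  rw [formHom_apply, ← map_one μ]
  exact congrArg μ (Subtype.ext (commutatorElement_eq_one_iff_mul_comm.2 (hp.hcen _ hz _ g.2)))

theorem eq_one_of_rad_eq_top {μ : M →* ℂˣ} (h : hp.rad μ = ⊤) : μ = 1 := by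
  have : ⁅R, R⁆ ≤ μ.ker.map M.subtype := commutator_le.2 fun a ha b hb =>
    ⟨⟨_, hp.hcomm a ha b hb⟩,
      MonoidHom.mem_ker.2 ((hp.mem_rad (μ := μ) (z := ⟨a, ha⟩)).1 (h ▸ mem_top _) ⟨b, hb⟩), rfl⟩
  refine MonoidHom.ext fun m => ?_
  obtain ⟨k, hk, he⟩ := this (hp.hgen m.2)
  have : k = m := Subtype.ext he
  rw [← this, MonoidHom.mem_ker.1 hk, MonoidHom.one_apply]

/-- `θ` lies over `μ`. -/
def Over (μ : M →* ℂˣ) (θ : R → ℂ) : Prop :=
  ∀ m : M, θ ⟨(m : G), hp.hle m.2⟩ = θ 1 * (μ m : ℂ)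

theorem exists_over [Fintype G] (μ : M →* ℂˣ) : ∃ θ : IrrCharacter R, hp.Over μ (θ : R → ℂ) := by
  classical
  haveI := hp.hMn
  haveI := Fintype.ofFinite R
  set N := M.subgroupOf R
  haveI : Fintype N := Fintype.ofFinite N
  let μ' : N →* ℂˣ := μ.comp (subgroupOfEquivOfLe hp.hle).toMonoidHom
  have hθ : IsIrrCharacter N (fun n => (μ' n : ℂ)) := Chars.isIrrCharacter_of_hom μ'
  obtain ⟨m, hm⟩ := Chars.isCharacter_exists_nat_decomp
    (Chars.isCharacter_indFun N (Chars.isCharacter_of_isIrrCharacter hθ))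
  obtain ⟨χ, hχ⟩ : ∃ χ, m χ ≠ 0 := by
    by_contra h
    push Not at h
    have h0 := congrFun hm 1
    simp only [h, Nat.cast_zero, zero_smul, Finset.sum_const_zero, Pi.zero_apply,
      Chars.indFun_one_eq, mul_eq_zero] at h0
    rcases h0 with h0 | h0
    · exact Subgroup.FiniteIndex.index_ne_zero (Nat.cast_eq_zero.mp h0)
    · simp at h0
  have h1 : classInner (Clifford.resFun N (χ : R → ℂ)) (fun n => (μ' n : ℂ)) ≠ 0 := by
    have h := Chars.classInner_sum_smul_irr (fun φ => (m φ : ℂ)) χ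
    rw [← hm, Chars.classInner_indFun_left N _ _ (Chars.irr_isClassFunction χ)] at h
    intro h0
    rw [← Chars.conj_classInner, show (fun x : N => (χ : R → ℂ) x) = Clifford.resFun N (χ : R → ℂ)
      from rfl, h0, map_zero, eq_comm, Nat.cast_eq_zero] at h
    exact hχ h
  have hinv : ∀ g : R, Clifford.conjFun g (fun n : N => (μ' n : ℂ)) = fun n => (μ' n : ℂ) := by
    intro g
    funext n
    show (μ' ⟨g * n * g⁻¹, _⟩ : ℂ) = μ' n
    refine congrArg (fun m => (μ' m : ℂ)) (Subtype.ext (Subtype.ext ?_))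
    show (g : G) * ((n : R) : G) * (g : G)⁻¹ = ((n : R) : G)
    have hc : ((n : R) : G) * (g : G) = (g : G) * ((n : R) : G) := hp.hcen _ n.2 _ g.2
    rw [← hc, mul_inv_cancel_right]
  have hres := Clifford.resFun_eq_smul_of_invariant χ.2 hθ h1 hinv
  refine ⟨χ, fun x => ?_⟩
  have e1 := congrFun hres 1
  have e2 := congrFun hres ⟨⟨(x : G), hp.hle x.2⟩, x.2⟩
  simp only [Clifford.resFun_apply, Pi.smul_apply, smul_eq_mul, OneMemClass.coe_one, map_one,
    Units.val_one, mul_one] at e1 e2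
  rw [e2, e1]
  rfl

/-- A character over `μ` is linear on the radical and vanishes outside. -/
theorem over_values [Fintype G] {μ : M →* ℂˣ} {θ : R → ℂ} (hθ : IsIrrCharacter R θ)
    (ho : hp.Over μ θ) :
    ∃ ψ : hp.rad μ →* ℂˣ, (∀ z : hp.rad μ, θ z = θ 1 * (ψ z : ℂ)) ∧
      (∀ y, y ∉ hp.rad μ → θ y = 0) ∧
      ∀ m : M, ψ ⟨⟨(m : G), hp.hle m.2⟩, hp.le_rad μ m.2⟩ = μ m := by
  classical
  have hne : θ 1 ≠ 0 := Chars.irr_apply_one_ne_zero ⟨θ, hθ⟩
  obtain ⟨k, ρ, hρ, rfl⟩ := hθ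
  haveI := hρ
  have hscal : ∀ z : R, (∀ g : R, ρ z * ρ g = ρ g * ρ z) → ∃ c : ℂ, ρ z = c • 1 := fun z h =>
    Clifford.schur_scalar ρ (ρ z) h
  have hM : ∀ m : M, ρ ⟨(m : G), hp.hle m.2⟩ = (μ m : ℂ) • 1 := by
    intro m
    obtain ⟨c, hc⟩ := hscal ⟨(m : G), hp.hle m.2⟩ fun g => by
      rw [← map_mul, ← map_mul]
      exact congrArg ρ (Subtype.ext (hp.hcen _ m.2 _ g.2))
    have h := ho m
    simp only [Representation.character, hc, map_smul, smul_eq_mul, map_one] at h hne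
    rw [hc, mul_right_cancel₀ hne (h.trans (mul_comm _ _))]
  have hcom : ∀ z g : R, ρ ⁅z, g⁆ = (hp.formHom μ g z : ℂ) • 1 := fun z g =>
    hM ⟨⁅(z : G), (g : G)⁆, hp.hcomm z z.2 g g.2⟩
  have hz : ∀ z : hp.rad μ, ∃ c : ℂ, ρ z = c • 1 := fun z => hscal z fun g => by
    have h := hcom z g
    rw [hp.mem_rad.1 z.2 g, Units.val_one, one_smul] at h
    calc ρ z * ρ g = ρ ⁅(z : R), g⁆ * (ρ g * ρ z) := by
          rw [← map_mul, ← map_mul, ← map_mul, commutatorElement_def]; congr 1; group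
      _ = ρ g * ρ z := by rw [h, one_mul]
  choose c hc using hz
  have htr : ∀ z : hp.rad μ, ρ.character z = ρ.character 1 * c z := fun z => by
    simp only [Representation.character, hc, map_smul, smul_eq_mul, map_one, mul_comm]
  have hcm : ∀ z w, c (z * w) = c z * c w := by
    intro z w
    have h1 : ρ ((z * w : hp.rad μ) : R) = ρ (z : R) * ρ (w : R) := map_mul ρ _ _
    rw [hc, hc, hc, smul_mul_smul_comm, mul_one] at h1
    have h2 := congrArg (fun f => LinearMap.trace ℂ _ f) h1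
    simp only [map_smul, smul_eq_mul] at h2
    refine mul_right_cancel₀ (b := LinearMap.trace ℂ (Fin k → ℂ) 1) ?_ h2
    simpa only [Representation.character, map_one] using hne
  have hc1 : c 1 = 1 := by
    have h := htr 1
    rw [OneMemClass.coe_one] at h
    exact (mul_eq_left₀ hne).1 h.symm
  let c' : hp.rad μ →* ℂ := { toFun := c, map_one' := hc1, map_mul' := hcm }
  refine ⟨c'.toHomUnits, fun z => htr z, fun y hy => ?_, fun m => Units.ext ?_⟩
  · rw [hp.mem_rad] at hy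
    push Not at hy
    obtain ⟨g, hg⟩ := hy
    have h1 : ρ.character (y * g * y⁻¹) = ρ.character g := ρ.char_conj g y
    have hg' : hp.formHom μ y g ≠ 1 := by
      rw [hp.formHom_swap]; exact inv_ne_one.2 hg
    -- conjugation multiplies the value by a nontrivial scalar
    have h2 : ρ.character (g * y * g⁻¹) = ρ.character y := ρ.char_conj y g
    have h3 : ρ (g * y * g⁻¹) = (hp.formHom μ y g : ℂ) • ρ y := by
      rw [show g * y * g⁻¹ = ⁅g, y⁆ * y by rw [commutatorElement_def]; group, map_mul, hcom,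
        smul_mul_assoc, one_mul]
    simp only [Representation.character, h3, map_smul, smul_eq_mul] at h2 ⊢
    by_contra h0
    exact hg' (Units.ext ((mul_eq_right₀ h0).1 h2))
  · show c _ = _
    refine mul_left_cancel₀ hne ?_
    rw [← ho m, ← htr]

theorem conj_mem_rad {μ : M →* ℂˣ} {g : G}
    (hg : haveI := hp.hMn; charAct M g μ = μ) {z : R} (hz : z ∈ hp.rad μ) :
    (⟨g * z * g⁻¹, hp.hRn.conj_mem _ z.2 g⟩ : R) ∈ hp.rad μ := by
  haveI := hp.hMn
  rw [mem_rad]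
  intro y
  have h := hp.mem_rad.1 hz ⟨g⁻¹ * y * g, hp.hRn.conj_mem' _ y.2 g⟩
  rw [formHom_apply] at h ⊢
  conv_lhs => rw [← hg, charAct_apply]
  rw [← h]
  refine congrArg μ (Subtype.ext ?_)
  simp only [commutatorElement_def]
  group

/-- Some character over `μ` is fixed by the whole stabiliser of `μ`. -/
theorem exists_invariant [Fintype G] (μ : M →* ℂˣ) :
    ∃ θ : IrrCharacter R, hp.Over μ (θ : R → ℂ) ∧
      (haveI := hp.hMn; haveI := hp.hRn;
        ∀ g, charAct M g μ = μ → g ∈ cst R (θ : R → ℂ)) := by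
  classical
  haveI := hp.hMn
  haveI := hp.hRn
  haveI := Fact.mk hp.hp
  obtain ⟨θ₀, h₀⟩ := hp.exists_over μ
  obtain ⟨ψ, hψ, hψ0, hψM⟩ := hp.over_values θ₀.2 h₀
  set J : Subgroup G := cst M (fun m => (μ m : ℂ))
  have hJ : ∀ g, g ∈ J ↔ charAct M g μ = μ := fun g => (charAct_eq_self_iff M g μ).symm
  set R' := R.subgroupOf J
  haveI : Fintype (J ⧸ R') := Fintype.ofFinite _
  -- conjugates of `ψ`
  let cj : J → (hp.rad μ →* ℂˣ) := fun g =>
    MonoidHom.mk' (fun z => ψ ⟨_, hp.conj_mem_rad ((hJ g).1 g.2) z.2⟩) fun z w => by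
      rw [← map_mul]
      exact congrArg ψ (Subtype.ext (Subtype.ext (by simp [mul_assoc])))
  have hcj_mul : ∀ (g h : J) (z : hp.rad μ),
      cj (g * h) z = cj g ⟨_, hp.conj_mem_rad ((hJ h).1 h.2) z.2⟩ := fun g h z =>
    congrArg ψ (Subtype.ext (Subtype.ext (by simp [mul_assoc])))
  have hcls : ∀ (y : R) (z : hp.rad μ), ∀ hyz : y * (z : R) * y⁻¹ ∈ hp.rad μ,
      ψ ⟨y * (z : R) * y⁻¹, hyz⟩ = ψ z := by
    intro y z hyz
    refine Units.ext (mul_left_cancel₀ (Chars.irr_apply_one_ne_zero θ₀) ?_)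
    rw [← hψ, ← hψ]
    exact Chars.irr_isClassFunction θ₀ (z : R) y
  have hcjR : ∀ (g : J) (k : R'), cj (g * (k : J)) = cj g := by
    intro g k
    refine MonoidHom.ext fun z => ?_
    let y : R := ⟨(g : G) * ((k : J) : G) * (g : G)⁻¹, hp.hRn.conj_mem _ k.2 g⟩
    have := hcls y ⟨_, hp.conj_mem_rad ((hJ g).1 g.2) z.2⟩
    show ψ _ = ψ _
    rw [← this (by
      have := hp.conj_mem_rad ((hJ (g * (k : J))).1 (g * (k : J)).2) z.2
      convert this using 1
      refine Subtype.ext ?_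
      simp [y, mul_assoc])]
    exact congrArg ψ (Subtype.ext (Subtype.ext (by simp [y, mul_assoc])))
  -- the average
  let P : hp.rad μ →* ℂˣ := ∏ c : J ⧸ R', cj c.out
  have hcop : Nat.Coprime (Fintype.card (J ⧸ R')) r := by
    refine (hp.hp.coprime_iff_not_dvd.2 fun h => hp.hi ?_).symm
    rw [Fintype.card_eq_nat_card] at h
    exact h.trans (relIndex_dvd_index_of_le (show R ≤ J from fun g hg => (hJ g).2 (MonoidHom.ext fun m => by
      rw [charAct_apply]
      exact congrArg μ (Subtype.ext (by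
        show g⁻¹ * (m : G) * g = m
        rw [mul_assoc, hp.hcen _ m.2 g hg, inv_mul_cancel_left])))))
  obtain ⟨e, -, he⟩ := Nat.exists_mul_mod_eq_one_of_coprime hcop hp.hp.one_lt
  let L : hp.rad μ →* ℂˣ := P ^ e
  have hLM : ∀ m : M, L ⟨⟨(m : G), hp.hle m.2⟩, hp.le_rad μ m.2⟩ = μ m := by
    intro m
    have h1 : ∀ g : J, cj g ⟨⟨(m : G), hp.hle m.2⟩, hp.le_rad μ m.2⟩ = μ m := by
      intro g
      have h := hψM ⟨(g : G) * m * (g : G)⁻¹, hp.hMn.conj_mem _ m.2 g⟩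
      have h2 := (hJ g⁻¹).1 (g⁻¹).2
      have h3 := DFunLike.congr_fun h2 m
      rw [charAct_apply] at h3
      show ψ _ = _
      refine h.trans (Eq.trans (congrArg μ (Subtype.ext ?_)) h3)
      simp
    simp only [L, P, MonoidHom.pow_apply, MonoidHom.finsetProd_apply, h1, Finset.prod_const,
      Finset.card_univ, ← pow_mul]
    have hm : μ m ^ r = 1 := by
      rw [← map_pow, ← map_one μ]
      exact congrArg μ (Subtype.ext (hp.hexp _ m.2))
    rw [pow_eq_pow_mod _ hm, he, pow_one]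
  have hLinv : ∀ g : J, ∀ z : hp.rad μ, L ⟨_, hp.conj_mem_rad ((hJ g).1 g.2) z.2⟩ = L z := by
    intro g z
    simp only [L, MonoidHom.pow_apply, P, MonoidHom.finsetProd_apply, ← hcj_mul]
    congr 1
    refine Fintype.prod_equiv (Equiv.mulRight (QuotientGroup.mk g : J ⧸ R')) _ _ fun c => ?_
    obtain ⟨k, hk⟩ := QuotientGroup.mk_out_eq_mul R' (c.out * g)
    rw [show (Equiv.mulRight (QuotientGroup.mk g : J ⧸ R')) c = QuotientGroup.mk (c.out * g) by
      simp [QuotientGroup.mk_mul], hk, hcjR]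
  -- the twist
  haveI : (M.subgroupOf R).Normal := inferInstance
  let δ : hp.rad μ →* ℂˣ := L / ψ
  letI : CommGroup (R ⧸ M.subgroupOf R) :=
    { (inferInstance : Group (R ⧸ M.subgroupOf R)) with
      mul_comm := fun a b => by
        obtain ⟨a, rfl⟩ := QuotientGroup.mk'_surjective _ a
        obtain ⟨b, rfl⟩ := QuotientGroup.mk'_surjective _ b
        rw [← commutatorElement_eq_one_iff_mul_comm, ← map_commutatorElement,
          QuotientGroup.mk'_apply, QuotientGroup.eq_one_iff]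
        exact hp.hcomm a a.2 b b.2 }
  set πM := QuotientGroup.mk' (M.subgroupOf R)
  let sm := πM.subgroupMap (hp.rad μ)
  have hle : sm.ker ≤ δ.ker := by
    intro z hz
    have hz' : (z : R) ∈ M.subgroupOf R :=
      (QuotientGroup.eq_one_iff _).1 (congrArg Subtype.val (MonoidHom.mem_ker.1 hz))
    rw [MonoidHom.mem_ker]
    show L z / ψ z = 1
    have h1 : L z = μ ⟨((z : R) : G), hz'⟩ := hLM ⟨((z : R) : G), hz'⟩
    have h2 : ψ z = μ ⟨((z : R) : G), hz'⟩ := hψM ⟨((z : R) : G), hz'⟩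
    rw [h1, h2, div_self']
  let Φ := sm.liftOfSurjective (MonoidHom.subgroupMap_surjective _ _) ⟨δ, hle⟩
  obtain ⟨Ψ, hΨ⟩ := MonoidHom.domRestrict_surjective ℂ ((hp.rad μ).map πM) Φ
  let ν : R →* ℂˣ := Ψ.comp πM
  have hν : ∀ z : hp.rad μ, ν z = L z / ψ z := by
    intro z
    have h1 := DFunLike.congr_fun hΨ (sm z)
    refine (show ν z = Φ (sm z) from h1).trans ?_
    exact MonoidHom.liftOfRightInverse_comp_apply sm _
      (Function.rightInverse_surjInv (MonoidHom.subgroupMap_surjective _ _)) ⟨δ, hle⟩ z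
  refine ⟨⟨_, Chars.isIrrCharacter_hom_mul ν θ₀.2⟩, ?_, ?_⟩
  · intro m
    show (ν ⟨(m : G), hp.hle m.2⟩ : ℂ) * _ = (ν 1 : ℂ) * _ * _
    rw [h₀ m, hν ⟨_, hp.le_rad μ m.2⟩, hLM, hψM, div_self', map_one]
    simp
  · intro g hg
    have hgJ := (hJ g).2 hg
    refine mem_cst.2 (funext fun y => ?_)
    show (ν ⟨g * y * g⁻¹, _⟩ : ℂ) * (θ₀ : R → ℂ) ⟨g * y * g⁻¹, _⟩ = (ν y : ℂ) * (θ₀ : R → ℂ) y
    by_cases hy : y ∈ hp.rad μ
    · have h2 := hp.conj_mem_rad hg hy
      rw [hν ⟨_, h2⟩, hν ⟨y, hy⟩, hψ ⟨_, h2⟩, hψ ⟨y, hy⟩, Units.val_div_eq_div_val,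
        Units.val_div_eq_div_val, hLinv ⟨g, hgJ⟩ ⟨y, hy⟩]
      field_simp
    · have h2 : (⟨g * y * g⁻¹, hp.hRn.conj_mem _ y.2 g⟩ : R) ∉ hp.rad μ := by
        intro h2
        apply hy
        have := hp.conj_mem_rad ((hJ g⁻¹).1 (J.inv_mem hgJ)) h2
        convert this using 1
        exact Subtype.ext (by simp [mul_assoc])
      rw [hψ0 _ h2, hψ0 _ hy, mul_zero, mul_zero]

end ClassTwoPair

end Cfsg.Agent.Lib.SolvDegrees.Palfy
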