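import Mathlib
import Cfsg.Agent.Lib.SolvDegrees.PalfyTheta

/-!
Three primes: the case of a nonabelian normal Sylow subgroup.
-/

set_option autoImplicit false
set_option linter.unusedSectionVars false

namespace Cfsg.Agent.Lib.SolvDegrees.Palfy

open Subgroup Cfsg
open Cfsg.Agent.Lib
open scoped Pointwise commutatorElement

section Partition

variable {ℓ : ℕ} [Fact ℓ.Prime] {V : Type*} [AddCommGroup V] [Module (ZMod ℓ) V] [Finite V]
  {X : Type*} [Group X] [Finite X] {ρ : X →* (V ≃ₗ[ZMod ℓ] V)}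

theorem good_partition {s : ℕ} [Fact s.Prime] (h : ∀ v : V, v ≠ 0 → Good ρ s v) (Q : Sylow s X) :
    (normalizer ((Q : Subgroup X) : Set X)).index *
      (Nat.card (fixSp ρ (Q : Subgroup X)) - 1) = Nat.card V - 1 := by
  refine card_partition ρ _ (fun v hv => ?_) fun v hv a b ha hb => ?_
  · obtain ⟨P', hP', hi, -, hfix, -⟩ := h v hv
    obtain ⟨g, hg⟩ := MulAction.exists_smul_eq X Q (hP'.toSylow hi)
    refine ⟨g, (fixes_conj_iff ρ).1 fun k hk => hfix k ?_⟩
    have : ((g • Q : Sylow s X) : Subgroup X) = P' := by rw [hg]; rfl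
    rw [Sylow.coe_subgroup_smul] at this
    rwa [← this]
  · obtain ⟨P', hP', hi, -, hfix, hn⟩ := h v hv
    have key : ∀ c, ρ c⁻¹ v ∈ fixSp ρ (Q : Subgroup X) → MulAut.conj c • (Q : Subgroup X) = P' := by
      intro c hc
      refine eq_of_le_of_card_ge
        (eq_of_good hP' hi hn (c • Q).isPGroup' ((fixes_conj_iff ρ).2 hc)) (le_of_eq ?_)
      exact Sylow.card_eq_multiplicity (hP'.toSylow hi) |>.trans (Sylow.card_eq_multiplicity (c • Q)).symm
    rw [key a ha, key b hb]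

end Partition

/-- The number of blocks determines both exponents. -/
theorem exponent_eq {n r c m c' m' : ℕ} (hr : 2 ≤ r) (hn : ¬ r ∣ n) (hc : c < m) (hc' : c' < m')
    (h : n * (r ^ c - 1) = r ^ m - 1) (h' : n * (r ^ c' - 1) = r ^ m' - 1) : m = m' := by
  have e : ∀ a b, n * (r ^ a - 1) = r ^ b - 1 → n * r ^ a + 1 = r ^ b + n := by
    intro a b hab
    have h1 : 1 ≤ r ^ a := Nat.one_le_pow _ _ (by omega)
    have h2 : 1 ≤ r ^ b := Nat.one_le_pow _ _ (by omega)
    rw [Nat.mul_sub, mul_one] at hab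
    have h3 : n ≤ n * r ^ a := Nat.le_mul_of_pos_right _ (by omega)
    omega
  have key : ∀ a b a' b', a < b → a' < b' → n * r ^ a + 1 = r ^ b + n →
      n * r ^ a' + 1 = r ^ b' + n → ¬ a < a' := by
    intro a b a' b' hab hab' h1 h2 hlt
    apply hn
    obtain ⟨i, hi, rfl⟩ : ∃ i, 0 < i ∧ b = a + i := ⟨b - a, by omega, by omega⟩
    obtain ⟨j, hj, rfl⟩ : ∃ j, 0 < j ∧ a' = a + j := ⟨a' - a, by omega, by omega⟩
    obtain ⟨k, hk, rfl⟩ : ∃ k, 0 < k ∧ b' = a + k := ⟨b' - a, by omega, by omega⟩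
    have h3 : r ^ a * n + r ^ a * r ^ k = r ^ a * (r ^ i + n * r ^ j) := by
      rw [← pow_add, mul_add, ← mul_assoc, mul_comm (r ^ a) n, mul_assoc, ← pow_add, ← pow_add]
      omega
    rw [← mul_add] at h3
    have h4 := Nat.eq_of_mul_eq_mul_left (pow_pos (by omega) a) h3
    refine (Nat.dvd_add_left (dvd_pow_self r hk.ne')).1 ?_
    rw [h4]
    exact dvd_add (dvd_pow_self r hi.ne') (dvd_mul_of_dvd_right (dvd_pow_self r hj.ne') n)
  have h1 := e c m h
  have h2 := e c' m' h'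
  have hcc : c = c' := by
    rcases lt_trichotomy c c' with hl | hl | hl
    · exact absurd hl (key c m c' m' hc hc' h1 h2)
    · exact hl
    · exact absurd hl (key c' m' c m hc' hc h2 h1)
  subst hcc
  refine Nat.pow_right_injective hr (?_ : r ^ m = r ^ m')
  omega

namespace ClassTwoPair

variable {G : Type*} [Group G] [Finite G] {r : ℕ} {M R : Subgroup G} (hp : ClassTwoPair r M R)

/-- A good Sylow `s`-subgroup of `G ⧸ R` inside the image of the stabiliser of `θ`. -/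
theorem good_theta [Fintype G] [Group.IsSolvable G] [R.Normal] (hp : ClassTwoPair r M R)
    {θ : R → ℂ} (hθ : IsIrrCharacter R θ) {s t : ℕ} (hs : s.Prime) (ht : t.Prime) (hst : s ≠ t)
    (hno : ∀ n, HasDeg G n → ¬ s * t ∣ n) {d : ℕ} (hd : θ 1 = d) (htd : t ∣ (cst R θ).index * d) :
    ∃ P : Subgroup (G ⧸ R), IsPGroup s P ∧ ¬ s ∣ P.index ∧ (∀ a ∈ P, ∀ b ∈ P, a * b = b * a) ∧
      P ≤ (cst R θ).map (QuotientGroup.mk' R) ∧
      ∀ x ∈ (cst R θ).map (QuotientGroup.mk' R), ∀ k ∈ P, x * k * x⁻¹ ∈ P := by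
  haveI := Fact.mk hp.hp
  set N' := R.subgroupOf (cst R θ)
  have hθ' : IsIrrCharacter N' (fun n => θ (subgroupOfEquivOfLe (le_cst hθ) n)) :=
    Chars.isIrrCharacter_comp_mulEquiv (subgroupOfEquivOfLe (le_cst hθ)) hθ
  have hcop : Nat.Coprime N'.index (Nat.card N') := by
    rw [Nat.card_congr (subgroupOfEquivOfLe (le_cst hθ)).toEquiv]
    obtain ⟨k, hk⟩ := IsPGroup.iff_card.1 hp.hR
    rw [hk]
    refine ((hp.hp.coprime_iff_not_dvd.2 fun h => hp.hi (h.trans ?_)).symm).pow_right k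
    exact relIndex_dvd_index_of_le (le_cst hθ)
  obtain ⟨χ₀, hχ₀, hext⟩ := OddChar.exists_extension_of_coprime hθ' (fun g => by
    funext n
    exact congrFun (mem_cst.1 g.2) (subgroupOfEquivOfLe (le_cst hθ) n)) hcop
  exact good_of_ext R hθ hd χ₀ hχ₀ (fun n => hext ⟨⟨(n : G), le_cst hθ n.2⟩, n.2⟩) hs ht hst hno htd
    (QuotientGroup.mk' R) (QuotientGroup.mk'_surjective R) (QuotientGroup.ker_mk' R)

/-- A character over a nontrivial `μ` has degree divisible by `r`. -/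
theorem dvd_degree [Fintype G] (hp : ClassTwoPair r M R) {μ : M →* ℂˣ} (hμ : μ ≠ 1)
    {θ : R → ℂ} (hθ : IsIrrCharacter R θ) (ho : hp.Over μ θ) : ∃ d : ℕ, θ 1 = d ∧ r ∣ d := by
  haveI := Fact.mk hp.hp
  obtain ⟨d, -, hd, hdvd⟩ := Chars.irr_degree_dvd_card ⟨θ, hθ⟩
  obtain ⟨k, hk⟩ := IsPGroup.iff_card.1 hp.hR
  obtain ⟨i, -, rfl⟩ := (Nat.dvd_prime_pow hp.hp).1 (hk ▸ hdvd)
  have hd : θ 1 = ((r ^ i : ℕ) : ℂ) := hd
  refine ⟨_, hd, ?_⟩
  rcases Nat.eq_zero_or_pos i with rfl | hi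
  · exfalso
    apply hμ
    apply hp.eq_one_of_rad_eq_top
    obtain ⟨f, hf⟩ := Chars.exists_hom_of_degree_one (Chars.isCharacter_of_isIrrCharacter hθ)
      (by rw [hd]; simp)
    refine eq_top_iff.2 fun z _ => hp.mem_rad.2 fun g => Units.ext ?_
    have h := ho ⟨⁅(z : G), (g : G)⁆, hp.hcomm z z.2 g g.2⟩
    rw [hd, pow_zero, Nat.cast_one, one_mul, hf] at h
    rw [hp.formHom_apply, ← h, Units.val_one]
    show (f ⁅z, g⁆ : ℂ) = 1
    rw [map_commutatorElement, commutatorElement_eq_one_iff_mul_comm.2 (mul_comm _ _), Units.val_one]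
  · exact dvd_pow_self r hi.ne'

/-- Goodness for the action on characters of the centre, from an invariant character. -/
theorem good_mu [Fintype G] [Group.IsSolvable G] [R.Normal] [M.Normal] (hp : ClassTwoPair r M R)
    {μ : M →* ℂˣ} (hμ : μ ≠ 1) {s : ℕ} (hs : s.Prime) (hsr : s ≠ r)
    (hno : ∀ n, HasDeg G n → ¬ s * r ∣ n) :
    ∃ P : Subgroup (G ⧸ R), IsPGroup s P ∧ ¬ s ∣ P.index ∧ (∀ a ∈ P, ∀ b ∈ P, a * b = b * a) ∧
      (∀ g : G, (g : G ⧸ R) ∈ P → charAct M g μ = μ) ∧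
      ∀ g : G, charAct M g μ = μ → ∀ k ∈ P, (g : G ⧸ R) * k * (g : G ⧸ R)⁻¹ ∈ P := by
  obtain ⟨θ, ho, hinv⟩ := hp.exists_invariant μ
  obtain ⟨d, hd, hrd⟩ := hp.dvd_degree hμ θ.2 ho
  obtain ⟨P, hP, hi, hc, hle, hn⟩ := hp.good_theta θ.2 hs hp.hp hsr hno hd (hrd.mul_left _)
  refine ⟨P, hP, hi, hc, fun g hg => ?_, fun g hg k hk => hn _ ⟨g, hinv g hg, rfl⟩ k hk⟩
  obtain ⟨t, ht, hte⟩ := hle hg
  have htg : t⁻¹ * g ∈ R := QuotientGroup.eq.1 hte
  have hg' : g ∈ cst R (θ : R → ℂ) := by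
    have := mul_mem ht (le_cst θ.2 htg)
    rwa [mul_inv_cancel_left] at this
  rw [charAct_eq_self_iff]
  refine mem_cst.2 (funext fun m => ?_)
  show (μ ⟨g * m * g⁻¹, _⟩ : ℂ) = μ m
  have h1 := congrFun (mem_cst.1 hg') ⟨(m : G), hp.hle m.2⟩
  change (θ : R → ℂ) ⟨g * m * g⁻¹, _⟩ = _ at h1
  rw [ho m, ho ⟨g * m * g⁻¹, hp.hMn.conj_mem _ m.2 g⟩] at h1
  exact mul_left_cancel₀ (Chars.irr_apply_one_ne_zero θ) h1

/-- No three bad primes when one of them has a nonabelian normal Sylow subgroup. -/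
theorem false_of_bad [Fintype G] [Group.IsSolvable G] (hp : ClassTwoPair r M R) {π : Finset ℕ}
    (hB : Bad G π) (hr : r ∈ π) : False := by
  classical
  haveI := hp.hRn
  haveI := hp.hMn
  haveI := Fact.mk hp.hp
  obtain ⟨p₀, q₀, hp₀, hq₀, hpq₀, hp₀r, hq₀r⟩ := hB.two_others hr
  haveI := finite_hom M
  haveI := finite_hom R
  set π' := QuotientGroup.mk' R
  -- the action on characters of the centre
  have hRM : ∀ g ∈ R, charAct M g = 1 := fun g hg => MulEquiv.ext fun f => MonoidHom.ext fun m => by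
    rw [charAct_apply]
    exact congrArg f (Subtype.ext (by
      show g⁻¹ * (m : G) * g = m
      rw [mul_assoc, hp.hcen _ m.2 g hg, inv_mul_cancel_left]))
  let φM : G ⧸ R →* MulAut (M →* ℂˣ) := QuotientGroup.lift R (charAct M) (fun g hg => hRM g hg)
  have hexpM : ∀ w : Additive (M →* ℂˣ), r • w = 0 := fun w => by
    show Additive.ofMul ((Additive.toMul w) ^ r) = Additive.ofMul 1
    congr 1
    refine MonoidHom.ext fun m => ?_
    rw [MonoidHom.pow_apply, ← map_pow, MonoidHom.one_apply, ← map_one (Additive.toMul w)]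
    exact congrArg _ (Subtype.ext (hp.hexp _ m.2))
  letI : Module (ZMod r) (Additive (M →* ℂˣ)) :=
    AddCommGroup.zmodModule (G := Additive (M →* ℂˣ)) (n := r) hexpM
  let ρM : G ⧸ R →* (Additive (M →* ℂˣ) ≃ₗ[ZMod r] Additive (M →* ℂˣ)) :=
    linRep (W := M →* ℂˣ) r φM
  have goodM : ∀ s ∈ π, s ≠ r → ∀ v, v ≠ 0 → Good ρM s v := by
    intro s hs hsr v hv
    obtain ⟨P, hP, hi, hc, hfix, hn⟩ := hp.good_mu (μ := Additive.toMul v)
      (fun h => hv (Additive.toMul.injective h)) (hB.prime s hs) hsr (hB.pair s hs r hr hsr)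
    refine ⟨P, hP, hi, hc, fun k hk => ?_, fun x hx k hk => ?_⟩
    · obtain ⟨g, rfl⟩ := QuotientGroup.mk'_surjective R k
      show Additive.ofMul (φM (π' g) (Additive.toMul v)) = v
      rw [show φM (π' g) = charAct M g from rfl, hfix g hk]; rfl
    · obtain ⟨g, rfl⟩ := QuotientGroup.mk'_surjective R x
      refine hn g ?_ k hk
      exact congrArg Additive.toMul hx
  haveI : Nontrivial (Additive (M →* ℂˣ)) := by
    obtain ⟨m, hm⟩ : ∃ m : M, m ≠ 1 := by
      by_contra! h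
      obtain ⟨n, hn, hrn⟩ := hB.ex r hr
      obtain ⟨R₀⟩ : Nonempty (Sylow r G) := inferInstance
      have hR₀ : (hp.hR.toSylow hp.hi : Subgroup G) = R := rfl
      refine no_deg_of_sylow (hp.hR.toSylow hp.hi) hp.hRn (fun a ha b hb => ?_) hn hrn
      exact commutatorElement_eq_one_iff_mul_comm.1
        (congrArg Subtype.val (h ⟨_, hp.hcomm a ha b hb⟩))
    letI : CommGroup M :=
      { (inferInstance : Group M) with
        mul_comm := fun a b => Subtype.ext (hp.hcen _ a.2 _ (hp.hle b.2)) }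
    obtain ⟨f, hf⟩ := CommGroup.exists_apply_ne_one_of_hasEnoughRootsOfUnity M ℂ hm
    refine ⟨⟨Additive.ofMul f, 0, fun e => hf ?_⟩⟩
    have : f = 1 := Additive.ofMul.injective e
    rw [this]; rfl
  -- if both primes move the centre, the core theorem applies
  have hsplit : ∃ p q, p ∈ π ∧ q ∈ π ∧ p ≠ q ∧ p ≠ r ∧ q ≠ r ∧ ¬ p ∣ Nat.card ρM.range := by
    by_contra! hc
    haveI := Fact.mk (hB.prime _ hp₀)
    haveI : Finite ρM.range := Finite.of_surjective _ ρM.rangeRestrict_surjective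
    have S : Setup (ρM.range.subtype) p₀ q₀ :=
      ⟨hB.prime _ hp₀, hB.prime _ hq₀, hpq₀, Subtype.val_injective,
        hc p₀ q₀ hp₀ hq₀ hpq₀ hp₀r hq₀r, hc q₀ p₀ hq₀ hp₀ hpq₀.symm hq₀r hp₀r, inferInstance,
        fun v hv => good_map ρM.rangeRestrict ρM.rangeRestrict_surjective _ (goodM _ hp₀ hp₀r v hv),
        fun v hv => good_map ρM.rangeRestrict ρM.rangeRestrict_surjective _ (goodM _ hq₀ hq₀r v hv)⟩
    haveI : Group.IsSolvable ρM.range :=
      solvable_of_surjective (f := ρM.rangeRestrict.comp π')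
        (ρM.rangeRestrict_surjective.comp (QuotientGroup.mk'_surjective R))
    letI := Fintype.ofFinite ρM.range
    obtain ⟨n, hn, hdn⟩ := exists_deg S
    exact hB.pair p₀ hp₀ q₀ hq₀ hpq₀ n (hasDeg_of_surjective (ρM.rangeRestrict.comp π')
      (ρM.rangeRestrict_surjective.comp (QuotientGroup.mk'_surjective R)) hn) hdn
  obtain ⟨p, q, hpπ, hqπ, hpq, hpr, hqr, hpdvd⟩ := hsplit
  haveI := Fact.mk (hB.prime p hpπ)
  haveI := Fact.mk (hB.prime q hqπ)
  -- Sylow subgroups for a prime not acting on the centre fix every character over it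
  have trivialCase : ∀ s ∈ π, s ≠ r → ¬ s ∣ Nat.card ρM.range →
      ∀ P : Sylow s G, ((P : Subgroup G) ⊔ R).Normal ∧
        ∀ a ∈ P, ∀ μ : M →* ℂˣ, charAct M a μ = μ ∧ (μ ≠ 1 → ∀ θ : IrrCharacter R,
          hp.Over μ (θ : R → ℂ) → a ∈ cst R (θ : R → ℂ)) := by
    intro s hs hsr hsd P
    haveI := Fact.mk (hB.prime s hs)
    have hker : ∀ P' : Subgroup (G ⧸ R), IsPGroup s P' → P' ≤ ρM.ker := by
      intro P' hP' k hk
      rw [MonoidHom.mem_ker]
      obtain ⟨i, hi⟩ := hP' ⟨k, hk⟩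
      have h1 : (ρM.rangeRestrict k) ^ s ^ i = 1 := by
        rw [← map_pow, show k ^ s ^ i = 1 from congrArg Subtype.val hi, map_one]
      exact congrArg Subtype.val (eq_one_of_pow_eq_one
        (((hB.prime s hs).coprime_iff_not_dvd.2 hsd).pow_left i) h1 pow_card_eq_one')
    obtain ⟨v, hv⟩ := exists_ne (0 : Additive (M →* ℂˣ))
    -- the image of `P` is normal
    have hnormal : ∀ μ : M →* ℂˣ, μ ≠ 1 → ∀ P' : Subgroup (G ⧸ R), IsPGroup s P' → ¬ s ∣ P'.index →
        (∀ g : G, charAct M g μ = μ → ∀ k ∈ P', (g : G ⧸ R) * k * (g : G ⧸ R)⁻¹ ∈ P') →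
        ∀ Q : Subgroup (G ⧸ R), IsPGroup s Q → Q ≤ P' := by
      intro μ hμ P' hP' hi hn Q hQ
      have : Nonempty (Additive (M →* ℂˣ)) := ⟨v⟩
      refine eq_of_good (ρ := ρM) (v := Additive.ofMul μ) hP' hi (fun x hx k hk => ?_) hQ
        (fun k hk => ?_)
      · obtain ⟨g, rfl⟩ := QuotientGroup.mk'_surjective R x
        exact hn g (congrArg Additive.toMul hx) k hk
      · rw [MonoidHom.mem_ker.1 (hker Q hQ hk)]; rfl
    set P' := P.mapSurjective (QuotientGroup.mk'_surjective R)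
    have hPc : (P' : Subgroup (G ⧸ R)) = (P : Subgroup G).map π' := rfl
    refine ⟨?_, fun a ha μ => ⟨?_, fun hμ θ hθ => ?_⟩⟩
    · obtain ⟨W, hW, hWi, -, -, hWn⟩ := hp.good_mu (μ := Additive.toMul v)
        (fun h => hv (Additive.toMul.injective h)) (hB.prime s hs) hsr (hB.pair s hs r hr hsr)
      have heq : ∀ Q : Sylow s (G ⧸ R), (Q : Subgroup (G ⧸ R)) = W := fun Q =>
        eq_of_le_of_card_ge (hnormal _ (fun h => hv (Additive.toMul.injective h)) W hW hWi hWn Q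
          Q.isPGroup') ((Sylow.card_eq_multiplicity (hW.toSylow hWi)).trans
            (Sylow.card_eq_multiplicity Q).symm).le
      have hn' : (P' : Subgroup (G ⧸ R)).Normal := ⟨fun k hk x => by
        have h1 := heq (x • P')
        rw [Sylow.coe_subgroup_smul, ← heq P'] at h1
        exact h1.le ⟨k, hk, rfl⟩⟩
      have := hn'.comap π'
      rwa [hPc, comap_map_eq, QuotientGroup.ker_mk'] at this
    · have h := MonoidHom.mem_ker.1 (hker P' P'.isPGroup' ⟨a, ha, rfl⟩)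
      exact congrArg Additive.toMul (LinearEquiv.congr_fun h (Additive.ofMul μ))
    · obtain ⟨d, hd, hrd⟩ := hp.dvd_degree hμ θ.2 hθ
      obtain ⟨W, hW, hWi, -, hWle, hWn⟩ := hp.good_theta θ.2 (hB.prime s hs) hp.hp hsr
        (hB.pair s hs r hr hsr) hd (hrd.mul_left _)
      obtain ⟨W', hW', hWi', -, -, hWn'⟩ := hp.good_mu hμ (hB.prime s hs) hsr (hB.pair s hs r hr hsr)
      have e1 : W ≤ W' := hnormal μ hμ W' hW' hWi' hWn' W hW
      have e2 : W = W' := eq_of_le_of_card_ge e1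
        ((Sylow.card_eq_multiplicity (hW'.toSylow hWi')).trans
          (Sylow.card_eq_multiplicity (hW.toSylow hWi)).symm).le
      obtain ⟨t, ht, hte⟩ := hWle (e2 ▸ hnormal μ hμ W' hW' hWi' hWn' _ P'.isPGroup' ⟨a, ha, rfl⟩)
      have := mul_mem ht (le_cst θ.2 (QuotientGroup.eq.1 hte : t⁻¹ * a ∈ R))
      rwa [mul_inv_cancel_left] at this
  obtain ⟨P⟩ : Nonempty (Sylow p G) := inferInstance
  obtain ⟨hPR, hPfix⟩ := trivialCase p hpπ hpr hpdvd P
  haveI := hPR
  -- linear characters of `R`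
  have hactR : ∀ g ∈ R, charAct R g = 1 := fun g hg => MulEquiv.ext fun f => MonoidHom.ext fun z => by
    rw [charAct_apply]
    show f ⟨g⁻¹ * (z : G) * g, _⟩ = f z
    rw [show (⟨g⁻¹ * (z : G) * g, hp.hRn.conj_mem' _ z.2 g⟩ : R) = ⟨g, hg⟩⁻¹ * z * ⟨g, hg⟩ from rfl,
      map_mul, map_mul, map_inv, mul_comm, mul_inv_cancel_left]
  have hcommM : ∀ s : ℕ, s ≠ r → s.Prime → ∀ S : Sylow s G, ((S : Subgroup G) ⊔ R).Normal →
      (∀ ν : R →* ℂˣ, ∀ a ∈ S, charAct R a ν = ν) → (∀ a ∈ S, ∀ μ : M →* ℂˣ, charAct M a μ = μ) →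
      (∀ a ∈ S, ∀ b ∈ S, ⁅a, b⁆ ∈ R) → ∀ n, HasDeg G n → ¬ s ∣ n := by
    intro s hsr hs S hSR hfix hfixM hab n hn
    haveI := Fact.mk hs
    haveI := hSR
    -- `S` centralises `R`
    have hcop : ∀ a ∈ S, Nat.Coprime r (orderOf a) := by
      intro a ha
      obtain ⟨i, hi⟩ := IsPGroup.iff_orderOf.1 S.isPGroup' ⟨a, ha⟩
      rw [orderOf_mk] at hi
      rw [hi]; exact ((Nat.coprime_primes hp.hp hs).2 (Ne.symm hsr)).pow_right i
    letI : CommGroup M :=
      { (inferInstance : Group M) with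
        mul_comm := fun a b => Subtype.ext (hp.hcen _ a.2 _ (hp.hle b.2)) }
    have hM : ∀ a ∈ S, ∀ m ∈ M, Commute a m := by
      intro a ha m hm
      by_contra hne
      have hne' : (⟨m⁻¹ * (a⁻¹ * m * a), M.mul_mem (M.inv_mem hm) (hp.hMn.conj_mem' _ hm a)⟩ : M) ≠ 1 := by
        intro h
        apply hne
        have h' : m⁻¹ * (a⁻¹ * m * a) = 1 := congrArg Subtype.val h
        rw [inv_mul_eq_one] at h'
        show a * m = m * a
        conv_lhs => rw [h']
        group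
      obtain ⟨f, hf⟩ := CommGroup.exists_apply_ne_one_of_hasEnoughRootsOfUnity M ℂ hne'
      apply hf
      have h := DFunLike.congr_fun (hfixM a ha f) ⟨m, hm⟩
      rw [charAct_apply] at h
      rw [show (⟨m⁻¹ * (a⁻¹ * m * a), M.mul_mem (M.inv_mem hm) (hp.hMn.conj_mem' _ hm a)⟩ : M) =
        (⟨m, hm⟩ : M)⁻¹ * ⟨a⁻¹ * m * a, hp.hMn.conj_mem' _ hm a⟩ from rfl, map_mul, map_inv, h,
        inv_mul_cancel]
    have hR : ∀ a ∈ S, ∀ g ∈ R, Commute a g := by
      intro a ha g hg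
      have hmem : g⁻¹ * (a * g * a⁻¹) ∈ R := R.mul_mem (R.inv_mem hg) (hp.hRn.conj_mem g hg a)
      refine commute_of_comm_mem (R := R) (fun c hc h => ?_) hmem (hM a ha _ ?_)
      · obtain ⟨i, hi⟩ := hp.hR ⟨c, hc⟩
        exact eq_one_of_pow_eq_one ((hcop a ha).pow_left i) (congrArg Subtype.val hi) h
      · letI : CommGroup (R ⧸ M.subgroupOf R) :=
          { (inferInstance : Group (R ⧸ M.subgroupOf R)) with
            mul_comm := fun a b => by
              obtain ⟨a, rfl⟩ := QuotientGroup.mk'_surjective _ a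
              obtain ⟨b, rfl⟩ := QuotientGroup.mk'_surjective _ b
              rw [← commutatorElement_eq_one_iff_mul_comm, ← map_commutatorElement,
                QuotientGroup.mk'_apply, QuotientGroup.eq_one_iff]
              exact hp.hcomm a a.2 b b.2 }
        by_contra hne
        have hne' : ((⟨g⁻¹ * (a * g * a⁻¹), hmem⟩ : R) : R ⧸ M.subgroupOf R) ≠ 1 :=
          fun h => by
            have h' := (QuotientGroup.eq_one_iff (⟨g⁻¹ * (a * g * a⁻¹), hmem⟩ : R)).1 h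
            exact hne h'
        obtain ⟨f, hf⟩ := CommGroup.exists_apply_ne_one_of_hasEnoughRootsOfUnity _ ℂ hne'
        apply hf
        have h := DFunLike.congr_fun (hfix (f.comp (QuotientGroup.mk' _)) a ha)
          ⟨a * g * a⁻¹, hp.hRn.conj_mem g hg a⟩
        rw [charAct_apply] at h
        have e : (⟨a⁻¹ * (a * g * a⁻¹) * a, hp.hRn.conj_mem' _ (hp.hRn.conj_mem g hg a) a⟩ : R) = ⟨g, hg⟩ :=
          Subtype.ext (by group)
        rw [e] at h
        rw [show (⟨g⁻¹ * (a * g * a⁻¹), hmem⟩ : R) =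
          (⟨g, hg⟩ : R)⁻¹ * ⟨a * g * a⁻¹, hp.hRn.conj_mem g hg a⟩ from rfl, QuotientGroup.mk_mul,
          QuotientGroup.mk_inv, map_mul, map_inv]
        rw [MonoidHom.comp_apply, MonoidHom.comp_apply, QuotientGroup.mk'_apply,
          QuotientGroup.mk'_apply] at h
        rw [h, inv_mul_cancel]
    -- so it is normal
    have hn1 : normalizer ((S : Subgroup G) : Set G) = ⊤ := by
      refine top_le_iff.1 ((normalizer_sup_eq S hSR).ge.trans (sup_le le_rfl fun g hg => ?_))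
      refine mem_normalizer_of_conj_mem fun a ha => ?_
      rw [(hR a ha g hg).symm.eq, mul_inv_cancel_right]
      exact ha
    refine no_deg_of_sylow S (normalizer_eq_top_iff.1 hn1) (fun a ha b hb => ?_) hn
    have h1 : ⁅a, b⁆ ∈ (S : Subgroup G) ⊓ R :=
      ⟨(commutator_le_self (S : Subgroup G)) (commutator_mem_commutator ha hb), hab a ha b hb⟩
    rw [disjoint_iff.1 (IsPGroup.disjoint_of_ne s r hsr _ _ S.isPGroup' hp.hR), mem_bot] at h1
    exact commutatorElement_eq_one_iff_mul_comm.1 h1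
  have habel : ∀ s ∈ π, s ≠ r → ∀ S : Sylow s G, ∀ a ∈ S, ∀ b ∈ S, ⁅a, b⁆ ∈ R := by
    intro s hs hsr S a ha b hb
    haveI := Fact.mk (hB.prime s hs)
    obtain ⟨v, hv⟩ := exists_ne (0 : Additive (M →* ℂˣ))
    obtain ⟨W, hW, hWi, hWc, -, -⟩ := hp.good_mu (μ := Additive.toMul v)
      (fun h => hv (Additive.toMul.injective h)) (hB.prime s hs) hsr (hB.pair s hs r hr hsr)
    obtain ⟨x, hx⟩ := MulAction.exists_smul_eq (G ⧸ R) (hW.toSylow hWi)
      (S.mapSurjective (QuotientGroup.mk'_surjective R))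
    have h1 : (S : Subgroup G).map π' = MulAut.conj x • W := by
      have := congrArg (fun T : Sylow s (G ⧸ R) => (T : Subgroup (G ⧸ R))) hx
      rw [Sylow.coe_subgroup_smul] at this
      exact this.symm
    obtain ⟨a', ha', ea⟩ := h1.le ⟨a, ha, rfl⟩
    obtain ⟨b', hb', eb⟩ := h1.le ⟨b, hb, rfl⟩
    rw [← QuotientGroup.eq_one_iff, ← QuotientGroup.mk'_apply, map_commutatorElement,
      commutatorElement_eq_one_iff_mul_comm]
    show π' a * π' b = π' b * π' a
    rw [← ea, ← eb]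
    show (MulAut.conj x a' : G ⧸ R) * MulAut.conj x b' = MulAut.conj x b' * MulAut.conj x a'
    rw [← map_mul, ← map_mul, hWc a' ha' b' hb']
  -- a linear character moved by `P`
  obtain ⟨ν₀, a₀, ha₀, hν₀⟩ : ∃ (ν : R →* ℂˣ) (a : G), a ∈ (P : Subgroup G) ∧ charAct R a ν ≠ ν := by
    by_contra! hc
    obtain ⟨n, hn, hpn⟩ := hB.ex p hpπ
    exact hcommM p hpr (hB.prime p hpπ) P hPR (fun ν a ha => hc ν a ha)
      (fun a ha μ => (hPfix a ha μ).1) (habel p hpπ hpr P) n hn hpn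
  -- the prime `q` acts on the centre
  obtain ⟨Q⟩ : Nonempty (Sylow q (G ⧸ R)) := inferInstance
  have hQfix : fixSp ρM (Q : Subgroup (G ⧸ R)) ≠ ⊤ := by
    intro htop
    have hqd : ¬ q ∣ Nat.card ρM.range := by
      intro hd
      have hQk : (Q : Subgroup (G ⧸ R)) ≤ ρM.ker := fun k hk =>
        MonoidHom.mem_ker.2 (LinearEquiv.ext fun v => (htop ▸ Submodule.mem_top : v ∈ fixSp ρM _) k hk)
      refine Q.not_dvd_index (hd.trans (dvd_trans (dvd_of_eq ?_) (index_dvd_of_le hQk)))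
      exact (index_ker ρM).symm
    -- a linear character moved by both
    obtain ⟨Q'⟩ : Nonempty (Sylow q G) := inferInstance
    obtain ⟨hQR, hQfix'⟩ := trivialCase q hqπ hqr hqd Q'
    haveI := hQR
    obtain ⟨ν₁, b₀, hb₀, hν₁⟩ : ∃ (ν : R →* ℂˣ) (a : G), a ∈ (Q' : Subgroup G) ∧ charAct R a ν ≠ ν := by
      by_contra! hc
      obtain ⟨n, hn, hqn⟩ := hB.ex q hqπ
      exact hcommM q hqr (hB.prime q hqπ) Q' hQR (fun ν a ha => hc ν a ha)
        (fun a ha μ => (hQfix' a ha μ).1) (habel q hqπ hqr Q') n hn hqn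
    obtain ⟨ν, hν, hν'⟩ : ∃ ν, charAct R a₀ ν ≠ ν ∧ charAct R b₀ ν ≠ ν := by
      by_cases h1 : charAct R b₀ ν₀ = ν₀
      · by_cases h2 : charAct R a₀ ν₁ = ν₁
        · refine ⟨ν₀ * ν₁, fun h => hν₀ ?_, fun h => hν₁ ?_⟩
          · rw [map_mul, h2] at h; exact mul_right_cancel h
          · rw [map_mul, h1] at h; exact mul_left_cancel h
        · exact ⟨ν₁, h2, hν₁⟩
      · exact ⟨ν₀, hν₀, h1⟩
    obtain ⟨n, hn, hdn⟩ := hasDeg_over R (Chars.isIrrCharacter_of_hom ν) (d := 1) (by simp)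
    have hdiv : ∀ (s : ℕ) [Fact s.Prime] (S : Sylow s G) (a : G), a ∈ (S : Subgroup G) →
        ((S : Subgroup G) ⊔ R).Normal → charAct R a ν ≠ ν → s ∣ (cst R (fun z => (ν z : ℂ))).index := by
      intro s _ S a ha hSn hmove
      by_contra hd
      haveI := hSn
      exact hmove ((charAct_eq_self_iff R a ν).2
        (sylow_le_of_not_dvd S (le_cst (Chars.isIrrCharacter_of_hom ν)) hd ha))
    refine hB.pair p hpπ q hqπ hpq n hn (dvd_trans ?_ ((dvd_mul_right _ 1).trans hdn))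
    exact ((Nat.coprime_primes (hB.prime p hpπ) (hB.prime q hqπ)).2 hpq).mul_dvd_of_dvd_of_dvd
      (hdiv p P a₀ ha₀ hPR hν) (hdiv q Q' b₀ hb₀ hQR hν')
  -- the part of the linear characters moved by `P`
  let gens : Set (R →* ℂˣ) :=
    {x | ∃ a ∈ (P : Subgroup G) ⊔ R, ∃ ν : R →* ℂˣ, x = charAct R a ν / ν}
  set Λ : Subgroup (R →* ℂˣ) := closure gens with hΛ
  have hΛinv : ∀ g : G, ∀ x ∈ Λ, charAct R g x ∈ Λ := by
    intro g x hx
    have : Λ ≤ Λ.comap (charAct R g).toMonoidHom := by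
      refine (closure_le _).2 ?_
      rintro _ ⟨a, ha, ν, rfl⟩
      refine subset_closure ⟨g * a * g⁻¹, hPR.conj_mem a ha g, charAct R g ν, ?_⟩
      refine (map_div (charAct R g) _ _).trans ?_
      congr 1
      rw [← MulAut.mul_apply, ← MulAut.mul_apply, ← map_mul, ← map_mul]
      congr 2
      group
    exact this hx
  have hPcard : Nat.Coprime (Nat.card (P : Subgroup G)) r := by
    obtain ⟨i, hi⟩ := IsPGroup.iff_card.1 P.isPGroup'
    rw [hi]; exact ((Nat.coprime_primes (hB.prime p hpπ) hp.hp).2 hpr).pow_left i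
  haveI := Fintype.ofFinite (P : Subgroup G)
  have hnofix : ∀ x ∈ Λ, (∀ a ∈ P, charAct R a x = x) → x = 1 := by
    intro x hx hfix
    let NP : (R →* ℂˣ) →* (R →* ℂˣ) := ∏ a : (P : Subgroup G), (charAct R (a : G)).toMonoidHom
    have hNP : ∀ y, NP y = ∏ a : (P : Subgroup G), charAct R (a : G) y := fun y => by
      simp only [NP, MonoidHom.finsetProd_apply, MulEquiv.coe_toMonoidHom]
    have hker : Λ ≤ NP.ker := by
      refine (closure_le _).2 ?_
      rintro _ ⟨a, ha, ν, rfl⟩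
      obtain ⟨u, hu, k, hk, rfl⟩ := mem_sup_of_normal_right.1 ha
      rw [SetLike.mem_coe, MonoidHom.mem_ker]
      refine (map_div NP _ _).trans (div_eq_one.2 ?_)
      rw [hNP, hNP, map_mul, hactR k hk, mul_one]
      refine Fintype.prod_equiv (Equiv.mulRight (⟨u, hu⟩ : (P : Subgroup G))) _ _ fun a => ?_
      rw [← MulAut.mul_apply, ← map_mul]
      rfl
    have h1 := MonoidHom.mem_ker.1 (hker hx)
    rw [hNP, Finset.prod_congr rfl (fun (a : (P : Subgroup G)) _ => hfix a a.2), Finset.prod_const,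
      Finset.card_univ, Fintype.card_eq_nat_card] at h1
    refine MonoidHom.ext fun z => ?_
    have h2 := DFunLike.congr_fun h1 z
    rw [MonoidHom.pow_apply, MonoidHom.one_apply] at h2
    obtain ⟨i, hi⟩ := hp.hR z
    exact eq_one_of_pow_eq_one (hPcard.pow_right i) h2 (by rw [← map_pow, hi, map_one])
  -- its elements of order `r`
  let Λ₁ : Subgroup (R →* ℂˣ) := Λ ⊓ (powMonoidHom r : (R →* ℂˣ) →* (R →* ℂˣ)).ker
  obtain ⟨ν', hν', hν'1⟩ : ∃ x ∈ Λ₁, x ≠ 1 := by
    set x := charAct R a₀ ν₀ / ν₀ with hx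
    have hxΛ : x ∈ Λ := subset_closure ⟨a₀, mem_sup_left ha₀, ν₀, rfl⟩
    have hx1 : x ≠ 1 := fun h => hν₀ (div_eq_one.1 h)
    obtain ⟨k, hk⟩ := IsPGroup.iff_card.1 hp.hR
    have hxk : x ^ r ^ k = 1 := MonoidHom.ext fun z => by
      rw [MonoidHom.pow_apply, ← map_pow, ← hk, pow_card_eq_one', map_one, MonoidHom.one_apply]
    obtain ⟨i, -, hi⟩ := (Nat.dvd_prime_pow hp.hp).1 (orderOf_dvd_of_pow_eq_one (G := R →* ℂˣ) hxk)
    rcases i with _ | i
    · rw [pow_zero, orderOf_eq_one_iff] at hi; exact absurd hi hx1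
    · refine ⟨x ^ r ^ i, ⟨pow_mem hxΛ _, ?_⟩, fun h => ?_⟩
      · show (x ^ r ^ i) ^ r = 1
        refine (pow_mul x _ _).symm.trans ?_
        rw [← pow_succ, ← hi]
        exact pow_orderOf_eq_one x
      · have := Nat.le_of_dvd (pow_pos hp.hp.pos i) (hi ▸ orderOf_dvd_of_pow_eq_one h)
        rw [pow_succ] at this
        nlinarith [hp.hp.two_le, pow_pos hp.hp.pos i]
  obtain ⟨a₁, ha₁, hmove⟩ : ∃ a ∈ P, charAct R a ν' ≠ ν' := by
    by_contra! hc
    exact hν'1 (hnofix ν' hν'.1 hc)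
  obtain ⟨h₁, hh₁⟩ : ∃ z : R, charAct R a₁ ν' z ≠ ν' z := by
    by_contra! hc
    exact hmove (MonoidHom.ext hc)
  -- the element `w`
  set h₂ : R := ⟨a₁⁻¹ * h₁ * a₁, hp.hRn.conj_mem' _ h₁.2 a₁⟩ with hh₂
  set w : R := h₁⁻¹ * h₂ with hw
  have hνw : ν' w ≠ 1 := by
    rw [hw, map_mul, map_inv, Ne, inv_mul_eq_one]
    intro h
    apply hh₁
    rw [charAct_apply]
    exact h.symm
  -- the map into the moved characters
  let Φ : (M →* ℂˣ) → (R →* ℂˣ) := fun μ => hp.formHom μ w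
  have hΦmem : ∀ μ, Φ μ ∈ Λ₁ := by
    intro μ
    refine ⟨?_, MonoidHom.ext fun z => ?_⟩
    · have hfix := (hPfix a₁ ha₁ μ).1
      have e : Φ μ = charAct R a₁⁻¹ (hp.formHom μ h₁) / hp.formHom μ h₁ := by
        refine MonoidHom.ext fun z => ?_
        show hp.formHom μ w z = _
        rw [MonoidHom.div_apply, charAct_apply, hp.formHom_swap μ w, hw, map_mul, map_inv,
          mul_inv_rev, inv_inv, ← hp.formHom_swap, hp.formHom_swap μ h₁ z, div_inv_eq_mul]
        congr 1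
        -- move `a₁` across the commutator
        rw [hp.formHom_apply, hp.formHom_apply]
        conv_rhs => rw [← hfix, charAct_apply]
        refine congrArg μ (Subtype.ext ?_)
        simp only [hh₂, inv_inv, commutatorElement_def]
        group
      rw [e]
      exact subset_closure ⟨a₁⁻¹, mem_sup_left ((P : Subgroup G).inv_mem ha₁), _, rfl⟩
    · show (hp.formHom μ w z) ^ r = 1
      rw [hp.formHom_apply, ← map_pow, ← map_one μ]
      exact congrArg μ (Subtype.ext (hp.hexp _ (hp.hcomm _ z.2 _ w.2)))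
  let Φ' : (M →* ℂˣ) → Λ₁ := fun μ => ⟨Φ μ, hΦmem μ⟩
  have hker : ∀ μ, Φ μ = 1 → μ = 1 := by
    intro μ hμ
    by_contra hμ1
    apply hνw
    have hwrad : w ∈ hp.rad μ := hp.mem_rad.2 fun g => by
      rw [hp.formHom_swap, show hp.formHom μ w g = 1 from DFunLike.congr_fun hμ g, inv_one]
    have hΛw : Λ ≤ (MonoidHom.eval w).ker := by
      refine (closure_le _).2 ?_
      rintro _ ⟨a, ha, ν, rfl⟩
      obtain ⟨θ₀, h₀⟩ := hp.exists_over μ
      obtain ⟨ψ, hψ, -, -⟩ := hp.over_values θ₀.2 h₀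
      obtain ⟨u, hu, k, hk, rfl⟩ := mem_sup_of_normal_right.1 ha
      rw [SetLike.mem_coe, MonoidHom.mem_ker]
      refine (map_div (MonoidHom.eval w : (R →* ℂˣ) →* ℂˣ) _ _).trans (div_eq_one.2 ?_)
      rw [map_mul (charAct R), hactR k hk, mul_one]
      show charAct R u ν w = ν w
      rw [charAct_apply]
      have f1 := (hPfix u⁻¹ ((P : Subgroup G).inv_mem hu) μ).2 hμ1
      have g1 := congrFun (mem_cst.1 (f1 θ₀ h₀)) w
      have hover : hp.Over μ (fun z => (ν z : ℂ) * (θ₀ : R → ℂ) z) := fun m => by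
        show (ν ⟨(m : G), hp.hle m.2⟩ : ℂ) * _ = (ν 1 : ℂ) * _ * _
        have hνm : ν ⟨(m : G), hp.hle m.2⟩ = 1 := by
          have hm : (m : G) ∈ (ν.ker).map R.subtype :=
            ((commutator_le (H₁ := R) (H₂ := R) (H₃ := (ν.ker).map R.subtype)).2 fun a ha b hb => ⟨⁅(⟨a, ha⟩ : R), ⟨b, hb⟩⁆, by
              rw [SetLike.mem_coe, MonoidHom.mem_ker, map_commutatorElement,
                commutatorElement_eq_one_iff_mul_comm.2 (mul_comm _ _)], rfl⟩) (hp.hgen m.2)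
          obtain ⟨z, hz, hzm⟩ := hm
          rw [← show z = ⟨(m : G), hp.hle m.2⟩ from Subtype.ext hzm]
          exact MonoidHom.mem_ker.1 hz
        rw [h₀ m, hνm, map_one, Units.val_one, one_mul, one_mul]
      have g2 := congrFun (mem_cst.1 (f1 ⟨_, Chars.isIrrCharacter_hom_mul ν θ₀.2⟩ hover)) w
      change (θ₀ : R → ℂ) ⟨u⁻¹ * w * u⁻¹⁻¹, _⟩ = _ at g1
      change (ν ⟨u⁻¹ * w * u⁻¹⁻¹, _⟩ : ℂ) * (θ₀ : R → ℂ) ⟨u⁻¹ * w * u⁻¹⁻¹, _⟩ = _ at g2
      rw [g1] at g2
      have hθw : (θ₀ : R → ℂ) w ≠ 0 := by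
        rw [hψ ⟨w, hwrad⟩]
        exact mul_ne_zero (Chars.irr_apply_one_ne_zero θ₀) (Units.ne_zero _)
      have g3 := Units.ext (mul_right_cancel₀ hθw g2)
      rw [← g3]
      exact congrArg ν (Subtype.ext (by simp))
    exact hΛw hν'.1
  have hΦmul : ∀ μ μ', Φ (μ * μ') = Φ μ * Φ μ' := fun μ μ' => MonoidHom.ext fun z => rfl
  have hinj : Function.Injective Φ' := by
    intro μ μ' h
    have h1 : Φ (μ / μ') = 1 := by
      have := hΦmul (μ / μ') μ'
      rw [show μ / μ' * μ' = μ from div_mul_cancel μ μ', show Φ μ = Φ μ' from congrArg Subtype.val h] at this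
      refine MonoidHom.ext fun z => ?_
      have hz := DFunLike.congr_fun this z
      exact right_eq_mul.1 hz
    exact div_eq_one.1 (hker _ h1)
  have hlt : Nat.card (M →* ℂˣ) < Nat.card Λ₁ := by
    refine lt_of_le_of_ne (Nat.card_le_card_of_injective Φ' hinj) fun h => hνw ?_
    obtain ⟨μ, hμ⟩ := ((Nat.bijective_iff_injective_and_card Φ').2 ⟨hinj, h⟩).2 ⟨ν', hν'⟩
    rw [← show Φ μ = ν' from congrArg Subtype.val hμ]
    show hp.formHom μ w w = 1
    rw [hp.formHom_apply, ← map_one μ]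
    exact congrArg μ (Subtype.ext (by simp))
  -- the action on those characters
  have hΛ₁inv : ∀ g : G, ∀ x ∈ Λ₁, charAct R g x ∈ Λ₁ := fun g x hx =>
    ⟨hΛinv g x hx.1, show (charAct R g x) ^ r = 1 from
      ((map_pow (charAct R g) x r).symm.trans (congrArg _ (show x ^ r = 1 from hx.2))).trans (map_one _)⟩
  let resΛ : G →* MulAut Λ₁ :=
    { toFun := fun g =>
        { toFun := fun x => ⟨charAct R g x, hΛ₁inv g x x.2⟩
          invFun := fun x => ⟨charAct R g⁻¹ x, hΛ₁inv _ x x.2⟩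
          left_inv := fun x => Subtype.ext (by
            show charAct R g⁻¹ (charAct R g x) = x
            rw [← MulAut.mul_apply, ← map_mul, inv_mul_cancel, map_one]; rfl)
          right_inv := fun x => Subtype.ext (by
            show charAct R g (charAct R g⁻¹ x) = x
            rw [← MulAut.mul_apply, ← map_mul, mul_inv_cancel, map_one]; rfl)
          map_mul' := fun x y => Subtype.ext (map_mul (charAct R g) x.1 y.1) }
      map_one' := MulEquiv.ext fun x => Subtype.ext (by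
        show charAct R 1 (x : R →* ℂˣ) = x
        rw [map_one]; rfl)
      map_mul' := fun g h => MulEquiv.ext fun x => Subtype.ext (by
        show charAct R (g * h) (x : R →* ℂˣ) = charAct R g (charAct R h x)
        rw [map_mul]; rfl) }
  let φΛ : G ⧸ R →* MulAut Λ₁ := QuotientGroup.lift R resΛ (fun g hg => by
    refine MulEquiv.ext fun x => Subtype.ext ?_
    show charAct R g (x : R →* ℂˣ) = x
    rw [hactR g hg]; rfl)
  have hexpΛ : ∀ x : Additive Λ₁, r • x = 0 := fun x => by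
    show Additive.ofMul ((Additive.toMul x) ^ r) = Additive.ofMul 1
    congr 1
    exact Subtype.ext (Additive.toMul x).2.2
  letI : Module (ZMod r) (Additive Λ₁) :=
    AddCommGroup.zmodModule (G := Additive Λ₁) (n := r) hexpΛ
  let ρΛ : G ⧸ R →* (Additive Λ₁ ≃ₗ[ZMod r] Additive Λ₁) := linRep (W := Λ₁) r φΛ
  have goodΛ : ∀ v, v ≠ 0 → Good ρΛ q v := by
    intro v hv
    set x : R →* ℂˣ := ((Additive.toMul v : Λ₁) : R →* ℂˣ)
    have hxΛ : x ∈ Λ := (Additive.toMul v).2.1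
    have hx1 : x ≠ 1 := fun h => hv (Additive.toMul.injective (Subtype.ext h))
    obtain ⟨a, ha, hax⟩ : ∃ a ∈ P, charAct R a x ≠ x := by
      by_contra! hc
      exact hx1 (hnofix x hxΛ hc)
    have hθ : IsIrrCharacter R (fun z => (x z : ℂ)) := Chars.isIrrCharacter_of_hom x
    have hdvd : p ∣ (cst R (fun z => (x z : ℂ))).index * 1 := by
      rw [mul_one]
      by_contra hd
      exact hax ((charAct_eq_self_iff R a x).2 (sylow_le_of_not_dvd P (le_cst hθ) hd ha))
    obtain ⟨W, hW, hWi, hWc, hWle, hWn⟩ := hp.good_theta hθ (hB.prime q hqπ) (hB.prime p hpπ)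
      hpq.symm (hB.pair q hqπ p hpπ hpq.symm) (d := 1) (by simp) hdvd
    refine ⟨W, hW, hWi, hWc, fun k hk => ?_, fun y hy k hk => ?_⟩
    · obtain ⟨g, hg, rfl⟩ := hWle hk
      exact congrArg Additive.ofMul (Subtype.ext ((charAct_eq_self_iff R g x).2 hg))
    · obtain ⟨g, rfl⟩ := QuotientGroup.mk'_surjective R y
      refine hWn _ ⟨g, (charAct_eq_self_iff R g x).1 ?_, rfl⟩ k hk
      exact congrArg Subtype.val (congrArg Additive.toMul hy)
  -- count
  have eM := good_partition (V := Additive (M →* ℂˣ)) (ρ := ρM) (fun v hv => goodM q hqπ hqr v hv) Q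
  have eΛ := good_partition (V := Additive Λ₁) (ρ := ρΛ) (fun v hv => goodΛ v hv) Q
  rw [card_eq_pow, Module.natCard_eq_pow_finrank (K := ZMod r) (V := Additive (M →* ℂˣ)),
    Nat.card_zmod] at eM
  rw [card_eq_pow, Module.natCard_eq_pow_finrank (K := ZMod r) (V := Additive Λ₁), Nat.card_zmod] at eΛ
  set n := (normalizer ((Q : Subgroup (G ⧸ R)) : Set (G ⧸ R))).index
  have hrn : ¬ r ∣ n := by
    intro h
    refine hp.hi ?_
    rw [index_eq_card]
    exact h.trans (index_dvd_card _)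
  have hcM := Submodule.finrank_lt hQfix
  have hn1 : n ≠ 1 := by
    intro h
    rw [h, one_mul] at eM
    have h1 := Nat.one_le_pow (Module.finrank (ZMod r) (fixSp ρM (Q : Subgroup (G ⧸ R)))) r hp.hp.pos
    have h2 := Nat.pow_lt_pow_right hp.hp.one_lt hcM
    omega
  have hΛpos : 1 < Nat.card Λ₁ := lt_of_le_of_lt Nat.card_pos hlt
  have hcΛ : Module.finrank (ZMod r) (fixSp ρΛ (Q : Subgroup (G ⧸ R))) <
      Module.finrank (ZMod r) (Additive Λ₁) := by
    refine lt_of_le_of_ne (Submodule.finrank_le _) fun h => hn1 ?_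
    rw [h] at eΛ
    have h2 : 1 < r ^ Module.finrank (ZMod r) (Additive Λ₁) := by
      have h3 := Module.natCard_eq_pow_finrank (K := ZMod r) (V := Additive Λ₁)
      rw [Nat.card_zmod, Nat.card_congr Additive.toMul] at h3
      rwa [← h3]
    exact (mul_eq_right₀ (by omega)).1 eΛ
  have heq := exponent_eq hp.hp.two_le hrn hcM hcΛ eM eΛ
  have e1 : Nat.card (Additive (M →* ℂˣ)) = Nat.card (Additive Λ₁) := by
    rw [Module.natCard_eq_pow_finrank (K := ZMod r) (V := Additive (M →* ℂˣ)),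
      Module.natCard_eq_pow_finrank (K := ZMod r) (V := Additive Λ₁), heq]
  rw [Nat.card_congr Additive.toMul, Nat.card_congr Additive.toMul] at e1
  omega

end ClassTwoPair

end Cfsg.Agent.Lib.SolvDegrees.Palfy
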