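import Mathlib
import Cfsg.Agent.Lib.SolvDegrees.PalfyNormal
import Cfsg.Agent.Lib.PrimitiveDegree.Metanilpotent

/-!
Pálfy's three primes theorem.
-/

set_option autoImplicit false
set_option linter.unusedSectionVars false

namespace Cfsg.Agent.Lib.SolvDegrees.Palfy

open Subgroup Cfsg
open Cfsg.Agent.Lib
open scoped Pointwise commutatorElement

variable {G : Type*} [Group G] [Finite G] [Group.IsSolvable G] {π : Finset ℕ}

/-- A bad group with all proper quotients good has no normal Sylow subgroup for its primes. -/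
theorem Bad.not_normal (hB : Bad G π)
    (hmin : ∀ (M : Subgroup G) [M.Normal], M ≠ ⊥ → ¬ Bad (G ⧸ M) π)
    {r : ℕ} (hr : r ∈ π) [Fact r.Prime] (R : Sylow r G) : ¬ (R : Subgroup G).Normal := by
  intro hRn
  classical
  haveI := Fintype.ofFinite G
  haveI := hRn
  have hnab : ¬ ∀ a ∈ (R : Subgroup G), ∀ b ∈ (R : Subgroup G), a * b = b * a := fun hc => by
    obtain ⟨n, hn, hrn⟩ := hB.ex r hr
    exact no_deg_of_sylow R hRn hc hn hrn
  have hRnil : Group.IsNilpotent (R : Subgroup G) := R.isPGroup'.isNilpotent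
  have hD : ⁅(⊤ : Subgroup (R : Subgroup G)), (⊤ : Subgroup (R : Subgroup G))⁆ ≠ ⊥ := fun h =>
    hnab fun a ha b hb => by
      have h1 := commutator_mem_commutator (mem_top (⟨a, ha⟩ : (R : Subgroup G)))
        (mem_top (⟨b, hb⟩ : (R : Subgroup G)))
      rw [h, mem_bot, commutatorElement_eq_one_iff_mul_comm] at h1
      exact congrArg Subtype.val h1
  set W : Subgroup G := ⁅(R : Subgroup G), (R : Subgroup G)⁆ ⊓ centralizer ((R : Subgroup G) : Set G)
  haveI : W.Normal := inferInstance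
  have hW : W ≠ ⊥ := by
    obtain ⟨⟨z, hz⟩, hz1⟩ := ne_bot_iff_exists_ne_one.1
      (PrimitiveDegree.inf_center_ne_bot_of_nilpotent _ hD)
    intro hbot
    have hmem : (z : G) ∈ W := by
      refine mem_inf.2 ⟨?_, mem_centralizer_iff.2 fun g hg =>
        congrArg Subtype.val (mem_center_iff.1 (mem_inf.1 hz).2 ⟨g, hg⟩)⟩
      have : (z : G) ∈ Subgroup.map (R : Subgroup G).subtype ⁅(⊤ : Subgroup (R : Subgroup G)), (⊤ : Subgroup (R : Subgroup G))⁆ :=
        ⟨z, (mem_inf.1 hz).1, rfl⟩
      rwa [map_commutator, ← MonoidHom.range_eq_map, range_subtype] at this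
    rw [hbot, mem_bot] at hmem
    exact hz1 (Subtype.ext (Subtype.ext hmem))
  obtain ⟨M, hMn, hMne, hMW, hMmin⟩ := MinimalNormal.exists_minimal_normal_le inferInstance hW
  haveI := hMn
  have hMR : M ≤ (R : Subgroup G) := fun m hm =>
    commutator_le_self (R : Subgroup G) (hMW hm).1
  have hMcen : ∀ m ∈ M, ∀ g ∈ (R : Subgroup G), m * g = g * m := fun m hm g hg =>
    (mem_centralizer_iff.1 (hMW hm).2 g hg).symm
  obtain ⟨s, hs, S, hSn, hSc⟩ := hB.drop M (hmin M hMne)
  haveI := Fact.mk (hB.prime s hs)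
  rcases eq_or_ne s r with rfl | hsr
  · -- the derived subgroup is minimal normal
    have hSR : (S : Subgroup G) = R := eq_of_le_of_card_ge
      (eq_of_le_of_card_ge (le_sup_left : (R : Subgroup G) ≤ (R : Subgroup G) ⊔ S) (by
        have hsup : IsPGroup s ((R : Subgroup G) ⊔ S : Subgroup G) :=
          R.isPGroup'.to_sup_of_normal_left S.isPGroup'
        rw [R.3 hsup le_sup_left]) ▸ le_sup_right)
      ((Sylow.card_eq_multiplicity R).trans (Sylow.card_eq_multiplicity S).symm).le
    obtain ⟨hMc, e, he, hee⟩ := MinimalNormal.elementaryAbelian M hMne hMmin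
    obtain ⟨m, hm, hm1⟩ := (bot_or_exists_ne_one M).resolve_left hMne
    haveI := Fact.mk he
    have hes : e = s := by
      obtain ⟨k, hk⟩ := IsPGroup.iff_orderOf.1 R.isPGroup' ⟨m, hMR hm⟩
      rw [orderOf_mk, orderOf_eq_prime (hee m hm) hm1] at hk
      exact (Nat.prime_dvd_prime_iff_eq he Fact.out).1 (he.dvd_of_dvd_pow hk.dvd)
    subst hes
    have hp : ClassTwoPair e M (R : Subgroup G) :=
      ⟨Fact.out, hMn, hRn, R.isPGroup', R.not_dvd_index, hMR, hMcen,
        fun a ha b hb => hSc a (hSR.ge ha) b (hSR.ge hb), fun m hm => (hMW hm).1, hee⟩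
    exact hp.false_of_bad hB hr
  · -- the other prime centralises `R`
    have hdisj : (S : Subgroup G) ⊓ R = ⊥ :=
      disjoint_iff.1 (IsPGroup.disjoint_of_ne s r hsr _ _ S.isPGroup' R.isPGroup')
    have hRS : ∀ k ∈ (R : Subgroup G), k ∈ (S : Subgroup G) ⊔ M → k ∈ M := by
      intro k hk hk2
      obtain ⟨u, hu, m, hm, rfl⟩ := mem_sup_of_normal_right.1 hk2
      have : u ∈ (S : Subgroup G) ⊓ R := ⟨hu, by
        have := mul_mem hk (inv_mem (hMR hm))
        rwa [mul_inv_cancel_right] at this⟩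
      rw [hdisj, mem_bot] at this
      rwa [this, one_mul]
    have hcentR : ∀ a ∈ (S : Subgroup G), ∀ g ∈ (R : Subgroup G), Commute a g := by
      intro a ha g hg
      have hmem : ∀ h ∈ (R : Subgroup G), h⁻¹ * (a * h * a⁻¹) ∈ M := fun h hh =>
        hRS _ (mul_mem (inv_mem hh) (hRn.conj_mem h hh a)) (by
          rw [show h⁻¹ * (a * h * a⁻¹) = (h⁻¹ * a * h) * a⁻¹ by group]
          exact mul_mem (hSn.conj_mem' a (mem_sup_left ha) h) (mem_sup_left (inv_mem ha)))
      let f : (R : Subgroup G) →* M := MonoidHom.mk' (fun h => ⟨_, hmem h h.2⟩) fun h h' => Subtype.ext (by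
        show ((h : G) * h')⁻¹ * (a * ((h : G) * h') * a⁻¹) =
          ((h : G)⁻¹ * (a * h * a⁻¹)) * ((h' : G)⁻¹ * (a * h' * a⁻¹))
        have hc := hMcen _ (hmem h h.2) _ (inv_mem h'.2)
        calc ((h : G) * h')⁻¹ * (a * ((h : G) * h') * a⁻¹)
            = ((h' : G)⁻¹ * ((h : G)⁻¹ * (a * h * a⁻¹))) * (a * h' * a⁻¹) := by group
          _ = (((h : G)⁻¹ * (a * h * a⁻¹)) * (h' : G)⁻¹) * (a * h' * a⁻¹) := by rw [hc]
          _ = _ := by group)
      have hcomm : ⁅(R : Subgroup G), (R : Subgroup G)⁆ ≤ f.ker.map (R : Subgroup G).subtype :=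
        commutator_le.2 fun x hx y hy => ⟨⁅(⟨x, hx⟩ : (R : Subgroup G)), ⟨y, hy⟩⁆, by
          rw [SetLike.mem_coe, MonoidHom.mem_ker, map_commutatorElement,
            commutatorElement_eq_one_iff_mul_comm]
          exact Subtype.ext (hMcen _ (f _).2 _ (hMR (f _).2)), rfl⟩
      have hfixM : ∀ m ∈ M, Commute a m := by
        intro m hm
        obtain ⟨z, hz, rfl⟩ := hcomm (hMW hm).1
        have h1 : (z : G)⁻¹ * (a * z * a⁻¹) = 1 := congrArg Subtype.val (MonoidHom.mem_ker.1 hz)
        rw [inv_mul_eq_one] at h1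
        exact mul_inv_eq_iff_eq_mul.1 h1.symm
      refine commute_of_comm_mem (R := M) (fun c hc h => ?_) (hmem g hg) (hfixM _ (hmem g hg))
      obtain ⟨i, hi⟩ := R.isPGroup' ⟨c, hMR hc⟩
      obtain ⟨j, hj⟩ := IsPGroup.iff_orderOf.1 S.isPGroup' ⟨a, ha⟩
      rw [orderOf_mk] at hj
      refine eq_one_of_pow_eq_one ?_ (congrArg Subtype.val hi) h
      rw [hj]
      exact (((Nat.coprime_primes Fact.out Fact.out).2 hsr.symm).pow_left i).pow_right j
    have htop : normalizer ((S : Subgroup G) : Set G) = ⊤ := by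
      refine top_le_iff.1 ((normalizer_sup_eq S hSn).ge.trans (sup_le le_rfl fun m hm => ?_))
      refine mem_normalizer_of_conj_mem fun a ha => ?_
      rw [(hcentR a ha m (hMR hm)).symm.eq, mul_inv_cancel_right]
      exact ha
    obtain ⟨n, hn, hsn⟩ := hB.ex s hs
    refine no_deg_of_sylow S (normalizer_eq_top_iff.1 htop) (fun a ha b hb => ?_) hn hsn
    refine commutatorElement_eq_one_iff_mul_comm.1 (mem_bot.1 ?_)
    rw [← hdisj]
    exact ⟨commutator_le_self (S : Subgroup G) (commutator_mem_commutator ha hb), hMR (hSc a ha b hb)⟩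

/-- A minimal normal subgroup moved by a Sylow subgroup with normal image. -/
structure Moved (M : Subgroup G) (r : ℕ) (R : Sylow r G) : Prop where
  inf : M ⊓ normalizer ((R : Subgroup G) : Set G) = ⊥
  sup : normalizer ((R : Subgroup G) : Set G) ⊔ M = ⊤
  comm : ∀ a ∈ M, ∀ b ∈ M, a * b = b * a
  dvd : ∀ [M.Normal] (f : M →* ℂˣ), f ≠ 1 → r ∣ (cst M (fun m => (f m : ℂ))).index
  abR : ∀ a ∈ R, ∀ b ∈ R, a * b = b * a

theorem moved {M : Subgroup G} [hMn : M.Normal] (hMne : M ≠ ⊥)
    (hMmin : ∀ K : Subgroup G, K.Normal → K ≤ M → K = ⊥ ∨ K = M) {r : ℕ} [Fact r.Prime]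
    (R : Sylow r G) (hR : ¬ (R : Subgroup G).Normal) (hn : ((R : Subgroup G) ⊔ M).Normal)
    (hc : ∀ a ∈ R, ∀ b ∈ R, ⁅a, b⁆ ∈ M) : Moved M r R := by
  classical
  haveI := hn
  obtain ⟨hMab, e, he, hee⟩ := MinimalNormal.elementaryAbelian M hMne hMmin
  haveI := Fact.mk he
  have hcomm : ∀ a ∈ M, ∀ b ∈ M, a * b = b * a := fun a ha b hb => setLike_mul_comm ha hb
  have hMp : IsPGroup e M := fun z => ⟨1, Subtype.ext (by simpa using hee z z.2)⟩
  have her : e ≠ r := by
    rintro rfl
    refine hR ?_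
    have hle : M ≤ (R : Subgroup G) := (PSolvable.le_pCore hMp).trans (PSolvable.pCore_le_sylow R)
    rwa [sup_eq_left.2 hle] at hn
  have hdisj : M ⊓ (R : Subgroup G) = ⊥ :=
    disjoint_iff.1 (IsPGroup.disjoint_of_ne e r her _ _ hMp R.isPGroup')
  have hsup := normalizer_sup_eq R hn
  set K := M ⊓ normalizer ((R : Subgroup G) : Set G) with hK
  have hKn : K.Normal := by
    rw [← normalizer_eq_top_iff, ← top_le_iff]
    refine hsup.ge.trans (sup_le (fun g hg => mem_normalizer_of_conj_mem fun k hk =>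
      mem_inf.2 ⟨hMn.conj_mem k (mem_inf.1 hk).1 g, mul_mem (mul_mem hg (mem_inf.1 hk).2) (inv_mem hg)⟩)
      fun g hg => mem_normalizer_of_conj_mem fun k hk => ?_)
    rw [hcomm g hg k hk.1, mul_inv_cancel_right]
    exact hk
  have hKbot : K = ⊥ := by
    refine (hMmin K hKn inf_le_left).resolve_right fun h => hR ?_
    rw [← normalizer_eq_top_iff, ← top_le_iff]
    exact hsup.ge.trans (sup_le le_rfl (h.ge.trans inf_le_right))
  refine ⟨hKbot, hsup, hcomm, fun {_} f hf => ?_, fun a ha b hb => ?_⟩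
  · by_contra hd
    have hle : (R : Subgroup G) ≤ cst M (fun m => (f m : ℂ)) :=
      sylow_le_of_not_dvd R (le_cst (Chars.isIrrCharacter_of_hom f)) hd
    apply hf
    refine MonoidHom.ext fun m => ?_
    haveI := Fintype.ofFinite (R : Subgroup G)
    letI : CommGroup M := { (inferInstance : Group M) with mul_comm := fun a b => Subtype.ext (hcomm a a.2 b b.2) }
    let cj : ↥(R : Subgroup G) → M := fun a => ⟨(a : G) * m * (a : G)⁻¹, hMn.conj_mem _ m.2 a⟩
    let cmap : ↥(R : Subgroup G) → (M →* M) := fun k =>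
      (MulAut.conjNormal (k : G) : MulAut M).toMonoidHom
    have hfix : (∏ a, cj a : M) = 1 := by
      refine Subtype.ext (mem_bot.1 (hKbot.le (mem_inf.2 ⟨(∏ a, cj a : M).2, ?_⟩ : ((∏ a, cj a : M) : G) ∈ K)))
      refine centralizer_le_normalizer _ (mem_centralizer_iff.2 fun k hk => ?_)
      have h2 : cmap ⟨k, hk⟩ (∏ a, cj a) = ∏ a, cj a := by
        rw [map_prod]
        exact Fintype.prod_equiv (Equiv.mulLeft (⟨k, hk⟩ : (R : Subgroup G))) _ _ fun a =>
          Subtype.ext (by simp [cmap, cj, MulAut.conjNormal_apply, mul_assoc])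
      have h3 := congrArg Subtype.val h2
      simp only [cmap, MulEquiv.coe_toMonoidHom, MulAut.conjNormal_apply] at h3
      exact mul_inv_eq_iff_eq_mul.1 h3
    have h1 : ∀ a : (R : Subgroup G), f (cj a) = f m := fun a =>
      Units.ext (congrFun (mem_cst.1 (hle a.2)) m)
    have h2 := congrArg f hfix
    rw [map_prod, Finset.prod_congr rfl (fun a _ => h1 a), Finset.prod_const, Finset.card_univ,
      map_one, Fintype.card_eq_nat_card] at h2
    obtain ⟨i, hi⟩ := IsPGroup.iff_card.1 R.isPGroup'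
    rw [hi] at h2
    rw [MonoidHom.one_apply]
    refine eq_one_of_pow_eq_one (((Nat.coprime_primes Fact.out he).2 her.symm).pow_left i) h2 ?_
    rw [← map_pow, show m ^ e = 1 from Subtype.ext (by simpa using hee m m.2), map_one]
  · refine commutatorElement_eq_one_iff_mul_comm.1 (mem_bot.1 ?_)
    rw [← hdisj]
    exact ⟨hc a ha b hb, commutator_le_self (R : Subgroup G) (commutator_mem_commutator ha hb)⟩

/-- A bad group with all proper quotients good does not exist. -/
theorem Bad.false_of_minimal (hB : Bad G π)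
    (hmin : ∀ (M : Subgroup G) [M.Normal], M ≠ ⊥ → ¬ Bad (G ⧸ M) π) : False := by
  classical
  haveI := Fintype.ofFinite G
  have hnn : ∀ {r : ℕ}, r ∈ π → ∀ [Fact r.Prime] (R : Sylow r G), ¬ (R : Subgroup G).Normal :=
    fun hr _ R => hB.not_normal hmin hr R
  obtain ⟨s₀, hs₀⟩ := Finset.card_pos.1 (hB.card_eq ▸ (by norm_num : 0 < 3))
  haveI : Fact s₀.Prime := ⟨hB.prime s₀ hs₀⟩
  have htop : (⊤ : Subgroup G) ≠ ⊥ := by
    intro h
    obtain ⟨R⟩ : Nonempty (Sylow s₀ G) := inferInstance
    refine hnn hs₀ R ?_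
    rw [show (R : Subgroup G) = ⊥ from le_bot_iff.1 (h ▸ le_top)]
    infer_instance
  obtain ⟨M, hMn, hMne, -, hMmin⟩ := MinimalNormal.exists_minimal_normal_le inferInstance htop
  haveI := hMn
  obtain ⟨r, hr, R, hRn, hRc⟩ := hB.drop M (hmin M hMne)
  haveI := Fact.mk (hB.prime r hr)
  have hM := moved hMne hMmin R (hnn hr R) hRn hRc
  set N := normalizer ((R : Subgroup G) : Set G)
  -- `M` is its own centralizer
  have hcent : ∀ g, (∀ m ∈ M, g * m = m * g) → g ∈ M := by
    set C := centralizer (M : Set G) ⊓ N with hC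
    have hCn : C.Normal := by
      rw [← normalizer_eq_top_iff, ← top_le_iff]
      refine hM.sup.ge.trans (sup_le (fun g hg => mem_normalizer_of_conj_mem fun k hk =>
        mem_inf.2 ⟨(inferInstance : (centralizer (M : Set G)).Normal).conj_mem k (mem_inf.1 hk).1 g,
          mul_mem (mul_mem hg (mem_inf.1 hk).2) (inv_mem hg)⟩) fun g hg => mem_normalizer_of_conj_mem fun k hk => ?_)
      rw [mem_centralizer_iff.1 hk.1 g hg, mul_inv_cancel_right]
      exact hk
    have hCbot : C = ⊥ := by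
      by_contra hne
      obtain ⟨M', hM'n, hM'ne, hM'C, hM'min⟩ := MinimalNormal.exists_minimal_normal_le hCn hne
      haveI := hM'n
      have hMM' : M ⊓ M' = ⊥ := le_bot_iff.1 ((inf_le_inf le_rfl (hM'C.trans inf_le_right)).trans hM.inf.le)
      obtain ⟨r', hr', R', hR'n, hR'c⟩ := hB.drop M' (hmin M' hM'ne)
      haveI := Fact.mk (hB.prime r' hr')
      have hM' := moved hM'ne hM'min R' (hnn hr' R') hR'n hR'c
      rcases eq_or_ne r' r with rfl | hne'
      · -- the same prime would centralise `M`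
        have hle : (R : Subgroup G) ≤ (R' : Subgroup G) ⊔ M' := by
          haveI := hR'n
          obtain ⟨g, hg⟩ := MulAction.exists_smul_eq G R' R
          rw [← hg, Sylow.coe_subgroup_smul]
          rintro _ ⟨k, hk, rfl⟩
          exact hR'n.conj_mem k (mem_sup_left hk) g
        have heq : (R : Subgroup G) ⊔ M' = (R' : Subgroup G) ⊔ M' := by
          haveI := hR'n
          refine eq_of_le_of_card_ge (sup_le hle le_sup_right) (le_of_eq ?_)
          obtain ⟨g, hg⟩ := MulAction.exists_smul_eq G R' R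
          rw [← hg, Sylow.coe_subgroup_smul]
          have : MulAut.conj g • ((R' : Subgroup G) ⊔ M') = (MulAut.conj g • (R' : Subgroup G)) ⊔ M' := by
            rw [smul_sup, Subgroup.Normal.conj_smul_eq_self g M']
          rw [← this, SZ.card_conj_smul]
        haveI : ((R : Subgroup G) ⊔ M').Normal := heq ▸ hR'n
        have hsub : (R : Subgroup G) ⊔ M' ≤ N := sup_le le_normalizer (hM'C.trans inf_le_right)
        refine hnn hr R ?_
        rw [← normalizer_eq_top_iff, ← top_le_iff]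
        refine hM.sup.ge.trans (sup_le le_rfl fun m hm => mem_normalizer_of_conj_mem fun a ha => ?_)
        have h1 : m * a * m⁻¹ * a⁻¹ ∈ M ⊓ N := by
          refine mem_inf.2 ⟨?_, mul_mem (hsub ((inferInstance : ((R : Subgroup G) ⊔ M').Normal).conj_mem a
            (mem_sup_left ha) m)) (inv_mem (le_normalizer ha))⟩
          rw [mul_assoc, mul_assoc, ← mul_assoc a]
          exact mul_mem hm (hMn.conj_mem _ (inv_mem hm) a)
        rw [hM.inf, mem_bot, mul_inv_eq_one] at h1
        rwa [h1]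
      · -- the product of two linear characters
        have hc12 : ∀ a : M, ∀ b : M', Commute (a : G) (b : G) := fun a b =>
          mem_centralizer_iff.1 (hM'C b.2).1 a a.2
        let e0 : M × M' →* (M ⊔ M' : Subgroup G) :=
          MonoidHom.mk' (fun ab => ⟨(ab.1 : G) * ab.2, mul_mem (mem_sup_left ab.1.2) (mem_sup_right ab.2.2)⟩)
            fun ab cd => Subtype.ext (by
              show ((ab.1 : G) * cd.1) * ((ab.2 : G) * cd.2) = ((ab.1 : G) * ab.2) * ((cd.1 : G) * cd.2)
              rw [mul_assoc, ← mul_assoc (cd.1 : G), (hc12 cd.1 ab.2).eq]; simp only [mul_assoc])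
        have hinj : Function.Injective e0 := by
          rw [injective_iff_map_eq_one]
          rintro ⟨a, b⟩ hab
          have h1 : (a : G) * b = 1 := congrArg Subtype.val hab
          have h2 : (a : G) ∈ M ⊓ M' := mem_inf.2 ⟨a.2, by rw [eq_inv_of_mul_eq_one_left h1]; exact inv_mem b.2⟩
          rw [hMM', mem_bot] at h2
          rw [h2, one_mul] at h1
          exact Prod.ext (Subtype.ext h2) (Subtype.ext h1)
        have hsurj : Function.Surjective e0 := by
          rintro ⟨x, hx⟩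
          obtain ⟨a, ha, b, hb, rfl⟩ := mem_sup_of_normal_right.1 hx
          exact ⟨(⟨a, ha⟩, ⟨b, hb⟩), rfl⟩
        let e1 := MulEquiv.ofBijective e0 ⟨hinj, hsurj⟩
        have getHom : ∀ (K : Subgroup G), K ≠ ⊥ → (∀ a ∈ K, ∀ b ∈ K, a * b = b * a) →
            ∃ f : K →* ℂˣ, f ≠ 1 := by
          intro K hK hKc
          letI : CommGroup K :=
            { (inferInstance : Group K) with mul_comm := fun a b => Subtype.ext (hKc a a.2 b b.2) }
          obtain ⟨k, hk, hk1⟩ := (bot_or_exists_ne_one K).resolve_left hK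
          obtain ⟨f, hf⟩ := CommGroup.exists_apply_ne_one_of_hasEnoughRootsOfUnity K ℂ
            (a := (⟨k, hk⟩ : K)) (fun h => hk1 (congrArg Subtype.val h))
          exact ⟨f, fun h => hf (by rw [h]; rfl)⟩
        obtain ⟨f, hf⟩ := getHom M hMne hM.comm
        obtain ⟨f', hf'⟩ := getHom M' hM'ne hM'.comm
        let ψ : (M ⊔ M' : Subgroup G) →* ℂˣ :=
          (f.coprod f').comp e1.symm.toMonoidHom
        have hψ : ∀ a : M, ∀ b : M', ψ (e0 (a, b)) = f a * f' b := fun a b => by
          show (f.coprod f') (e1.symm (e1 (a, b))) = _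
          rw [MulEquiv.symm_apply_apply]; rfl
        haveI : (M ⊔ M').Normal := sup_normal M M'
        obtain ⟨n, hn, hdn⟩ := hasDeg_over (M ⊔ M') (Chars.isIrrCharacter_of_hom ψ) (d := 1) (by simp)
        have hle1 : cst (M ⊔ M') (fun z => (ψ z : ℂ)) ≤ cst M (fun z => (f z : ℂ)) := fun g hg => by
          refine mem_cst.2 (funext fun a => ?_)
          have h := congrFun (mem_cst.1 hg) (e0 (a, 1))
          have e : (⟨g * (e0 (a, 1) : G) * g⁻¹, (inferInstance : (M ⊔ M').Normal).conj_mem _ (e0 (a, 1)).2 g⟩ :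
              (M ⊔ M' : Subgroup G)) = e0 (⟨g * a * g⁻¹, hMn.conj_mem _ a.2 g⟩, 1) :=
            Subtype.ext (by simp [e0])
          change (ψ ⟨g * (e0 (a, 1) : G) * g⁻¹, _⟩ : ℂ) = _ at h
          rw [e, hψ, hψ, map_one, mul_one, mul_one] at h
          exact h
        have hle2 : cst (M ⊔ M') (fun z => (ψ z : ℂ)) ≤ cst M' (fun z => (f' z : ℂ)) := fun g hg => by
          refine mem_cst.2 (funext fun b => ?_)
          have h := congrFun (mem_cst.1 hg) (e0 (1, b))
          have e : (⟨g * (e0 (1, b) : G) * g⁻¹, (inferInstance : (M ⊔ M').Normal).conj_mem _ (e0 (1, b)).2 g⟩ :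
              (M ⊔ M' : Subgroup G)) = e0 (1, ⟨g * b * g⁻¹, hM'n.conj_mem _ b.2 g⟩) :=
            Subtype.ext (by simp [e0])
          change (ψ ⟨g * (e0 (1, b) : G) * g⁻¹, _⟩ : ℂ) = _ at h
          rw [e, hψ, hψ, map_one, one_mul, one_mul] at h
          exact h
        refine hB.pair r hr r' hr' hne'.symm n hn (dvd_trans ?_ ((dvd_mul_right _ 1).trans hdn))
        exact ((Nat.coprime_primes Fact.out Fact.out).2 hne'.symm).mul_dvd_of_dvd_of_dvd
          ((hM.dvd f hf).trans (index_dvd_of_le hle1)) ((hM'.dvd f' hf').trans (index_dvd_of_le hle2))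
    intro g hg
    obtain ⟨h, hh, m, hm, rfl⟩ := mem_sup_of_normal_right.1 (hM.sup.ge (mem_top g))
    have : h ∈ C := by
      refine ⟨mem_centralizer_iff.2 fun k hk => ?_, hh⟩
      calc k * h = k * ((h * m) * m⁻¹) := by group
        _ = ((h * m) * k) * m⁻¹ := by rw [← mul_assoc, hg k hk]
        _ = h * (m * k) * m⁻¹ := by group
        _ = h * k := by rw [hM.comm m hm k hk]; group
    rw [hCbot, mem_bot] at this
    rwa [this, one_mul]
  -- the two other primes
  obtain ⟨p, q, hpπ, hqπ, hpq, hpr, hqr⟩ := hB.two_others hr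
  obtain ⟨hMab, e, he, hee⟩ := MinimalNormal.elementaryAbelian M hMne hMmin
  haveI := Fact.mk he
  haveI := finite_hom M
  have hexp : ∀ w : Additive (M →* ℂˣ), e • w = 0 := fun w => by
    show Additive.ofMul ((Additive.toMul w) ^ e) = Additive.ofMul 1
    congr 1
    refine MonoidHom.ext fun m => ?_
    rw [MonoidHom.pow_apply, ← map_pow, MonoidHom.one_apply, ← map_one (Additive.toMul w)]
    exact congrArg _ (Subtype.ext (hee _ m.2))
  letI : Module (ZMod e) (Additive (M →* ℂˣ)) :=
    AddCommGroup.zmodModule (G := Additive (M →* ℂˣ)) (n := e) hexp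
  let ρ : G →* (Additive (M →* ℂˣ) ≃ₗ[ZMod e] Additive (M →* ℂˣ)) :=
    linRep (W := M →* ℂˣ) e (charAct M)
  letI : CommGroup M :=
    { (inferInstance : Group M) with mul_comm := fun a b => Subtype.ext (hM.comm a a.2 b b.2) }
  have hker : ρ.ker = M := by
    ext g
    constructor
    · intro hg
      refine hcent g fun m hm => ?_
      by_contra hne
      have hne' : (⟨g⁻¹ * m * g * m⁻¹, mul_mem (hMn.conj_mem' m hm g) (inv_mem hm)⟩ : M) ≠ 1 := by
        intro h
        apply hne
        have h' : g⁻¹ * m * g * m⁻¹ = 1 := congrArg Subtype.val h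
        rw [mul_inv_eq_one] at h'
        conv_lhs => rw [← h']
        group
      obtain ⟨f, hf⟩ := CommGroup.exists_apply_ne_one_of_hasEnoughRootsOfUnity M ℂ hne'
      apply hf
      have h : charAct M g f = f :=
        congrArg Additive.toMul (LinearEquiv.congr_fun (MonoidHom.mem_ker.1 hg) (Additive.ofMul f))
      have h1 := DFunLike.congr_fun h ⟨m, hm⟩
      rw [charAct_apply] at h1
      rw [show (⟨g⁻¹ * m * g * m⁻¹, mul_mem (hMn.conj_mem' m hm g) (inv_mem hm)⟩ : M) =
        (⟨g⁻¹ * m * g, hMn.conj_mem' m hm g⟩ : M) * (⟨m, hm⟩ : M)⁻¹ from rfl, map_mul, map_inv, h1,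
        mul_inv_cancel]
    · intro hg
      refine MonoidHom.mem_ker.2 (LinearEquiv.ext fun w => ?_)
      show Additive.ofMul (charAct M g (Additive.toMul w)) = w
      rw [(charAct_eq_self_iff M g (Additive.toMul w)).2 (le_cst (Chars.isIrrCharacter_of_hom _) hg)]
      rfl
  haveI : Finite ρ.range := Finite.of_surjective _ ρ.rangeRestrict_surjective
  haveI : Group.IsSolvable ρ.range := solvable_of_surjective ρ.rangeRestrict_surjective
  letI := Fintype.ofFinite ρ.range
  have hkerR : ρ.rangeRestrict.ker = M := by rw [MonoidHom.ker_rangeRestrict, hker]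
  have good : ∀ s ∈ π, s ≠ r → ∀ v, v ≠ 0 → Good ρ.range.subtype s v := by
    intro s hs hsr v hv
    set f : M →* ℂˣ := Additive.toMul v
    have hf : f ≠ 1 := fun h => hv (Additive.toMul.injective h)
    set θ : M → ℂ := fun m => (f m : ℂ)
    have hθ : IsIrrCharacter M θ := Chars.isIrrCharacter_of_hom f
    set T := cst M θ
    -- split extension
    have hdec : ∀ t : T, ∃ m : M, (m : G)⁻¹ * (t : G) ∈ N := fun t => by
      obtain ⟨h, hh, m, hm, hhm⟩ := mem_sup_of_normal_right.1 (hM.sup.ge (mem_top (t : G)))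
      refine ⟨⟨h * m * h⁻¹, hMn.conj_mem m hm h⟩, ?_⟩
      show (h * m * h⁻¹)⁻¹ * (t : G) ∈ N
      rw [← hhm, show (h * m * h⁻¹)⁻¹ * (h * m) = h by group]
      exact hh
    choose c hc using hdec
    have hcu : ∀ (t : T) (m : M), (m : G)⁻¹ * (t : G) ∈ N → c t = m := by
      intro t m hm
      have h1 : (m : G)⁻¹ * c t ∈ M ⊓ N := mem_inf.2 ⟨mul_mem (inv_mem m.2) (c t).2, by
        have := mul_mem hm (inv_mem (hc t))
        convert this using 1; group⟩
      rw [hM.inf, mem_bot, inv_mul_eq_one] at h1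
      exact (Subtype.ext h1).symm
    let μ : T →* ℂˣ := MonoidHom.mk' (fun t => f (c t)) fun t t' => by
      set h := (c t : G)⁻¹ * (t : G) with hh
      have hhT : h ∈ T := mul_mem (inv_mem (le_cst hθ (c t).2)) t.2
      rw [hcu (t * t') (c t * ⟨h * c t' * h⁻¹, hMn.conj_mem _ (c t').2 h⟩) (by
        show ((c t : G) * (h * c t' * h⁻¹))⁻¹ * ((t : G) * (t' : G)) ∈ N
        rw [show ((c t : G) * (h * c t' * h⁻¹))⁻¹ * ((t : G) * (t' : G)) =
          h * ((c t' : G)⁻¹ * t') by rw [hh]; group]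
        exact mul_mem (hc t) (hc t')), map_mul]
      congr 1
      exact Units.ext (congrFun (mem_cst.1 hhT) (c t'))
    obtain ⟨P, hP, hPi, hPc, hPle, hPn⟩ := good_of_ext M hθ (d := 1) (by simp [θ])
      (fun t => (μ t : ℂ)) (Chars.isIrrCharacter_of_hom μ) (fun n => by
        show (f (c ⟨(n : G), _⟩) : ℂ) = f n
        rw [hcu _ n (by rw [inv_mul_cancel]; exact one_mem _)])
      (hB.prime s hs) (hB.prime r hr) hsr (hB.pair s hs r hr hsr)
      (by rw [mul_one]; exact hM.dvd f hf) ρ.rangeRestrict ρ.rangeRestrict_surjective hkerR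
    refine ⟨P, hP, hPi, hPc, fun k hk => ?_, fun x hx k hk => hPn x ?_ k hk⟩
    · obtain ⟨g, hg, rfl⟩ := hPle hk
      exact congrArg Additive.ofMul ((charAct_eq_self_iff M g f).2 hg)
    · obtain ⟨g, rfl⟩ := ρ.rangeRestrict_surjective x
      exact ⟨g, (charAct_eq_self_iff M g f).1 (congrArg Additive.toMul hx), rfl⟩
  have hdvd : ∀ s ∈ π, s ≠ r → s ∣ Nat.card ρ.range := by
    intro s hs hsr
    haveI := Fact.mk (hB.prime s hs)
    by_contra hd
    rw [← index_ker, hker] at hd
    obtain ⟨S⟩ : Nonempty (Sylow s G) := inferInstance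
    refine hnn hs S ?_
    have hle : (S : Subgroup G) ≤ M := by
      intro a ha
      obtain ⟨i, hi⟩ := S.isPGroup' ⟨a, ha⟩
      have h1 : (a : G ⧸ M) ^ s ^ i = 1 := by
        rw [← QuotientGroup.mk_pow, show a ^ s ^ i = 1 from congrArg Subtype.val hi]; rfl
      have h2 : (a : G ⧸ M) ^ M.index = 1 := by
        rw [index_eq_card]; exact pow_card_eq_one'
      exact (QuotientGroup.eq_one_iff a).1 (eq_one_of_pow_eq_one
        (((hB.prime s hs).coprime_iff_not_dvd.2 hd).pow_left i) h1 h2)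
    by_cases hse : s = e
    · subst hse
      have hMp : IsPGroup s M := fun z => ⟨1, Subtype.ext (by simpa using hee z z.2)⟩
      rw [le_antisymm hle ((PSolvable.le_pCore hMp).trans (PSolvable.pCore_le_sylow S))]
      exact hMn
    · rw [show (S : Subgroup G) = ⊥ from by
        rw [← inf_eq_left.2 hle]
        exact disjoint_iff.1 (IsPGroup.disjoint_of_ne s e hse _ _ S.isPGroup'
          (fun z => ⟨1, Subtype.ext (by simpa using hee z z.2)⟩))]
      infer_instance
  haveI : Nontrivial (Additive (M →* ℂˣ)) := by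
    obtain ⟨m, hm, hm1⟩ := (bot_or_exists_ne_one M).resolve_left hMne
    obtain ⟨f, hf⟩ := CommGroup.exists_apply_ne_one_of_hasEnoughRootsOfUnity M ℂ
      (a := (⟨m, hm⟩ : M)) (fun h => hm1 (congrArg Subtype.val h))
    refine ⟨⟨Additive.ofMul f, 0, fun h => hf ?_⟩⟩
    rw [show f = 1 from Additive.ofMul.injective h]; rfl
  have S : Setup ρ.range.subtype p q :=
    ⟨hB.prime p hpπ, hB.prime q hqπ, hpq, Subtype.val_injective, hdvd p hpπ hpr, hdvd q hqπ hqr,
      inferInstance, good p hpπ hpr, good q hqπ hqr⟩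
  obtain ⟨n, hn, hdn⟩ := exists_deg S
  exact hB.pair p hpπ q hqπ hpq n
    (hasDeg_of_surjective ρ.rangeRestrict ρ.rangeRestrict_surjective hn) hdn

universe u

/-- **Pálfy**: no solvable group is bad. -/
theorem not_bad (G : Type u) [Group G] [Finite G] [Group.IsSolvable G] (π : Finset ℕ) :
    ¬ Bad G π := by
  induction hcard : Nat.card G using Nat.strong_induction_on generalizing G with
  | _ n ih =>
  subst hcard
  refine fun hB => hB.false_of_minimal fun M _ hMne => ?_
  refine ih _ ?_ (G ⧸ M) rfl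
  rw [← M.card_mul_index, index_eq_card]
  exact lt_mul_of_one_lt_left Nat.card_pos (one_lt_card_iff_ne_bot M |>.2 hMne)

end Cfsg.Agent.Lib.SolvDegrees.Palfy
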